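import Mathlib

/-!
# Basic finite group lemmas (H73.Bas)
-/

set_option autoImplicit false
open scoped commutatorElement

namespace H73.Bas

variable {G : Type*} [Group G]

theorem nilp_of_le {H M : Subgroup G} (h : H ≤ M) (hM : Group.IsNilpotent M) : Group.IsNilpotent H := by
  have : Group.IsNilpotent (H.subgroupOf M) := inferInstance
  exact Group.nilpotent_of_surjective (Subgroup.subgroupOfEquivOfLe h).toMonoidHom
    (Subgroup.subgroupOfEquivOfLe h).surjective

theorem nilp_map {G' : Type*} [Group G'] (f : G →* G') (H : Subgroup G) (hH : Group.IsNilpotent H) :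
    Group.IsNilpotent (H.map f) :=
  Group.nilpotent_of_surjective (f.subgroupMap H) (f.subgroupMap_surjective H)

theorem nilp_of_map {G' : Type*} [Group G'] {f : G →* G'} (hf : Function.Injective f) (H : Subgroup G)
    (hH : Group.IsNilpotent (H.map f)) : Group.IsNilpotent H :=
  Group.nilpotent_of_surjective (H.equivMapOfInjective f hf).symm.toMonoidHom
    (H.equivMapOfInjective f hf).symm.surjective

theorem nilp_congr_subgroupOf {H K : Subgroup G} (h : Group.IsNilpotent (H.subgroupOf K)) :
    Group.IsNilpotent (H ⊓ K : Subgroup G) := by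
  have := nilp_map K.subtype (H.subgroupOf K) h
  rwa [Subgroup.subgroupOf_map_subtype] at this

theorem card_lt_of_ne_top [Finite G] {H : Subgroup G} (h : H ≠ ⊤) : Nat.card H < Nat.card G := by
  rw [← Subgroup.card_mul_index H]
  have h1 : H.index ≠ 1 := fun h1 => h (Subgroup.index_eq_one.mp h1)
  have h2 : 0 < H.index := Nat.pos_of_ne_zero Subgroup.index_ne_zero_of_finite
  have h3 : 0 < Nat.card H := Nat.card_pos
  nlinarith [show 2 ≤ H.index by omega]

theorem card_quotient_lt [Finite G] {N : Subgroup G} (h : N ≠ ⊥) : Nat.card (G ⧸ N) < Nat.card G := by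
  rw [Subgroup.card_eq_card_quotient_mul_card_subgroup N]
  have h1 : 1 < Nat.card N := by
    rw [Subgroup.one_lt_card_iff_ne_bot]; exact h
  have h2 : 0 < Nat.card (G ⧸ N) := Nat.card_pos
  nlinarith

theorem card_subgroupOf (H K : Subgroup G) : Nat.card (H.subgroupOf K) = Nat.card (H ⊓ K : Subgroup G) := by
  rw [← Subgroup.inf_subgroupOf_right, Nat.card_congr (Subgroup.subgroupOfEquivOfLe (inf_le_right : H ⊓ K ≤ K)).toEquiv]

/-- order formula for `K N` with `N` normal -/
theorem card_sup_mul_card_inf [Finite G] (K N : Subgroup G) [N.Normal] :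
    Nat.card (K ⊔ N : Subgroup G) * Nat.card (K ⊓ N : Subgroup G) = Nat.card K * Nat.card N := by
  have h1 : N.relIndex (K ⊔ N) = N.relIndex K := Subgroup.relIndex_sup_right K N
  have a1 : Nat.card N * N.relIndex (K ⊔ N) = Nat.card (K ⊔ N : Subgroup G) := by
    have := (N.subgroupOf (K ⊔ N)).card_mul_index
    rwa [Nat.card_congr (Subgroup.subgroupOfEquivOfLe (le_sup_right : N ≤ K ⊔ N)).toEquiv] at this
  have a2 : Nat.card (K ⊓ N : Subgroup G) * N.relIndex K = Nat.card K := by
    have := (N.subgroupOf K).card_mul_index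
    rw [card_subgroupOf, inf_comm] at this
    exact this
  rw [h1] at a1
  rw [← a1, ← a2]; ring

theorem relIndex_sup_eq [Finite G] (K N : Subgroup G) [N.Normal] : K.relIndex (K ⊔ N) = K.relIndex N := by
  have hcards := card_sup_mul_card_inf K N
  have b1 : Nat.card (K ⊓ N : Subgroup G) * K.relIndex N = Nat.card N := by
    have := (K.subgroupOf N).card_mul_index
    rwa [card_subgroupOf] at this
  have b2 : Nat.card K * K.relIndex (K ⊔ N) = Nat.card (K ⊔ N : Subgroup G) := by
    have := (K.subgroupOf (K ⊔ N)).card_mul_index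
    rwa [Nat.card_congr (Subgroup.subgroupOfEquivOfLe (le_sup_left : K ≤ K ⊔ N)).toEquiv] at this
  have p1 : 0 < Nat.card (K ⊓ N : Subgroup G) := Nat.card_pos
  have p2 : 0 < Nat.card K := Nat.card_pos
  rw [← b1, ← b2] at hcards
  have : Nat.card K * Nat.card (K ⊓ N : Subgroup G) * K.relIndex (K ⊔ N) = Nat.card K * Nat.card (K ⊓ N : Subgroup G) * K.relIndex N := by
    linarith [hcards]
  exact Nat.eq_of_mul_eq_mul_left (Nat.mul_pos p2 p1) this

/-- `[N : N ∩ K]` divides `[G : K]` for `N` normal -/
theorem relIndex_dvd_index [Finite G] (K N : Subgroup G) [N.Normal] : K.relIndex N ∣ K.index := by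
  rw [← relIndex_sup_eq]
  exact Subgroup.relIndex_dvd_index_of_le le_sup_left

/-- a subgroup normalized by two subgroups that generate the group is normal -/
theorem normal_of_sup_eq_top {A B Z : Subgroup G} (h : A ⊔ B = ⊤) (hA : A ≤ Subgroup.normalizer (Z : Set G))
    (hB : B ≤ Subgroup.normalizer (Z : Set G)) : Z.Normal := by
  rw [← Subgroup.normalizer_eq_top_iff, eq_top_iff, ← h]
  exact sup_le hA hB

/-- elements of order a power of `p` lie in a normal Sylow `p`-subgroup -/
theorem mem_sylow_of_normal [Finite G] {p : ℕ} [Fact p.Prime] (P : Sylow p G) (hP : (P : Subgroup G).Normal) {x : G}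
    (hx : ∃ k, orderOf x = p ^ k) : x ∈ (P : Subgroup G) := by
  obtain ⟨k, hk⟩ := hx
  have h1 : orderOf (x : G ⧸ (P : Subgroup G)) ∣ p ^ k := by
    rw [← hk]; exact orderOf_map_dvd (QuotientGroup.mk' _) x
  have h2 : orderOf (x : G ⧸ (P : Subgroup G)) ∣ (P : Subgroup G).index := by
    rw [Subgroup.index_eq_card]; exact orderOf_dvd_natCard _
  have h3 : Nat.Coprime (p ^ k) (P : Subgroup G).index :=
    Nat.Coprime.pow_left k ((Nat.Prime.coprime_iff_not_dvd Fact.out).mpr P.not_dvd_index)
  rw [← QuotientGroup.eq_one_iff, ← orderOf_eq_one_iff]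
  exact Nat.eq_one_of_dvd_coprimes h3 h1 h2

theorem isPGroup_of_prime_dvd [Finite G] {p : ℕ} (h : ∀ q : ℕ, q.Prime → q ∣ Nat.card G → q = p) :
    IsPGroup p G := by
  refine IsPGroup.of_card (n := _) (Nat.eq_prime_pow_of_unique_prime_dvd Nat.card_pos.ne' ?_)
  intro q hq hqd
  exact h q hq hqd

theorem ker_inter_nilpotent {H : Subgroup G} (N L : Subgroup G) [N.Normal] [L.Normal] (h : N ⊓ L = ⊥)
    (h1 : Group.IsNilpotent (H.map (QuotientGroup.mk' N))) (h2 : Group.IsNilpotent (H.map (QuotientGroup.mk' L))) :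
    Group.IsNilpotent H := by
  let f : H →* (H.map (QuotientGroup.mk' N)) × (H.map (QuotientGroup.mk' L)) :=
    ((QuotientGroup.mk' N).subgroupMap H).prod ((QuotientGroup.mk' L).subgroupMap H)
  have hf : Function.Injective f := by
    rw [injective_iff_map_eq_one]
    intro a ha
    have h3 := congrArg (fun t => ((t.1 : H.map (QuotientGroup.mk' N)) : G ⧸ N)) ha
    have h4 := congrArg (fun t => ((t.2 : H.map (QuotientGroup.mk' L)) : G ⧸ L)) ha
    have h5 : (a : G) ∈ N := (QuotientGroup.eq_one_iff _).mp h3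
    have h6 : (a : G) ∈ L := (QuotientGroup.eq_one_iff _).mp h4
    have h7 : (a : G) ∈ N ⊓ L := ⟨h5, h6⟩
    rw [h, Subgroup.mem_bot] at h7
    exact Subtype.ext h7
  have h8 : Group.IsNilpotent f.range := inferInstance
  exact Group.nilpotent_of_surjective (MonoidHom.ofInjective hf).symm.toMonoidHom (MonoidHom.ofInjective hf).symm.surjective

end H73.Bas
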