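import Mathlib

/-!
# Splitting elements: norm identities for elements `g` with `(v g) ^ p = 1` for all `v ∈ V` (H73.Split)
-/

set_option autoImplicit false
open scoped IsMulCommutative

namespace H73.Split

section ring

variable {A : Type*} [Ring A]

theorem sum_pow_mul {p : ℕ} {Z : A} (hZ : Z ^ p = 1) {i : ℕ} (hi : Nat.Coprime i p) :
    ∑ j ∈ Finset.range p, Z ^ (j * i) = ∑ j ∈ Finset.range p, Z ^ j := by
  rcases Nat.eq_zero_or_pos p with hp | hp
  · subst hp; simp
  have hinj : Set.InjOn (fun j => (j * i) % p) (Finset.range p : Set ℕ) := by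
    intro a ha b hb hab
    have h1 : a * i ≡ b * i [MOD p] := hab
    have h2 : a ≡ b [MOD p] := Nat.ModEq.cancel_right_of_coprime hi.symm h1
    simp only [Finset.coe_range, Set.mem_Iio] at ha hb
    exact Nat.ModEq.eq_of_lt_of_lt h2 ha hb
  have hmaps : Set.MapsTo (fun j => (j * i) % p) (Finset.range p : Set ℕ) (Finset.range p : Set ℕ) := by
    intro a _
    simp only [Finset.coe_range, Set.mem_Iio]
    exact Nat.mod_lt _ hp
  refine Finset.sum_nbij (fun j => (j * i) % p) (fun a ha => hmaps ha) hinj ?_ ?_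
  · exact Finset.surjOn_of_injOn_of_card_le _ hmaps hinj le_rfl
  · intro a _
    exact pow_eq_pow_mod _ hZ

/-- commuting operators, elementary abelian case -/
theorem card_eq_sum {p : ℕ} [hp : Fact p.Prime] {Y Z : A} (hYZ : Commute Y Z) (hZ : Z ^ p = 1)
    (h : ∀ j ∈ Finset.range p, ∑ i ∈ Finset.range p, (Y * Z ^ j) ^ i = 0) :
    (p : A) = ∑ j ∈ Finset.range p, Z ^ j := by
  set T := ∑ j ∈ Finset.range p, Z ^ j with hT
  have h0 : 0 < p := hp.out.pos
  have hY : ∑ i ∈ Finset.range p, Y ^ i = 0 := by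
    have := h 0 (Finset.mem_range.mpr h0)
    simpa using this
  have h1 : ∑ j ∈ Finset.range p, ∑ i ∈ Finset.range p, (Y * Z ^ j) ^ i = 0 :=
    Finset.sum_eq_zero h
  have h2 : ∀ j i, (Y * Z ^ j) ^ i = Y ^ i * Z ^ (j * i) := by
    intro j i
    rw [(hYZ.pow_right j).mul_pow, pow_mul]
  simp_rw [h2] at h1
  rw [Finset.sum_comm] at h1
  simp_rw [← Finset.mul_sum] at h1
  obtain ⟨q, hq⟩ : ∃ q, p = q + 1 := ⟨p - 1, by omega⟩
  have h3 : ∑ i ∈ Finset.range p, Y ^ i * ∑ j ∈ Finset.range p, Z ^ (j * i) =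
      (∑ i ∈ Finset.range q, Y ^ (i + 1) * T) + (p : A) := by
    conv_lhs => rw [hq, Finset.sum_range_succ']
    congr 1
    · refine Finset.sum_congr rfl ?_
      intro i hi
      rw [Finset.mem_range] at hi
      congr 1
      rw [← hq, hT]
      refine sum_pow_mul hZ ?_
      rw [Nat.coprime_comm, Nat.Prime.coprime_iff_not_dvd hp.out]
      intro hd
      have := Nat.le_of_dvd (by omega) hd
      omega
    · simp [hq]
  rw [h3, ← Finset.sum_mul] at h1
  have h4 : ∑ i ∈ Finset.range q, Y ^ (i + 1) = -1 := by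
    rw [hq, Finset.sum_range_succ', pow_zero] at hY
    exact eq_neg_of_add_eq_zero_left hY
  rw [h4, neg_mul, one_mul, neg_add_eq_zero] at h1
  exact h1.symm

theorem card_mul_eq {p : ℕ} [hp : Fact p.Prime] {Y Z : A} (hYZ : Commute Y Z) (hZ : Z ^ p = 1)
    (h : ∀ j ∈ Finset.range p, ∑ i ∈ Finset.range p, (Y * Z ^ j) ^ i = 0) :
    (p : A) * Z = p := by
  have h1 := card_eq_sum hYZ hZ h
  obtain ⟨q, hq⟩ : ∃ q, p = q + 1 := ⟨p - 1, by have := hp.out.pos; omega⟩
  have h2 : (∑ j ∈ Finset.range p, Z ^ j) * Z = ∑ j ∈ Finset.range p, Z ^ j := by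
    rw [Finset.sum_mul]
    simp_rw [← pow_succ]
    conv_lhs => rw [hq, Finset.sum_range_succ, ← hq, hZ]
    conv_rhs => rw [hq, Finset.sum_range_succ', pow_zero]
  rw [h1, h2]

/-- Frobenius type case -/
theorem card_eq_zero {G : Type*} [Group G] (ρ : G →* A) (R : Subgroup G) [Fintype R] {p : ℕ}
    [hp : Fact p.Prime] (y : G) (hy : y ∈ Subgroup.normalizer (R : Set G))
    (hfpf : ∀ h ∈ R, ∀ i, 0 < i → i < p → y ^ i * h = h * y ^ i → h = 1)
    (hnorm : ∀ h ∈ R, ∑ i ∈ Finset.range p, ρ (h * y * h⁻¹) ^ i = 0)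
    (he : ∑ h : R, ρ (h : G) = 0) : ((Fintype.card R : ℕ) : A) = 0 := by
  have h0 : 0 < p := hp.out.pos
  obtain ⟨q, hq⟩ : ∃ q, p = q + 1 := ⟨p - 1, by omega⟩
  have h1 : ∑ h : R, ∑ i ∈ Finset.range p, ρ ((h : G) * y * (h : G)⁻¹) ^ i = 0 :=
    Finset.sum_eq_zero (fun h _ => hnorm h h.2)
  rw [Finset.sum_comm] at h1
  rw [hq, Finset.sum_range_succ'] at h1
  have h2 : ∀ i ∈ Finset.range q, ∑ h : R, ρ ((h : G) * y * (h : G)⁻¹) ^ (i + 1) = 0 := by
    intro i hi
    rw [Finset.mem_range] at hi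
    have hyn : ∀ k : ℕ, y ^ k ∈ Subgroup.normalizer (R : Set G) := fun k => pow_mem hy k
    have hmem : ∀ h : R, (h : G) * (y ^ (i + 1) * (h : G)⁻¹ * (y ^ (i + 1))⁻¹) ∈ R := by
      intro h
      exact mul_mem h.2 ((Subgroup.mem_normalizer_iff.mp (hyn (i + 1)) _).mp (inv_mem h.2))
    let φ : R → R := fun h => ⟨_, hmem h⟩
    have hφ : Function.Injective φ := by
      intro a b hab
      have h3 : (a : G) * (y ^ (i + 1) * (a : G)⁻¹ * (y ^ (i + 1))⁻¹) =
          (b : G) * (y ^ (i + 1) * (b : G)⁻¹ * (y ^ (i + 1))⁻¹) := congrArg Subtype.val hab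
      have h4 : (b : G)⁻¹ * a = 1 := by
        refine hfpf ((b : G)⁻¹ * a) (mul_mem (inv_mem b.2) a.2) (i + 1) (Nat.succ_pos i) (by omega) ?_
        have h5 : (a : G) * y ^ (i + 1) * (a : G)⁻¹ = (b : G) * y ^ (i + 1) * (b : G)⁻¹ := by
          have := congrArg (fun t => t * y ^ (i + 1)) h3
          calc (a : G) * y ^ (i + 1) * (a : G)⁻¹ = (a : G) * (y ^ (i + 1) * (a : G)⁻¹ * (y ^ (i + 1))⁻¹) * y ^ (i + 1) := by group
            _ = (b : G) * (y ^ (i + 1) * (b : G)⁻¹ * (y ^ (i + 1))⁻¹) * y ^ (i + 1) := this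
            _ = _ := by group
        calc y ^ (i + 1) * ((b : G)⁻¹ * a) = (b : G)⁻¹ * ((b : G) * y ^ (i + 1) * (b : G)⁻¹) * a := by group
          _ = (b : G)⁻¹ * ((a : G) * y ^ (i + 1) * (a : G)⁻¹) * a := by rw [h5]
          _ = (b : G)⁻¹ * a * y ^ (i + 1) := by group
      exact Subtype.ext (inv_mul_eq_one.mp h4).symm
    have hbij : Function.Bijective φ := Finite.injective_iff_bijective.mp hφ
    have h6 : ∀ h : R, ρ ((h : G) * y * (h : G)⁻¹) ^ (i + 1) = ρ (φ h : G) * ρ (y ^ (i + 1)) := by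
      intro h
      rw [← map_pow, conj_pow, ← map_mul]
      congr 1
      simp only [φ]
      group
    simp_rw [h6]
    rw [← Finset.sum_mul, hbij.sum_comp (fun h : R => ρ (h : G)), he, zero_mul]
  rw [Finset.sum_eq_zero h2, zero_add] at h1
  simpa using h1

end ring

section act

variable {G : Type*} [Group G] (V : Subgroup G) [V.Normal] [IsMulCommutative V]

/-- conjugation action of `G` on an abelian normal subgroup as a representation in its endomorphism ring -/
def act : G →* AddMonoid.End (Additive V) where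
  toFun g := MonoidHom.toAdditive ((MulAut.conjNormal g : MulAut V) : V →* V)
  map_one' := by
    refine DFunLike.ext _ _ fun v => ?_
    obtain ⟨v, rfl⟩ : ∃ w : V, v = Additive.ofMul w := ⟨Additive.toMul v, rfl⟩
    rw [map_one]
    rfl
  map_mul' g h := by
    refine DFunLike.ext _ _ fun v => ?_
    obtain ⟨v, rfl⟩ : ∃ w : V, v = Additive.ofMul w := ⟨Additive.toMul v, rfl⟩
    rw [map_mul]
    rfl

theorem act_apply (g : G) (v : V) :
    act V g (Additive.ofMul v) = Additive.ofMul (MulAut.conjNormal g v : V) := rfl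

theorem prod_conj (g : G) (v : V) (n : ℕ) :
    ((∏ i ∈ Finset.range n, (MulAut.conjNormal (g ^ i) v : V) : V) : G) * g ^ n = ((v : G) * g) ^ n := by
  induction n with
  | zero => simp
  | succ n ih =>
    rw [Finset.prod_range_succ, pow_succ ((v : G) * g), ← ih, Subgroup.coe_mul, MulAut.conjNormal_apply, pow_succ g]
    group

omit [V.Normal] in
theorem end_sum_apply {ι : Type*} (s : Finset ι) (f : ι → AddMonoid.End (Additive V)) (x : Additive V) :
    (∑ i ∈ s, f i) x = ∑ i ∈ s, f i x :=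
  map_sum (⟨⟨fun φ => φ x, rfl⟩, fun _ _ => rfl⟩ : AddMonoid.End (Additive V) →+ Additive V) f s

theorem sum_act_eq_zero {p : ℕ} (g : G) (hg : g ^ p = 1) (h : ∀ v ∈ V, (v * g) ^ p = 1) :
    ∑ i ∈ Finset.range p, act V g ^ i = 0 := by
  refine DFunLike.ext _ _ fun v => ?_
  obtain ⟨w, hw⟩ : ∃ w : V, v = Additive.ofMul w := ⟨Additive.toMul v, rfl⟩
  rw [hw]
  have h1 := prod_conj V g w p
  rw [hg, mul_one, h w w.2] at h1
  have h2 : (∏ i ∈ Finset.range p, (MulAut.conjNormal (g ^ i) w : V) : V) = 1 := Subtype.ext h1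
  have h3 : (∑ i ∈ Finset.range p, act V g ^ i) (Additive.ofMul w) =
      Additive.ofMul (∏ i ∈ Finset.range p, (MulAut.conjNormal (g ^ i) w : V) : V) := by
    rw [end_sum_apply, ofMul_prod]
    refine Finset.sum_congr rfl ?_
    intro i _
    rw [← map_pow, act_apply]
  rw [h3, h2]
  rfl

omit [V.Normal] in
/-- if `p` is prime to the order of `V`, then `p` can be cancelled -/
theorem eq_of_natCast_mul [Finite V] {n : ℕ} (hn : Nat.Coprime n (Nat.card V)) {a b : AddMonoid.End (Additive V)}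
    (h : (n : AddMonoid.End (Additive V)) * a = n * b) : a = b := by
  refine DFunLike.ext _ _ fun v => ?_
  have h1 : (n : ℕ) • (a v - b v) = 0 := by
    have h2 := DFunLike.congr_fun h v
    rw [smul_sub]
    have h3 : ∀ c : AddMonoid.End (Additive V), ((n : AddMonoid.End (Additive V)) * c) v = n • c v := by
      intro c
      exact AddMonoid.End.natCast_apply n (c v)
    rw [h3, h3] at h2
    rw [h2, sub_self]
  have h2 : addOrderOf (a v - b v) ∣ Nat.card V := by
    have := addOrderOf_dvd_natCard (a v - b v)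
    exact this
  have h3 : addOrderOf (a v - b v) ∣ n := addOrderOf_dvd_of_nsmul_eq_zero h1
  have h4 := Nat.eq_one_of_dvd_coprimes hn h3 h2
  rw [AddMonoid.addOrderOf_eq_one_iff] at h4
  exact sub_eq_zero.mp h4

theorem mem_centralizer_of_act_eq_one {z : G} (h : act V z = 1) : z ∈ Subgroup.centralizer (V : Set G) := by
  rw [Subgroup.mem_centralizer_iff]
  intro v hv
  have h1 := DFunLike.congr_fun h (Additive.ofMul (⟨v, hv⟩ : V))
  rw [act_apply] at h1
  have h2 := congrArg (fun t : Additive V => ((Additive.toMul t : V) : G)) h1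
  simp only [toMul_ofMul, MulAut.conjNormal_apply] at h2
  have h3 : z * v * z⁻¹ = v := h2
  rw [mul_inv_eq_iff_eq_mul] at h3
  exact h3.symm

theorem act_eq_one_of_mem_centralizer {z : G} (h : z ∈ Subgroup.centralizer (V : Set G)) : act V z = 1 := by
  rw [Subgroup.mem_centralizer_iff] at h
  refine DFunLike.ext _ _ fun v => ?_
  obtain ⟨w, hw⟩ : ∃ w : V, v = Additive.ofMul w := ⟨Additive.toMul v, rfl⟩
  rw [hw]
  rw [act_apply]
  show Additive.ofMul _ = Additive.ofMul w
  congr 1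
  apply Subtype.ext
  rw [MulAut.conjNormal_apply, mul_inv_eq_iff_eq_mul]
  exact (h w w.2).symm

end act

end H73.Split
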