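import Mathlib
import Cfsg.Agent.S0108
import Cfsg.Agent.Lib.H73.Bas
import Cfsg.Agent.Lib.H73.Split
import Cfsg.Agent.Lib.H73.Nilp
import Cfsg.Agent.Lib.H73.SolvSmall
import Cfsg.Agent.Lib.H26.LocalFitting
import Cfsg.Agent.Lib.H61.Isospec
import Cfsg.Agent.Lib.H76.PG
import Cfsg.Agent.Lib.H13.Thompson
import Cfsg.Agent.Lib.H52.Syl
import Cfsg.Agent.Lib.H39.PNilp
import Cfsg.Agent.Lib.H2.Frobenius

/-!
# Kegel: groups with a normal subgroup of index `p` outside of which all elements have order `p` (H73.Hughes)
-/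

set_option autoImplicit false
open scoped IsMulCommutative commutatorElement

namespace H73.Hughes

open H73.Bas H73.Split

universe u

structure Sp (p : ℕ) (G : Type u) [Group G] (H : Subgroup G) : Prop where
  normal : H.Normal
  index : H.index = p
  pow : ∀ g, g ∉ H → g ^ p = 1

theorem Sp.sub {p : ℕ} (hp : p.Prime) {G : Type u} [Group G] [Finite G] {H : Subgroup G} (h : Sp p G H) (K : Subgroup G)
    (hK : ¬ K ≤ H) : Sp p K (H.subgroupOf K) := by
  have := h.normal
  refine ⟨inferInstance, ?_, ?_⟩
  · have h1 : H.relIndex K ∣ H.index := Subgroup.relIndex_dvd_index_of_normal H K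
    rw [h.index] at h1
    rcases (Nat.dvd_prime hp).mp h1 with h2 | h2
    · exact absurd (Subgroup.relIndex_eq_one.mp h2) hK
    · exact h2
  · intro g hg
    exact Subtype.ext (h.pow g hg)

theorem Sp.quo {p : ℕ} {G : Type u} [Group G] {H : Subgroup G} (h : Sp p G H) (N : Subgroup G) [N.Normal]
    (hN : N ≤ H) : Sp p (G ⧸ N) (H.map (QuotientGroup.mk' N)) := by
  have := h.normal
  refine ⟨Subgroup.Normal.map h.normal _ (QuotientGroup.mk'_surjective N), ?_, ?_⟩
  · rw [Subgroup.index_map_eq _ (QuotientGroup.mk'_surjective N) (by rwa [QuotientGroup.ker_mk'])]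
    exact h.index
  · intro x hx
    obtain ⟨g, rfl⟩ := QuotientGroup.mk'_surjective N x
    rw [← map_pow, h.pow g (fun hg => hx ⟨g, hg, rfl⟩), map_one]

/-- a finite nilpotent group has a normal `p`-complement -/
theorem hasNPC_of_nilpotent {G : Type u} [Group G] [Finite G] {p : ℕ} [Fact p.Prime] (h : Group.IsNilpotent G) :
    Cfsg.HasNormalPComplement p G := by
  apply H2.Frobenius.hasNPC_of_local
  intro D hD g _ hgo
  have hT : Group.IsNilpotent (⊤ : Subgroup G) := inferInstance
  exact H73.Nilp.mem_centralizer_of_le hT hD le_top trivial hgo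

/-- Thompson's theorem in the form used here -/
theorem thompson {G : Type u} [Group G] [Finite G] {p : ℕ} [Fact p.Prime] (hp : p ≠ 2) (P : Sylow p G)
    (h1 : Cfsg.HasNormalPComplement p (Subgroup.normalizer (Cfsg.thompsonSubgroupOf p (P : Subgroup G) : Set G)))
    (h2 : Cfsg.HasNormalPComplement p (Subgroup.centralizer (((P : Subgroup G) ⊓ Subgroup.centralizer (P : Set G)) : Set G))) :
    Cfsg.HasNormalPComplement p G :=
  (Cfsg.Agent.S0108.result hp P).mpr ⟨h1, h2⟩

/-- `H` solvable or the trace of the normalizer is nilpotent -/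
theorem stepW {p : ℕ} {G : Type u} [Group G] [Finite G] {H : Subgroup G} (h : Sp p G H) (hHt : H ≠ ⊤)
    (IHsub : ∀ K : Subgroup G, K ≠ ⊤ → ¬ K ≤ H → Group.IsNilpotent (H ⊓ K : Subgroup G))
    (IHquo : ∀ (N : Subgroup G) [N.Normal], N ≤ H → N ≠ ⊥ → Group.IsNilpotent (H.map (QuotientGroup.mk' N)))
    {r : ℕ} [hr : Fact r.Prime] (R : Sylow r H) (W : Subgroup H) (hWR : W ≤ R) (hWb : W ≠ ⊥)
    (hnorm : Subgroup.normalizer (((R : Subgroup H).map H.subtype : Subgroup G) : Set G) ≤
      Subgroup.normalizer ((W.map H.subtype : Subgroup G) : Set G)) :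
    Group.IsSolvable H ∨ Group.IsNilpotent (Subgroup.normalizer (W : Set H)) := by
  have hHn := h.normal
  have hF := R.normalizer_sup_eq_top
  have hnH : ¬ Subgroup.normalizer ((W.map H.subtype : Subgroup G) : Set G) ≤ H := by
    intro hle
    apply hHt
    rw [eq_top_iff, ← hF]
    exact sup_le (hnorm.trans hle) le_rfl
  by_cases htop : Subgroup.normalizer ((W.map H.subtype : Subgroup G) : Set G) = ⊤
  · left
    have hWn : (W.map H.subtype).Normal := Subgroup.normalizer_eq_top_iff.mp htop
    have hWH : W.map H.subtype ≤ H := Subgroup.map_subtype_le _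
    have hWb' : W.map H.subtype ≠ ⊥ := by
      rw [Ne, Subgroup.map_eq_bot_iff_of_injective _ H.subtype_injective]; exact hWb
    have h1 := IHquo (W.map H.subtype) hWH hWb'
    have h2 : Group.IsSolvable (H.map (QuotientGroup.mk' (W.map H.subtype))) := inferInstance
    have h3 : Group.IsSolvable W := by
      have : IsPGroup r W := R.isPGroup'.to_le hWR
      exact H73.SolvSmall.isSolvable_of_isPGroup hr.out this
    refine Group.isSolvable_of_ker_le_range W.subtype ((QuotientGroup.mk' (W.map H.subtype)).subgroupMap H) ?_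
    intro x hx
    rw [Subgroup.range_subtype]
    have h4 : QuotientGroup.mk' (W.map H.subtype) (x : G) = 1 := congrArg Subtype.val (MonoidHom.mem_ker.mp hx)
    have h5 : (x : G) ∈ W.map H.subtype := (QuotientGroup.eq_one_iff _).mp h4
    obtain ⟨w, hw, hwx⟩ := h5
    have : w = x := Subtype.ext hwx
    rwa [← this]
  · right
    have h1 := IHsub _ htop hnH
    apply nilp_of_map H.subtype_injective
    refine nilp_of_le ?_ h1
    refine le_inf (Subgroup.map_subtype_le _) ?_
    exact Subgroup.le_normalizer_map H.subtype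

theorem solvable_step {p : ℕ} (hp : p.Prime) {G : Type u} [Group G] [Finite G] {H : Subgroup G} (h : Sp p G H) (hHt : H ≠ ⊤)
    (IHsub : ∀ K : Subgroup G, K ≠ ⊤ → ¬ K ≤ H → Group.IsNilpotent (H ⊓ K : Subgroup G))
    (IHquo : ∀ (N : Subgroup G) [N.Normal], N ≤ H → N ≠ ⊥ → Group.IsNilpotent (H.map (QuotientGroup.mk' N))) :
    Group.IsSolvable H := by
  have hHn := h.normal
  by_cases hodd : ∃ r : ℕ, r.Prime ∧ r ∣ Nat.card H ∧ r ≠ 2
  swap
  · push Not at hodd
    exact H73.SolvSmall.isSolvable_of_isPGroup Nat.prime_two (isPGroup_of_prime_dvd (fun q hq hqd => hodd q hq hqd))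
  obtain ⟨r, hr, hrH, hr2⟩ := hodd
  have := Fact.mk hr
  by_contra hns
  obtain ⟨R⟩ : Nonempty (Sylow r H) := inferInstance
  have hRb : (R : Subgroup H) ≠ ⊥ := R.ne_bot_of_dvd_card hrH
  have hRd : r ∣ Nat.card (R : Subgroup H) := by
    obtain ⟨j, hj⟩ := R.isPGroup'.exists_card_eq
    rcases Nat.eq_zero_or_pos j with h0 | h0
    · exact absurd (Subgroup.card_eq_one.mp (by rw [hj, h0, pow_zero])) hRb
    · rw [hj]; exact dvd_pow_self r h0.ne'
  -- the Thompson subgroup
  have hJ : Cfsg.HasNormalPComplement r (Subgroup.normalizer (Cfsg.thompsonSubgroupOf r (R : Subgroup H) : Set H)) := by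
    apply hasNPC_of_nilpotent
    refine (stepW h hHt IHsub IHquo R (Cfsg.thompsonSubgroupOf r (R : Subgroup H)) (Subgroup.map_subtype_le _) ?_ ?_).resolve_left hns
    · rw [Cfsg.thompsonSubgroupOf, Ne, Subgroup.map_eq_bot_iff_of_injective _ (Subgroup.subtype_injective _)]
      exact H13.Thompson.thompson_ne_bot hRd
    · have hchar : (Cfsg.thompsonSubgroup r ((R : Subgroup H).map H.subtype)).Characteristic := by
        rw [Subgroup.characteristic_iff_map_eq]
        intro φ
        exact H13.Thompson.map_equiv_thompson φ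
      have h1 := H26.LocalFitting.normalizer_le_normalizer_map_char ((R : Subgroup H).map H.subtype)
        (Cfsg.thompsonSubgroup r ((R : Subgroup H).map H.subtype))
      have h2 : (Cfsg.thompsonSubgroup r ((R : Subgroup H).map H.subtype)).map ((R : Subgroup H).map H.subtype).subtype =
          (Cfsg.thompsonSubgroupOf r (R : Subgroup H)).map H.subtype := by
        rw [← H13.Thompson.map_equiv_thompson ((R : Subgroup H).equivMapOfInjective H.subtype H.subtype_injective),
          Cfsg.thompsonSubgroupOf, Subgroup.map_map, Subgroup.map_map]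
        rfl
      rwa [h2] at h1
  have hZ : Cfsg.HasNormalPComplement r (Subgroup.centralizer (((R : Subgroup H) ⊓ Subgroup.centralizer (R : Set H)) : Set H)) := by
    have h1 : Group.IsNilpotent (Subgroup.normalizer (((R : Subgroup H) ⊓ Subgroup.centralizer ((R : Subgroup H) : Set H) : Subgroup H) : Set H)) := by
      refine (stepW h hHt IHsub IHquo R ((R : Subgroup H) ⊓ Subgroup.centralizer ((R : Subgroup H) : Set H)) inf_le_left ?_ ?_).resolve_left hns
      · obtain ⟨z, hz, hzc, hzo⟩ := H76.PG.exists_center_of_normal R.isPGroup' (⊤ : Subgroup (R : Subgroup H)) (by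
          intro h2
          apply hRb
          have h3 := congrArg (Subgroup.map (R : Subgroup H).subtype) h2
          rwa [← MonoidHom.range_eq_map, Subgroup.range_subtype, Subgroup.map_bot] at h3)
        intro h2
        have h3 : (z : H) ∈ ((R : Subgroup H) ⊓ Subgroup.centralizer ((R : Subgroup H) : Set H)) := by
          refine ⟨z.2, ?_⟩
          change (z : H) ∈ Subgroup.centralizer ((R : Subgroup H) : Set H)
          rw [Subgroup.mem_centralizer_iff]
          intro y hy
          exact congrArg Subtype.val (Subgroup.mem_center_iff.mp hzc ⟨y, hy⟩)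
        rw [h2, Subgroup.mem_bot] at h3
        have h4 : z = 1 := Subtype.ext h3
        rw [h4, orderOf_one] at hzo
        exact hr.one_lt.ne hzo
      · have h2 : ((R : Subgroup H) ⊓ Subgroup.centralizer ((R : Subgroup H) : Set H)).map H.subtype =
            (R : Subgroup H).map H.subtype ⊓ Subgroup.centralizer (((R : Subgroup H).map H.subtype : Subgroup G) : Set G) := by
          ext x
          constructor
          · rintro ⟨y, ⟨hy1, hy2⟩, rfl⟩
            refine ⟨⟨y, hy1, rfl⟩, ?_⟩
            change (y : G) ∈ Subgroup.centralizer (((R : Subgroup H).map H.subtype : Subgroup G) : Set G)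
            rw [Subgroup.mem_centralizer_iff]
            rintro _ ⟨z, hz, rfl⟩
            exact congrArg Subtype.val (Subgroup.mem_centralizer_iff.mp hy2 z hz)
          · rintro ⟨⟨y, hy1, rfl⟩, hy2⟩
            refine ⟨y, ⟨hy1, ?_⟩, rfl⟩
            change y ∈ Subgroup.centralizer ((R : Subgroup H) : Set H)
            rw [Subgroup.mem_centralizer_iff]
            intro z hz
            exact Subtype.ext (Subgroup.mem_centralizer_iff.mp hy2 z ⟨z, hz, rfl⟩)
        rw [h2]
        exact le_trans (le_inf le_rfl (H52.Syl.normalizer_le_normalizer_centralizer _)) Subgroup.inf_normalizer_le_normalizer_inf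
    have h2 := hasNPC_of_nilpotent (p := r) h1
    exact H39.PNilp.of_le (Subgroup.centralizer_le_normalizer _) h2
  have hNPC := thompson hr2 R hJ hZ
  obtain ⟨K, hKn, hKc, k, hk⟩ := H39.PNilp.iff_exists.1 hNPC
  have hmem := H39.PNilp.mem_iff_coprime K hKc ⟨k, hk⟩
  have hK'n : (K.map H.subtype).Normal := by
    constructor
    rintro _ ⟨x, hx, rfl⟩ g
    refine ⟨⟨g * x * g⁻¹, hHn.conj_mem x x.2 g⟩, ?_, rfl⟩
    have hx' : (orderOf x).Coprime r := (hmem x).mp hx
    apply (hmem _).mpr
    rw [Subgroup.orderOf_mk]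
    have : orderOf (g * (x : G) * g⁻¹) = orderOf (x : G) := by
      have := orderOf_injective (MulAut.conj g).toMonoidHom (MulAut.conj g).injective (x : G)
      simpa using this
    rw [this, Subgroup.orderOf_coe]
    exact hx'
  have hKt : K ≠ ⊤ := by
    rintro rfl
    rw [Subgroup.card_top] at hKc
    exact (Nat.Prime.coprime_iff_not_dvd hr).mp hKc.symm hrH
  by_cases hKb : K = ⊥
  · apply hns
    rw [hKb, Subgroup.index_bot] at hk
    exact H73.SolvSmall.isSolvable_of_card_pow hr hk
  · -- an element outside of H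
    obtain ⟨y, hy⟩ : ∃ y : G, y ∉ H := by
      by_contra hc
      push Not at hc
      exact hHt (eq_top_iff.mpr (fun x _ => hc x))
    have hyp : y ^ p = 1 := h.pow y hy
    have hyo : orderOf y = p := orderOf_eq_prime hyp (fun h1 => hy (h1 ▸ one_mem H)) (hp := ⟨hp⟩)
    have hKy : Subgroup.zpowers y ⊔ K.map H.subtype ≠ ⊤ := by
      intro htop
      have h1 := card_sup_mul_card_inf (Subgroup.zpowers y) (K.map H.subtype)
      rw [htop, Subgroup.card_top, Nat.card_zpowers, hyo, Subgroup.card_map_of_injective H.subtype_injective] at h1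
      have h2 := H.card_mul_index
      rw [h.index] at h2
      have h3 := card_lt_of_ne_top hKt
      have h4 : 0 < Nat.card (Subgroup.zpowers y ⊓ K.map H.subtype : Subgroup G) := Nat.card_pos
      have h5 : Nat.card G ≤ p * Nat.card K := by rw [← h1]; exact Nat.le_mul_of_pos_right _ h4
      have h6 : p * Nat.card K < Nat.card H * p := by
        rw [mul_comm]; exact Nat.mul_lt_mul_of_pos_right h3 hp.pos
      omega
    have h1 := IHsub _ hKy (fun hle => hy (hle (Subgroup.mem_sup_left (Subgroup.mem_zpowers y))))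
    have h2 : Group.IsNilpotent K := by
      apply nilp_of_map H.subtype_injective
      exact nilp_of_le (le_inf (Subgroup.map_subtype_le _) le_sup_right) h1
    apply hns
    have h3 : Group.IsSolvable (H ⧸ K) := by
      apply H73.SolvSmall.isSolvable_of_card_pow hr (n := k)
      rw [← hk, Subgroup.index_eq_card]
    exact (Group.isSolvable_iff_subgroup_quotient K).mpr ⟨inferInstance, h3⟩

end H73.Hughes
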