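import Mathlib
import Cfsg.Agent.Lib.H73.Hughes
import Cfsg.Agent.Lib.H30.Nil

/-!
# Kegel: the nilpotency of the Hughes subgroup, main induction (H73.Hughes2)
-/

set_option autoImplicit false
open scoped IsMulCommutative commutatorElement

namespace H73.Hughes

open H73.Bas H73.Split

universe u

theorem pow_not_mem {p : ℕ} (hp : p.Prime) {G : Type u} [Group G] {H : Subgroup G} {y : G} (hy : y ∉ H)
    (hyp : y ^ p = 1) {i : ℕ} (hi0 : 0 < i) (hip : i < p) : y ^ i ∉ H := by
  intro hm
  apply hy
  have hcop : Nat.Coprime i p := by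
    rw [Nat.coprime_comm, Nat.Prime.coprime_iff_not_dvd hp]
    intro hd
    exact absurd (Nat.le_of_dvd hi0 hd) (not_le.mpr hip)
  have h1 : y ∈ Subgroup.zpowers (y ^ i) := by
    have h2 : orderOf y ∣ p := orderOf_dvd_of_pow_eq_one hyp
    have h3 : Nat.Coprime (orderOf y) i := (Nat.Coprime.coprime_dvd_right h2 hcop).symm
    rw [mem_zpowers_pow_iff]
    exact h3.symm
  exact (Subgroup.zpowers_le.mpr hm) h1

/-- `R` acts on `N` without fixed points: the norm is zero -/
theorem sum_act_eq_zero_of_fixed {G : Type u} [Group G] (N R : Subgroup G) [N.Normal] [IsMulCommutative N] [Fintype R]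
    (h : N ⊓ Subgroup.centralizer (R : Set G) = ⊥) : ∑ x : R, act N (x : G) = 0 := by
  refine DFunLike.ext _ _ fun v => ?_
  rw [end_sum_apply]
  set w := ∑ x : R, act N (x : G) v with hw
  have hfix : ∀ y ∈ R, act N y w = w := by
    intro y hy
    rw [hw, map_sum]
    have : ∀ x : R, act N y (act N (x : G) v) = act N (((⟨y, hy⟩ : R) * x : R) : G) v := by
      intro x
      rw [Subgroup.coe_mul, map_mul]
      rfl
    simp_rw [this]
    exact (Group.mulLeft_bijective (⟨y, hy⟩ : R)).sum_comp (fun x : R => act N (x : G) v)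
  have h1 : ((Additive.toMul w : N) : G) ∈ N ⊓ Subgroup.centralizer (R : Set G) := by
    refine ⟨(Additive.toMul w).2, ?_⟩
    change ((Additive.toMul w : N) : G) ∈ Subgroup.centralizer (R : Set G)
    rw [Subgroup.mem_centralizer_iff]
    intro y hy
    have h2 := hfix y hy
    have h3 : ((Additive.toMul (act N y w) : N) : G) = ((Additive.toMul w : N) : G) := by rw [h2]
    have h4 : ((Additive.toMul (act N y w) : N) : G) = y * ((Additive.toMul w : N) : G) * y⁻¹ := rfl
    rw [h4, mul_inv_eq_iff_eq_mul] at h3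
    exact h3
  rw [h, Subgroup.mem_bot] at h1
  have h2 : Additive.toMul w = 1 := Subtype.ext h1
  exact h2

theorem main {p : ℕ} (hp : p.Prime) : ∀ (n : ℕ) (G : Type u) [Group G] [Finite G] (H : Subgroup G),
    Nat.card G = n → Sp p G H → Group.IsNilpotent H := by
  intro n
  induction n using Nat.strong_induction_on with
  | _ n IH =>
  intro G _ _ H hcard h
  have := Fact.mk hp
  have hHn := h.normal
  have hHt : H ≠ ⊤ := by
    rintro rfl
    have := h.index
    rw [Subgroup.index_top] at this
    exact hp.one_lt.ne this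
  have IHsub : ∀ K : Subgroup G, K ≠ ⊤ → ¬ K ≤ H → Group.IsNilpotent (H ⊓ K : Subgroup G) := by
    intro K hK hKH
    exact nilp_congr_subgroupOf (IH (Nat.card K) (hcard ▸ card_lt_of_ne_top hK) K (H.subgroupOf K) rfl (h.sub hp K hKH))
  have IHquo : ∀ (N : Subgroup G) [N.Normal], N ≤ H → N ≠ ⊥ → Group.IsNilpotent (H.map (QuotientGroup.mk' N)) := by
    intro N _ hN hNb
    exact IH (Nat.card (G ⧸ N)) (hcard ▸ card_quotient_lt hNb) (G ⧸ N) _ rfl (h.quo N hN)
  by_contra hnn
  have hsol := solvable_step hp h hHt IHsub IHquo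
  have hHb : H ≠ ⊥ := by
    rintro rfl
    exact hnn inferInstance
  obtain ⟨N, hNH, hNn, hNb, hNmin⟩ := H73.SolvSmall.exists_minimal_normal hHn hHb
  have hNsol : Group.IsSolvable N :=
    Group.isSolvable_of_isSolvable_injective (f := Subgroup.inclusion hNH) (Subgroup.inclusion_injective hNH)
  obtain ⟨V, q, hVn, hVN, hVb, hq, hVc, hVe⟩ := H61.Isospec.exists_elemAb_normal N hNb hNsol
  have hVeq : V = N := (hNmin V hVn hVN).resolve_left hVb
  subst hVeq
  have hVcomm : IsMulCommutative V := ⟨⟨hVc⟩⟩
  have hqF := Fact.mk hq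
  have hVq : IsPGroup q V := fun x => ⟨1, by rw [pow_one]; exact hVe x⟩
  -- Claim 1
  have claim1 : ∀ L : Subgroup G, L.Normal → L ≤ H → V ⊓ L = ⊥ → L = ⊥ := by
    intro L hL hLH hVL
    by_contra hLb
    exact hnn (ker_inter_nilpotent V L hVL (IHquo V hNH hVb) (IHquo L hLH hLb))
  obtain ⟨r, hr, hrH, hrq⟩ : ∃ r : ℕ, r.Prime ∧ r ∣ Nat.card H ∧ r ≠ q := by
    by_contra hc
    push Not at hc
    have := isPGroup_of_prime_dvd (fun q' hq' hqd => hc q' hq' hqd)
    exact hnn this.isNilpotent
  have hrF := Fact.mk hr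
  obtain ⟨R⟩ : Nonempty (Sylow r H) := inferInstance
  have hRb : (R : Subgroup H) ≠ ⊥ := R.ne_bot_of_dvd_card hrH
  set R' : Subgroup G := (R : Subgroup H).map H.subtype with hR'
  have hR'H : R' ≤ H := Subgroup.map_subtype_le _
  have hR'b : R' ≠ ⊥ := by
    rw [hR', Ne, Subgroup.map_eq_bot_iff_of_injective _ H.subtype_injective]; exact hRb
  have hR'r : IsPGroup r R' := R.isPGroup'.map _
  have hcop : (Nat.card V).Coprime (Nat.card R') := by
    obtain ⟨a, ha⟩ := hVq.exists_card_eq
    obtain ⟨b, hb⟩ := hR'r.exists_card_eq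
    rw [ha, hb]
    exact Nat.Coprime.pow a b ((Nat.coprime_primes hq hr).mpr hrq.symm)
  have hVR : V ⊓ R' = ⊥ := (Subgroup.disjoint_of_coprime_natCard hcop).eq_bot
  -- `M = R' V` is normal in `G`
  have hMn : (R' ⊔ V).Normal := by
    have h1 : (R'.map (QuotientGroup.mk' V)).Normal := by
      have hnil := IHquo V hNH hVb
      have hsurj := (QuotientGroup.mk' V).subgroupMap_surjective H
      have hSn := H73.Nilp.sylow_normal (R.mapSurjective hsurj)
      constructor
      rintro _ ⟨_, ⟨x, hx, rfl⟩, rfl⟩ g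
      obtain ⟨g, rfl⟩ := QuotientGroup.mk'_surjective V g
      have hmem : g * (x : G) * g⁻¹ ∈ H := hHn.conj_mem x x.2 g
      have h2 : ((QuotientGroup.mk' V).subgroupMap H) ⟨_, hmem⟩ ∈ ((R.mapSurjective hsurj : Sylow r _) : Subgroup (H.map (QuotientGroup.mk' V))) := by
        apply mem_sylow_of_normal _ hSn
        have h3 : orderOf (((QuotientGroup.mk' V).subgroupMap H) ⟨_, hmem⟩) ∣ orderOf x := by
          refine (orderOf_map_dvd _ _).trans ?_
          rw [Subgroup.orderOf_mk]
          have : orderOf (g * (x : G) * g⁻¹) = orderOf (x : G) := by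
            have := orderOf_injective (MulAut.conj g).toMonoidHom (MulAut.conj g).injective (x : G)
            simpa using this
          rw [this, Subgroup.orderOf_coe]
        obtain ⟨k, hk⟩ := (IsPGroup.iff_orderOf.mp R.isPGroup') ⟨x, hx⟩
        rw [Subgroup.orderOf_mk] at hk
        rw [hk] at h3
        obtain ⟨j, _, hj⟩ := (Nat.dvd_prime_pow hr).mp h3
        exact ⟨j, hj⟩
      rw [Sylow.coe_mapSurjective] at h2
      obtain ⟨w, hw, hw2⟩ := h2
      have h4 := congrArg Subtype.val hw2
      refine ⟨(w : G), ⟨w, hw, rfl⟩, ?_⟩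
      have h5 : (QuotientGroup.mk' V) (w : G) = (QuotientGroup.mk' V) (g * (x : G) * g⁻¹) := h4
      rw [h5, map_mul, map_mul, map_inv]
      rfl
    have h2 := h1.comap (QuotientGroup.mk' V)
    rwa [Subgroup.comap_map_eq, QuotientGroup.ker_mk'] at h2
  -- Frattini
  have hFr : Subgroup.normalizer (R' : Set G) ⊔ V = ⊤ := by
    have hnd : ¬ r ∣ (R'.subgroupOf (R' ⊔ V)).index := by
      intro hd
      have h1 : (R'.subgroupOf (R' ⊔ V)).index = R'.relIndex V := relIndex_sup_eq R' V
      rw [h1] at hd
      have h2 : R'.relIndex V ∣ Nat.card V := by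
        exact ⟨_, ((R'.subgroupOf V).index_mul_card).symm⟩
      obtain ⟨a, ha⟩ := hVq.exists_card_eq
      rw [ha] at h2
      exact hrq ((Nat.prime_dvd_prime_iff_eq hr hq).mp (hr.dvd_of_dvd_pow (hd.trans h2)))
    have hpg : IsPGroup r (R'.subgroupOf (R' ⊔ V)) :=
      hR'r.comap_of_injective (R' ⊔ V).subtype (Subgroup.subtype_injective _)
    have h1 := Sylow.normalizer_sup_eq_top (hpg.toSylow hnd)
    have h2 : ((hpg.toSylow hnd : Sylow r (R' ⊔ V : Subgroup G)) : Subgroup (R' ⊔ V : Subgroup G)) = R'.subgroupOf (R' ⊔ V) := rfl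
    rw [h2, Subgroup.subgroupOf_map_subtype, inf_eq_left.mpr (le_sup_left : R' ≤ R' ⊔ V)] at h1
    rw [eq_top_iff, ← h1]
    exact sup_le le_sup_left (sup_le (Subgroup.le_normalizer.trans le_sup_left) le_sup_right)
  obtain ⟨y, hyN, hyH⟩ : ∃ y : G, y ∈ Subgroup.normalizer (R' : Set G) ∧ y ∉ H := by
    by_contra hc
    push Not at hc
    apply hHt
    rw [eq_top_iff, ← hFr]
    exact sup_le hc hNH
  have hyp : y ^ p = 1 := h.pow y hyH
  -- fixed points of `R'` on `V`
  have hZ0 : V ⊓ Subgroup.centralizer (R' : Set G) = ⊥ := by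
    have hn : (V ⊓ Subgroup.centralizer (R' : Set G)).Normal := by
      apply normal_of_sup_eq_top hFr
      · refine le_trans (le_inf ?_ (H52.Syl.normalizer_le_normalizer_centralizer _)) Subgroup.inf_normalizer_le_normalizer_inf
        rw [Subgroup.normalizer_eq_top_iff.mpr hNn]
        exact le_top
      · refine le_trans ?_ (Subgroup.centralizer_le_normalizer _)
        intro v hv
        rw [Subgroup.mem_centralizer_iff]
        intro w hw
        exact congrArg Subtype.val (hVc ⟨w, hw.1⟩ ⟨v, hv⟩)
    rcases hNmin _ hn inf_le_left with h1 | h1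
    · exact h1
    · exfalso
      have h2 : V ≤ Subgroup.centralizer (R' : Set G) := by rw [← h1]; exact inf_le_right
      have h3 : R'.Normal := by
        apply normal_of_sup_eq_top hFr le_rfl
        exact h2.trans (Subgroup.centralizer_le_normalizer _)
      exact hR'b (claim1 R' h3 hR'H hVR)
  have hactz : ∀ g : G, g ∉ H → ∑ i ∈ Finset.range p, act V g ^ i = 0 := by
    intro g hg
    apply sum_act_eq_zero V g (h.pow g hg)
    intro v hv
    apply h.pow
    intro hm
    exact hg ((Subgroup.mul_mem_cancel_left H (hNH hv)).mp hm)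
  by_cases hrp : r = p
  · subst hrp
    -- `z` of order `p` in `R'` central in `R' ⟨y⟩`
    have hyle : Subgroup.zpowers y ≤ Subgroup.normalizer (R' : Set G) := Subgroup.zpowers_le.mpr hyN
    have hyp' : IsPGroup r (Subgroup.zpowers y) := by
      have hyo : orderOf y = r := orderOf_eq_prime hyp (fun h1 => hyH (h1 ▸ one_mem H))
      exact IsPGroup.of_card (n := 1) (by rw [Nat.card_zpowers, hyo, pow_one])
    have hS : IsPGroup r (R' ⊔ Subgroup.zpowers y : Subgroup G) := hR'r.to_sup_of_normal_left' hyp' hyle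
    have hRn : (R'.subgroupOf (R' ⊔ Subgroup.zpowers y)).Normal :=
      Subgroup.normal_subgroupOf_of_le_normalizer (sup_le Subgroup.le_normalizer hyle)
    have hRsb : R'.subgroupOf (R' ⊔ Subgroup.zpowers y) ≠ ⊥ := by
      intro h1
      rw [Subgroup.subgroupOf_eq_bot, disjoint_iff, inf_eq_left.mpr (le_sup_left : R' ≤ R' ⊔ Subgroup.zpowers y)] at h1
      exact hR'b h1
    obtain ⟨z, hzR, hzc, hzo⟩ := H76.PG.exists_center_of_normal hS _ hRsb
    have hzR' : (z : G) ∈ R' := hzR
    rw [Subgroup.mem_center_iff] at hzc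
    have hzy : y * (z : G) = z * y :=
      congrArg Subtype.val (hzc ⟨y, Subgroup.mem_sup_right (Subgroup.mem_zpowers y)⟩)
    have hzp : (z : G) ^ r = 1 := by
      have h1 := pow_orderOf_eq_one z
      rw [hzo] at h1
      exact congrArg Subtype.val h1
    have h1 : ((r : ℕ) : AddMonoid.End (Additive V)) * act V (z : G) = r := by
      apply card_mul_eq (Y := act V y) (Z := act V (z : G))
      · change act V y * act V (z : G) = act V (z : G) * act V y
        rw [← map_mul, ← map_mul, hzy]
      · rw [← map_pow, hzp, map_one]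
      · intro j _
        have h2 : act V y * act V (z : G) ^ j = act V (y * (z : G) ^ j) := by rw [map_mul, map_pow]
        rw [h2]
        apply hactz
        intro hm
        exact hyH ((Subgroup.mul_mem_cancel_right H (pow_mem (hR'H hzR') j)).mp hm)
    have h2 : act V (z : G) = 1 := by
      apply eq_of_natCast_mul V (n := r) (a := act V (z : G)) (b := 1)
      · obtain ⟨a, ha⟩ := hVq.exists_card_eq
        rw [ha]
        exact Nat.Coprime.pow_right a ((Nat.coprime_primes hr hq).mpr hrq)
      · rw [mul_one]; exact h1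
    have h3 := mem_centralizer_of_act_eq_one V h2
    have h4 : (R' ⊓ Subgroup.centralizer (V : Set G)).Normal := by
      apply normal_of_sup_eq_top hFr
      · refine le_trans (le_inf le_rfl ?_) Subgroup.inf_normalizer_le_normalizer_inf
        have : (Subgroup.centralizer (V : Set G)).Normal := Subgroup.normal_centralizer
        rw [Subgroup.normalizer_eq_top_iff.mpr this]
        exact le_top
      · refine le_trans ?_ (Subgroup.centralizer_le_normalizer _)
        intro v hv
        rw [Subgroup.mem_centralizer_iff]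
        intro w hw
        have hw2 : w ∈ Subgroup.centralizer (V : Set G) := hw.2
        rw [Subgroup.mem_centralizer_iff] at hw2
        exact (hw2 v hv).symm
    have h5 : R' ⊓ Subgroup.centralizer (V : Set G) = ⊥ := by
      apply claim1 _ h4 (inf_le_left.trans hR'H)
      rw [eq_bot_iff, ← hVR]
      exact le_inf inf_le_left (inf_le_right.trans inf_le_left)
    have h6 : (z : G) ∈ R' ⊓ Subgroup.centralizer (V : Set G) := ⟨hzR', h3⟩
    rw [h5, Subgroup.mem_bot] at h6
    have h7 : z = 1 := Subtype.ext h6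
    rw [h7, orderOf_one] at hzo
    exact hr.one_lt.ne hzo
  · -- Frobenius case
    have hfinR : Fintype R' := Fintype.ofFinite _
    have h1 : ((Fintype.card R' : ℕ) : AddMonoid.End (Additive V)) = 0 := by
      apply card_eq_zero (act V) R' (p := p) y hyN
      · intro x hx i hi0 hip hcomm
        have h2 : y ^ i * x ∉ H := by
          intro hm
          exact pow_not_mem hp hyH hyp hi0 hip ((Subgroup.mul_mem_cancel_right H (hR'H hx)).mp hm)
        have h3 : (y ^ i * x) ^ p = 1 := h.pow _ h2
        have h4 : Commute (y ^ i) x := hcomm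
        rw [h4.mul_pow, ← pow_mul, mul_comm i p, pow_mul, hyp, one_pow, one_mul] at h3
        obtain ⟨k, hk⟩ := (IsPGroup.iff_orderOf.mp hR'r) ⟨x, hx⟩
        rw [Subgroup.orderOf_mk] at hk
        have h5 : orderOf x ∣ p := orderOf_dvd_of_pow_eq_one h3
        have h6 : Nat.Coprime (orderOf x) p := by
          rw [hk]; exact Nat.Coprime.pow_left k ((Nat.coprime_primes hr hp).mpr hrp)
        exact orderOf_eq_one_iff.mp (Nat.eq_one_of_dvd_coprimes h6 dvd_rfl h5)
      · intro x hx
        have h2 : ∑ i ∈ Finset.range p, act V (x * y * x⁻¹) ^ i = 0 := by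
          apply hactz
          intro hm
          apply hyH
          have := hHn.conj_mem _ hm x⁻¹
          have h3 : x⁻¹ * (x * y * x⁻¹) * x⁻¹⁻¹ = y := by group
          rwa [h3] at this
        exact h2
      · exact sum_act_eq_zero_of_fixed V R' hZ0
    have h2 : (1 : AddMonoid.End (Additive V)) = 0 := by
      apply eq_of_natCast_mul V (n := Fintype.card R')
      · rw [← Nat.card_eq_fintype_card]; exact hcop.symm
      · rw [h1]; simp
    apply hVb
    rw [eq_bot_iff]
    intro v hv
    have h3 := DFunLike.congr_fun h2 (Additive.ofMul (⟨v, hv⟩ : V))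
    have h4 : (⟨v, hv⟩ : V) = 1 := h3
    exact congrArg Subtype.val h4

end H73.Hughes
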