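import Mathlib

/-!
# Normal partitions of finite groups, basics (H73.Prt1)

A normal partition is given by the function `c` assigning to an element its component.
-/

set_option autoImplicit false
open Subgroup

namespace H73.Pt

/-- a normal partition of `G`, `c g` is the component of `g` -/
structure Prt {G : Type*} [Group G] (c : G → Subgroup G) : Prop where
  mem : ∀ g, g ∈ c g
  eq : ∀ g h, g ≠ 1 → h ≠ 1 → h ∈ c g → c h = c g
  conj : ∀ g k x, g ≠ 1 → (k * x * k⁻¹ ∈ c (k * g * k⁻¹) ↔ x ∈ c g)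

/-- `X` is a component -/
def IsComp {G : Type*} [Group G] (c : G → Subgroup G) (X : Subgroup G) : Prop :=
  X ≠ ⊥ ∧ ∀ x ∈ X, x ≠ 1 → c x = X

variable {G : Type*} [Group G] {c : G → Subgroup G}

theorem conj_ne_one {g k : G} (hg : g ≠ 1) : k * g * k⁻¹ ≠ 1 := by
  intro h
  apply hg
  have : g = k⁻¹ * (k * g * k⁻¹) * k := by group
  rw [this, h]; group

theorem Prt.isComp (hc : Prt c) {g : G} (hg : g ≠ 1) : IsComp c (c g) := by
  refine ⟨?_, fun x hx hx1 => hc.eq g x hg hx1 hx⟩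
  intro h
  apply hg
  rw [← mem_bot, ← h]
  exact hc.mem g

theorem IsComp.exists_ne {X : Subgroup G} (hX : IsComp c X) : ∃ x ∈ X, x ≠ 1 := by
  obtain ⟨x, hx, hx1⟩ := (bot_or_exists_ne_one X).resolve_left hX.1
  exact ⟨x, hx, hx1⟩

theorem IsComp.eq {X Y : Subgroup G} (hX : IsComp c X) (hY : IsComp c Y) {g : G} (hg : g ≠ 1)
    (h1 : g ∈ X) (h2 : g ∈ Y) : X = Y := by
  rw [← hX.2 g h1 hg, hY.2 g h2 hg]

theorem IsComp.inf_eq_bot {X Y : Subgroup G} (hX : IsComp c X) (hY : IsComp c Y) (hne : X ≠ Y) :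
    X ⊓ Y = ⊥ := by
  rw [eq_bot_iff]
  intro g hg
  rw [mem_bot]
  by_contra h
  exact hne (hX.eq hY h hg.1 hg.2)

theorem Prt.mem_iff (hc : Prt c) {X : Subgroup G} (hX : IsComp c X) {g : G} (hg : g ≠ 1) :
    g ∈ X ↔ c g = X :=
  ⟨fun h => hX.2 g h hg, fun h => h ▸ hc.mem g⟩

theorem Prt.pow_mem (hc : Prt c) (g : G) (n : ℕ) : g ^ n ∈ c g := Subgroup.pow_mem _ (hc.mem g) n

/-- a power of an element outside a component lying in the component is trivial -/
theorem IsComp.pow_eq_one {X : Subgroup G} (hX : IsComp c X) (hc : Prt c) {y : G} (hy : y ∉ X) {n : ℕ}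
    (h : y ^ n ∈ X) : y ^ n = 1 := by
  by_contra hne
  apply hy
  have hy1 : y ≠ 1 := by rintro rfl; simp at hne
  have h1 : c (y ^ n) = c y := hc.eq y _ hy1 hne (hc.pow_mem y n)
  have h2 : c (y ^ n) = X := hX.2 _ h hne
  rw [← h2, h1]
  exact hc.mem y

theorem IsComp.pow_not_mem {X : Subgroup G} (hX : IsComp c X) (hc : Prt c) {y : G} (hy : y ∉ X) {n : ℕ}
    (h : y ^ n ≠ 1) : y ^ n ∉ X := fun h' => h (hX.pow_eq_one hc hy h')

theorem Prt.ord_not_lt (hc : Prt c) [Finite G] {x y : G} (hx : x ≠ 1) (hy : y ≠ 1) (hxy : y ∉ c x)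
    (hcomm : x * y = y * x) : ¬ orderOf x < orderOf y := by
  intro h
  set n := orderOf x with hn
  have hn0 : 0 < n := orderOf_pos x
  have h1 : (x * y) ^ n = y ^ n := by
    rw [(show Commute x y from hcomm).mul_pow, hn, pow_orderOf_eq_one, one_mul]
  have h2 : y ^ n ≠ 1 := pow_ne_one_of_lt_orderOf hn0.ne' h
  have h3 : x * y ≠ 1 := by
    intro h4
    rw [h4, one_pow] at h1
    exact h2 h1.symm
  have h4 : c ((x * y) ^ n) = c (x * y) := hc.eq _ _ h3 (by rw [h1]; exact h2) (hc.pow_mem _ n)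
  have h5 : c (y ^ n) = c y := hc.eq _ _ hy h2 (hc.pow_mem _ n)
  have h6 : x * y ∈ c y := by
    rw [← h5, ← h1, h4]
    exact hc.mem _
  have h7 : x ∈ c y := by
    have := mul_mem h6 (inv_mem (hc.mem y))
    rwa [mul_inv_cancel_right] at this
  exact hxy (hc.eq y x hy hx h7 ▸ hc.mem y)

theorem Prt.symm (hc : Prt c) {g h : G} (hg : g ≠ 1) (hh : h ≠ 1) (hm : h ∈ c g) : g ∈ c h := by
  rw [hc.eq g h hg hh hm]; exact hc.mem g

theorem Prt.orderOf_eq (hc : Prt c) [Finite G] {x y : G} (hx : x ≠ 1) (hy : y ≠ 1) (hxy : y ∉ c x)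
    (hcomm : x * y = y * x) : orderOf x = orderOf y :=
  le_antisymm (_root_.not_lt.1 (hc.ord_not_lt hy hx (fun h => hxy (hc.symm hy hx h)) hcomm.symm))
    (_root_.not_lt.1 (hc.ord_not_lt hx hy hxy hcomm))

/-- commuting elements of different components have the same prime order -/
theorem Prt.prime_of_comm (hc : Prt c) [Finite G] {x y : G} (hx : x ≠ 1) (hy : y ≠ 1) (hxy : y ∉ c x)
    (hcomm : x * y = y * x) : ∃ r, r.Prime ∧ orderOf x = r ∧ orderOf y = r := by
  have h1 := hc.orderOf_eq hx hy hxy hcomm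
  refine ⟨orderOf x, ?_, rfl, h1.symm⟩
  have hne : orderOf x ≠ 1 := fun h => hx (orderOf_eq_one_iff.1 h)
  obtain ⟨p, hp, hpx⟩ := Nat.exists_prime_and_dvd hne
  have h2 : x ^ p = 1 := by
    by_contra h3
    have h4 : y ∉ c (x ^ p) := by
      rw [hc.eq x _ hx h3 (hc.pow_mem x p)]; exact hxy
    have h5 := hc.orderOf_eq h3 hy h4 (((show Commute x y from hcomm).pow_left p))
    have h6 : orderOf (x ^ p) = orderOf x / p := orderOf_pow_of_dvd hp.ne_zero hpx
    rw [h6, ← h1] at h5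
    exact absurd h5 (Nat.div_lt_self (orderOf_pos x) hp.one_lt).ne
  have h3 : orderOf x = p := Nat.dvd_antisymm (orderOf_dvd_of_pow_eq_one h2) hpx
  rw [h3]; exact hp

/-- commuting elements of different orders lie in the same component -/
theorem Prt.mem_of_comm (hc : Prt c) [Finite G] {x y : G} (hx : x ≠ 1) (hy : y ≠ 1)
    (hcomm : x * y = y * x) (hne : orderOf x ≠ orderOf y) : y ∈ c x := by
  by_contra h
  exact hne (hc.orderOf_eq hx hy h hcomm)

theorem Prt.mem_comp_of_comm (hc : Prt c) [Finite G] {X : Subgroup G} (hX : IsComp c X) {x y : G} (hxX : x ∈ X)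
    (hx : x ≠ 1) (hcomm : x * y = y * x) (hne : orderOf x ≠ orderOf y) : y ∈ X := by
  by_cases hy : y = 1
  · rw [hy]; exact one_mem _
  rw [← hX.2 x hxX hx]
  exact hc.mem_of_comm hx hy hcomm hne

/-- an element commuting with an element outside... has prime order -/
theorem Prt.comp_prime (hc : Prt c) [Finite G] {X : Subgroup G} (hX : IsComp c X) {x y : G} (hxX : x ∈ X)
    (hx : x ≠ 1) (hy : y ∉ X) (hcomm : x * y = y * x) :
    ∃ r, r.Prime ∧ orderOf x = r ∧ orderOf y = r := by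
  have hy1 : y ≠ 1 := by rintro rfl; exact hy (one_mem _)
  exact hc.prime_of_comm hx hy1 (by rwa [hX.2 x hxX hx]) hcomm

theorem Prt.mem_normalizer (hc : Prt c) {X : Subgroup G} (hX : IsComp c X) {h k : G} (hh : h ∈ X) (hh1 : h ≠ 1)
    (hk : k * h * k⁻¹ ∈ X) : k ∈ normalizer (X : Set G) := by
  have h1 : c (k * h * k⁻¹) = X := hX.2 _ hk (conj_ne_one hh1)
  have h2 : c h = X := hX.2 h hh hh1
  rw [mem_normalizer_iff]
  intro x
  have h3 := hc.conj h k x hh1
  rw [h1, h2] at h3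
  exact h3.symm

theorem Prt.mem_normalizer_of_comm (hc : Prt c) {X : Subgroup G} (hX : IsComp c X) {h k : G} (hh : h ∈ X)
    (hh1 : h ≠ 1) (hk : k * h = h * k) : k ∈ normalizer (X : Set G) := by
  apply hc.mem_normalizer hX hh hh1
  rw [hk, mul_inv_cancel_right]; exact hh

/-- the restriction of a partition to a subgroup -/
theorem Prt.sub (hc : Prt c) (H : Subgroup G) : Prt (fun h : H => (c (h : G)).subgroupOf H) where
  mem g := by rw [mem_subgroupOf]; exact hc.mem _
  eq g h hg hh hm := by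
    rw [mem_subgroupOf] at hm
    show (c (h : G)).subgroupOf H = (c (g : G)).subgroupOf H
    rw [hc.eq (g : G) (h : G) (fun h' => hg (Subtype.ext h')) (fun h' => hh (Subtype.ext h')) hm]
  conj g k x hg := by
    rw [mem_subgroupOf, mem_subgroupOf]
    exact hc.conj (g : G) (k : G) (x : G) (fun h' => hg (Subtype.ext h'))

theorem IsComp.sub {X : Subgroup G} (hX : IsComp c X) {H : Subgroup G} (hne : X ⊓ H ≠ ⊥) :
    IsComp (fun h : H => (c (h : G)).subgroupOf H) (X.subgroupOf H) := by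
  refine ⟨?_, ?_⟩
  · intro h
    rw [subgroupOf_eq_bot] at h
    exact hne (disjoint_iff.1 h)
  · intro x hx hx1
    rw [mem_subgroupOf] at hx
    show (c (x : G)).subgroupOf H = X.subgroupOf H
    rw [hX.2 (x : G) hx (fun h' => hx1 (Subtype.ext h'))]

/-- conjugates of components are components -/
theorem IsComp.conj (hc : Prt c) {X : Subgroup G} (hX : IsComp c X) (k : G) :
    IsComp c (X.map (MulAut.conj k).toMonoidHom) := by
  refine ⟨?_, ?_⟩
  · intro h
    rw [map_eq_bot_iff_of_injective _ (MulAut.conj k).injective] at h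
    exact hX.1 h
  · rintro _ ⟨x, hx, rfl⟩ hx1
    have hx1' : x ≠ 1 := by rintro rfl; exact hx1 (map_one _)
    have h2 : c x = X := hX.2 x hx hx1'
    ext y
    have h3 := hc.conj x k (k⁻¹ * y * k) hx1'
    rw [h2] at h3
    have h4 : k * (k⁻¹ * y * k) * k⁻¹ = y := by group
    rw [h4] at h3
    show y ∈ c (k * x * k⁻¹) ↔ _
    rw [h3, mem_map]
    constructor
    · intro h
      exact ⟨k⁻¹ * y * k, h, by show k * (k⁻¹ * y * k) * k⁻¹ = y; exact h4⟩
    · rintro ⟨z, hz, rfl⟩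
      have : k⁻¹ * ((MulAut.conj k).toMonoidHom z) * k = z := by
        show k⁻¹ * (k * z * k⁻¹) * k = z
        group
      rw [this]; exact hz

/-- **Absorption**: an abelian group of exponent `p` normalising a component `Z` and normalised by a
`p'`-element of `Z` lies in `Z` -/
theorem Prt.absorb (hc : Prt c) [Finite G] {Z : Subgroup G} (hZ : IsComp c Z) {x : G} (hxZ : x ∈ Z)
    (hx1 : x ≠ 1) {p : ℕ} (hp : p.Prime) (hxp : (orderOf x).Coprime p) {V : Subgroup G}
    (hVp : ∀ v ∈ V, v ^ p = 1) (hVc : ∀ u ∈ V, ∀ v ∈ V, u * v = v * u)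
    (hxV : ∀ u ∈ V, x * u * x⁻¹ ∈ V) (hVZ : V ≤ normalizer (Z : Set G)) : V ≤ Z := by
  intro u hu
  set n := orderOf x with hn
  have h1 : ∀ k : ℕ, ∃ w ∈ V, (u * x) ^ k = w * x ^ k := by
    intro k
    induction k with
    | zero => exact ⟨1, one_mem _, by simp⟩
    | succ k ih =>
      obtain ⟨w, hw, hk⟩ := ih
      have hconj : ∀ j : ℕ, ∀ v ∈ V, x ^ j * v * (x ^ j)⁻¹ ∈ V := by
        intro j
        induction j with
        | zero => intro v hv; simpa using hv
        | succ j ihj =>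
          intro v hv
          have := hxV _ (ihj v hv)
          have h' : x ^ (j + 1) * v * (x ^ (j + 1))⁻¹ = x * (x ^ j * v * (x ^ j)⁻¹) * x⁻¹ := by
            rw [pow_succ']; group
          rw [h']; exact this
      refine ⟨w * (x ^ k * u * (x ^ k)⁻¹), mul_mem hw (hconj k u hu), ?_⟩
      rw [pow_succ, hk, pow_succ]; group
  obtain ⟨w, hw, hwn⟩ := h1 n
  rw [hn, pow_orderOf_eq_one, ← hn, mul_one] at hwn
  -- `w = (u x)^n` commutes with `x`
  have hcx : w * x = x * w := by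
    have h2 : w * (u * x) = (u * x) * w := by
      rw [← hwn, ← pow_succ, ← pow_succ']
    have h3 : u * (w * x) = u * (x * w) := by
      rw [← mul_assoc, ← hVc w hw u hu, mul_assoc, h2, mul_assoc]
    exact mul_left_cancel h3
  have hwZ : w ∈ Z := by
    by_cases hw1 : w = 1
    · rw [hw1]; exact one_mem _
    apply hc.mem_comp_of_comm hZ hxZ hx1 hcx.symm
    rw [← hn]
    intro h4
    have h5 : orderOf w ∣ p := orderOf_dvd_of_pow_eq_one (hVp w hw)
    rw [← h4] at h5
    have h6 := Nat.eq_one_of_dvd_coprimes hxp dvd_rfl h5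
    exact hx1 (orderOf_eq_one_iff.1 (by rw [← hn]; exact h6))
  -- `(u x)^k ∈ u^k Z`
  have h2 : ∀ k : ℕ, ∃ z ∈ Z, (u * x) ^ k = u ^ k * z := by
    intro k
    induction k with
    | zero => exact ⟨1, one_mem _, by simp⟩
    | succ k ih =>
      obtain ⟨z, hz, hk⟩ := ih
      have h3 : u⁻¹ * z * u ∈ Z := by
        have := (mem_normalizer_iff.1 (inv_mem (hVZ hu)) z).1 hz
        simpa using this
      refine ⟨(u⁻¹ * z * u) * x, mul_mem h3 hxZ, ?_⟩
      rw [pow_succ, hk, pow_succ]; group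
  obtain ⟨z, hz, hzn⟩ := h2 n
  have h3 : u ^ n ∈ Z := by
    have : u ^ n = w * z⁻¹ := by rw [← hwn, hzn, mul_inv_cancel_right]
    rw [this]
    exact mul_mem hwZ (inv_mem hz)
  have h4 : u ^ p ∈ Z := by rw [hVp u hu]; exact one_mem _
  have h5 : (n : ℤ).gcd p = 1 := by rw [Int.gcd_natCast_natCast]; exact hxp
  have h6 : u = (u ^ n) ^ (Int.gcdA n p) * (u ^ p) ^ (Int.gcdB n p) := by
    rw [← zpow_natCast u n, ← zpow_natCast u p, ← zpow_mul, ← zpow_mul, ← zpow_add, ← Int.gcd_eq_gcd_ab, h5]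
    simp
  rw [h6]
  exact mul_mem (zpow_mem h3 _) (zpow_mem h4 _)

end H73.Pt
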