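import Mathlib
import Cfsg.Agent.Lib.H73.Prt1
import Cfsg.Agent.Lib.H73.Split
import Cfsg.Agent.Lib.H73.Hughes
import Cfsg.Agent.Lib.H73.Hughes2
import Cfsg.Agent.Lib.H51.SylowAmb
import Cfsg.Agent.Lib.H55.BaerSuzuki
import Cfsg.Agent.Lib.H24.ReeSolv
import Cfsg.Agent.Lib.H82.Frob
import Cfsg.Agent.Lib.H65.PBasic
import Cfsg.Agent.Lib.H1.Cores
import Cfsg.Agent.Lib.H13.Cores

/-!
# Partitions: norm lemma, nilpotency of normal components, normal Sylow subgroups (H73.Prt2)
-/

set_option autoImplicit false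
open Subgroup
open scoped IsMulCommutative

universe u

namespace H73.Pt

section norm

theorem norm_normal {G : Type u} [Group G] [Finite G] {p : ℕ} (hp : p.Prime) (V R : Subgroup G) [V.Normal]
    [IsMulCommutative V] (y : G) (hy : y ∈ normalizer (R : Set G)) (hyp : y ^ p = 1)
    (hfpf : ∀ h ∈ R, ∀ i, 0 < i → i < p → y ^ i * h = h * y ^ i → h = 1)
    (hnorm : ∀ v ∈ V, (v * y) ^ p = 1)
    (hfix : ∀ v ∈ V, (∀ g ∈ R, g * v = v * g) → v = 1) : ∀ v ∈ V, v ^ (Nat.card R) = 1 := by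
  classical
  have := Fact.mk hp
  have := Fintype.ofFinite R
  have h1 : ((Fintype.card R : ℕ) : AddMonoid.End (Additive V)) = 0 := by
    refine H73.Split.card_eq_zero (H73.Split.act V) R y hy hfpf ?_ ?_
    · intro h hh
      apply H73.Split.sum_act_eq_zero V (h * y * h⁻¹)
      · rw [conj_pow, hyp]; group
      · intro v hv
        have h2 : v * (h * y * h⁻¹) = h * ((h⁻¹ * v * h) * y) * h⁻¹ := by group
        rw [h2, conj_pow, hnorm]
        · group
        · have := (inferInstance : V.Normal).conj_mem v hv h⁻¹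
          rwa [inv_inv] at this
    · apply H73.Hughes.sum_act_eq_zero_of_fixed
      rw [eq_bot_iff]
      intro v hv
      rw [mem_bot]
      exact hfix v hv.1 (fun g hg => (mem_centralizer_iff.1 hv.2 g hg))
  intro v hv
  have h2 := DFunLike.congr_fun h1 (Additive.ofMul (⟨v, hv⟩ : V))
  rw [AddMonoid.End.natCast_apply] at h2
  have h3 : (⟨v, hv⟩ : V) ^ (Fintype.card R) = 1 := h2
  have h4 := congrArg Subtype.val h3
  rw [Nat.card_eq_fintype_card]
  simpa using h4

/-- **Norm lemma** -/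
theorem norm_lemma {G : Type u} [Group G] [Finite G] {p : ℕ} (hp : p.Prime) (V R : Subgroup G)
    (hVc : ∀ u ∈ V, ∀ v ∈ V, u * v = v * u) (hRV : R ≤ normalizer (V : Set G)) (y : G)
    (hyV : y ∈ normalizer (V : Set G)) (hy : y ∈ normalizer (R : Set G)) (hyp : y ^ p = 1)
    (hfpf : ∀ h ∈ R, ∀ i, 0 < i → i < p → y ^ i * h = h * y ^ i → h = 1)
    (hnorm : ∀ v ∈ V, (v * y) ^ p = 1)
    (hfix : ∀ v ∈ V, (∀ g ∈ R, g * v = v * g) → v = 1) : ∀ v ∈ V, v ^ (Nat.card R) = 1 := by
  set N := normalizer (V : Set G) with hN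
  have hVN : V ≤ N := le_normalizer
  have : (V.subgroupOf N).Normal := by
    rw [Subgroup.normal_subgroupOf_iff_le_normalizer hVN]
  have hcomm : IsMulCommutative (V.subgroupOf N) := by
    refine ⟨⟨fun a b => ?_⟩⟩
    apply Subtype.ext; apply Subtype.ext
    exact hVc _ (mem_subgroupOf.1 a.2) _ (mem_subgroupOf.1 b.2)
  have h1 := norm_normal hp (V.subgroupOf N) (R.subgroupOf N) (⟨y, hyV⟩ : N) ?_ ?_ ?_ ?_ ?_
  · intro v hv
    have h2 := h1 (⟨v, hVN hv⟩ : N) (mem_subgroupOf.2 hv)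
    rw [Nat.card_congr (Subgroup.subgroupOfEquivOfLe hRV).toEquiv] at h2
    have h3 := congrArg Subtype.val h2
    simpa using h3
  · rw [mem_normalizer_iff]
    intro x
    rw [mem_subgroupOf, mem_subgroupOf]
    exact mem_normalizer_iff.1 hy x
  · apply Subtype.ext; simpa using hyp
  · intro h hh i hi hip hcomm
    apply Subtype.ext
    exact hfpf h (mem_subgroupOf.1 hh) i hi hip (by simpa using congrArg Subtype.val hcomm)
  · intro v hv
    apply Subtype.ext
    simpa using hnorm v (mem_subgroupOf.1 hv)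
  · intro v hv hfx
    apply Subtype.ext
    apply hfix v (mem_subgroupOf.1 hv)
    intro g hg
    exact congrArg Subtype.val (hfx ⟨g, hRV hg⟩ (mem_subgroupOf.2 hg))

end norm

section comm

variable {G : Type u} [Group G] [Finite G] {c : G → Subgroup G}

/-- a commuting pair of a `p`-element and a `p'`-element acting on `V` -/
theorem Prt.pc (hc : Prt c) {p : ℕ} (hp : p.Prime) {w y : G} (hw1 : w ≠ 1) (hwp : w ^ p = 1) (hy1 : y ≠ 1)
    (hyp : (orderOf y).Coprime p) (hwy : w * y = y * w) {V : Subgroup G} (hVp : ∀ v ∈ V, v ^ p = 1)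
    (hVc : ∀ u ∈ V, ∀ v ∈ V, u * v = v * u) (hyV : ∀ u ∈ V, y * u * y⁻¹ ∈ V) {v : G} (hv : v ∈ V)
    (hvw : v * w = w * v) : v ∈ c w := by
  have hZ := hc.isComp hw1
  have := Fact.mk hp
  have how : orderOf w = p := orderOf_eq_prime hwp hw1
  have hyZ : y ∈ c w := by
    apply hc.mem_of_comm hw1 hy1 hwy
    rw [how]
    intro h
    rw [← h] at hyp
    exact hp.one_lt.ne' (Nat.eq_one_of_dvd_coprimes hyp (dvd_refl p) (dvd_refl p))
  have h1 : V ⊓ centralizer {w} ≤ c w := by
    apply hc.absorb hZ hyZ hy1 hp hyp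
    · exact fun u hu => hVp u hu.1
    · exact fun u hu v hv => hVc u hu.1 v hv.1
    · intro u hu
      refine ⟨hyV u hu.1, ?_⟩
      have hu2 := mem_centralizer_singleton_iff.1 hu.2
      refine mem_centralizer_singleton_iff.2 ?_
      have h3 : y⁻¹ * w = w * y⁻¹ := ((show Commute w y from hwy).inv_right).eq.symm
      calc y * u * y⁻¹ * w = y * u * (y⁻¹ * w) := by group
        _ = y * (u * w) * y⁻¹ := by rw [h3]; group
        _ = (y * w) * u * y⁻¹ := by rw [hu2]; group
        _ = w * (y * u * y⁻¹) := by rw [← hwy]; group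
    · intro u hu
      have hu2 := mem_centralizer_singleton_iff.1 hu.2
      exact hc.mem_normalizer_of_comm hZ (hc.mem w) hw1 hu2
  exact h1 ⟨hv, mem_centralizer_singleton_iff.2 hvw⟩

/-- **Kegel**: a proper normal component is nilpotent -/
theorem Prt.nilpotent_of_normal (hc : Prt c) {X : Subgroup G} (hX : IsComp c X) [X.Normal] (hXt : X ≠ ⊤) :
    Group.IsNilpotent X := by
  have hidx : X.index ≠ 1 := fun h => hXt (Subgroup.index_eq_one.1 h)
  obtain ⟨r, hr, hrX⟩ := Nat.exists_prime_and_dvd hidx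
  have := Fact.mk hr
  obtain ⟨y, hy⟩ := exists_prime_orderOf_dvd_card' (G := G ⧸ X) r hrX
  set K := (zpowers y).comap (QuotientGroup.mk' X) with hK
  have hXK : X ≤ K := by
    intro x hx
    rw [hK, mem_comap]
    have : (QuotientGroup.mk' X) x = 1 := by
      rw [QuotientGroup.mk'_apply, QuotientGroup.eq_one_iff]; exact hx
    rw [this]; exact one_mem _
  have hmap : K.map (QuotientGroup.mk' X) = zpowers y :=
    map_comap_eq_self_of_surjective (QuotientGroup.mk'_surjective X) _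
  have hrel : X.relIndex K = r := by
    have h1 := Subgroup.relIndex_ker (QuotientGroup.mk' X) (K := K)
    rw [QuotientGroup.ker_mk', hmap, Nat.card_zpowers, hy] at h1
    exact h1
  have hSp : H73.Hughes.Sp r K (X.subgroupOf K) := by
    refine ⟨inferInstance, hrel, ?_⟩
    intro g hg
    have hg' : (g : G) ∉ X := fun h => hg (mem_subgroupOf.2 h)
    have h1 : g ^ (X.subgroupOf K).index ∈ X.subgroupOf K := Subgroup.pow_index_mem _ g
    have h2 : (X.subgroupOf K).index = r := hrel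
    rw [h2, mem_subgroupOf] at h1
    apply Subtype.ext
    have h3 : (g : G) ^ r ∈ X := by simpa using h1
    have := hX.pow_eq_one hc hg' h3
    simpa using this
  have h2 := H73.Hughes.main hr (Nat.card K) K (X.subgroupOf K) rfl hSp
  exact Group.nilpotent_of_mulEquiv (_h := h2) (Subgroup.subgroupOfEquivOfLe hXK)

end comm

section ns

variable {G : Type u} [Group G] [Finite G]

omit [Finite G] in
theorem mem_of_coprime {a b : ℕ} {z : G} (M : Subgroup G) (hab : a.Coprime b) (ha : z ^ a ∈ M)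
    (hb : z ^ b ∈ M) : z ∈ M := by
  have h5 : (a : ℤ).gcd b = 1 := by rw [Int.gcd_natCast_natCast]; exact hab
  have h6 : z = (z ^ a) ^ (Int.gcdA a b) * (z ^ b) ^ (Int.gcdB a b) := by
    rw [← zpow_natCast z a, ← zpow_natCast z b, ← zpow_mul, ← zpow_mul, ← zpow_add,
      ← Int.gcd_eq_gcd_ab, h5]
    simp
  rw [h6]
  exact mul_mem (zpow_mem ha _) (zpow_mem hb _)

theorem ns_core {p q : ℕ} (hp : p.Prime) (hq : q.Prime) (hqp : q ≠ p) {K L : Subgroup G} (hKL : K ≤ L)
    (hLK : ∀ x ∈ L, ∃ k, x ^ (q ^ k) ∈ K) {x : G} (hxL : x ∈ L) (hxK : x ∉ K) {g : G}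
    (hgL : g ∈ normalizer (L : Set G)) (hgK : g ∉ K) (hgp : g ^ p ∈ K) :
    ∃ Q : Subgroup G, Q ≤ L ∧ IsPGroup q Q ∧ ¬ Q ≤ K ∧ ∃ w ∈ normalizer (Q : Set G), w ∉ L ∧ w ^ p ∈ K := by
  have := Fact.mk hq
  have hgnL : g ∉ L := by
    intro h
    obtain ⟨k, hk⟩ := hLK g h
    exact hgK (mem_of_coprime K (((Nat.coprime_primes hq hp).2 hqp).pow_left k) hk hgp)
  -- a `q`-element of `L` outside `K`
  obtain ⟨a, m, hm, hxm⟩ := Nat.exists_eq_pow_mul_and_not_dvd (orderOf_pos x).ne' q hq.ne_one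
  have hx' : x ^ m ∉ K := by
    intro h
    obtain ⟨k, hk⟩ := hLK x hxL
    exact hxK (mem_of_coprime K (((Nat.Prime.coprime_iff_not_dvd hq).2 hm).pow_left k) hk h)
  have hz : IsPGroup q (zpowers (x ^ m)) := by
    have h1 : (x ^ m) ^ (q ^ a) = 1 := by
      rw [← pow_mul, mul_comm, ← hxm, pow_orderOf_eq_one]
    obtain ⟨j, -, hj⟩ := (Nat.dvd_prime_pow hq).1 (orderOf_dvd_of_pow_eq_one h1)
    exact IsPGroup.of_card (n := j) (by rw [Nat.card_zpowers, hj])
  obtain ⟨Q, hzQ, hQL, hQ, hQi⟩ := H51.SylowAmb.exists_sylow_ge (p := q) (K := L)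
    (Q := zpowers (x ^ m)) (by rw [zpowers_le]; exact Subgroup.pow_mem _ hxL m) hz
  obtain ⟨y, hyL, hyg⟩ := H51.SylowAmb.frattini hQL hQ hQi hgL
  set s := y * g with hs
  have hsn : ∀ n : ℕ, ∃ l ∈ L, s ^ n = l * g ^ n := by
    intro n
    induction n with
    | zero => exact ⟨1, one_mem _, by simp⟩
    | succ n ih =>
      obtain ⟨l, hl, hn⟩ := ih
      have h1 : g ^ n * y * (g ^ n)⁻¹ ∈ L := (mem_normalizer_iff.1 (pow_mem hgL n) y).1 hyL
      refine ⟨l * (g ^ n * y * (g ^ n)⁻¹), mul_mem hl h1, ?_⟩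
      rw [pow_succ, hn, hs, pow_succ]; group
  have hsL : s ∉ L := fun h => hgnL ((Subgroup.mul_mem_cancel_left L hyL).1 h)
  have hspL : s ^ p ∈ L := by
    obtain ⟨l, hl, hn⟩ := hsn p
    rw [hn]; exact mul_mem hl (hKL hgp)
  obtain ⟨k, hk⟩ := hLK _ hspL
  refine ⟨Q, hQL, hQ, fun h => hx' (h (hzQ (mem_zpowers _))), s ^ (q ^ k), pow_mem hyg _, ?_, ?_⟩
  · intro h
    exact hsL (mem_of_coprime L (((Nat.coprime_primes hq hp).2 hqp).pow_left k) h hspL)
  · rw [← pow_mul, mul_comm, pow_mul]; exact hk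

omit [Finite G] in
theorem exists_pow_order {p : ℕ} (hp : p.Prime) {w : G} (hw : w ≠ 1) {k : ℕ} (hk : w ^ (p ^ k) = 1) :
    ∃ j : ℕ, w ^ j ≠ 1 ∧ (w ^ j) ^ p = 1 := by
  obtain ⟨m, hmk, hm⟩ := (Nat.dvd_prime_pow hp).1 (orderOf_dvd_of_pow_eq_one hk)
  have hm0 : m ≠ 0 := by
    rintro rfl
    rw [pow_zero] at hm
    exact hw (orderOf_eq_one_iff.1 hm)
  refine ⟨p ^ (m - 1), ?_, ?_⟩
  · intro h
    have h1 := orderOf_dvd_of_pow_eq_one h
    rw [hm] at h1
    have := (Nat.pow_dvd_pow_iff_le_right hp.one_lt).1 h1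
    omega
  · rw [← pow_mul, ← pow_succ, Nat.sub_add_cancel (Nat.one_le_iff_ne_zero.2 hm0), ← hm, pow_orderOf_eq_one]

theorem ns_aux {p q : ℕ} (hp : p.Prime) (hq : q.Prime) (hqp : q ≠ p) {K L : Subgroup G} (hKp : IsPGroup p K)
    (hKL : K ≤ L)
    (hLK : ∀ x ∈ L, ∃ k, x ^ (q ^ k) ∈ K) {x : G} (hxL : x ∈ L) (hxK : x ∉ K) {g : G}
    (hgL : g ∈ normalizer (L : Set G)) (hgK : g ∉ K) (hgp : g ^ p ∈ K) :
    ∃ Q : Subgroup G, IsPGroup q Q ∧ Q ≠ ⊥ ∧ ∃ w ∈ normalizer (Q : Set G), w ≠ 1 ∧ w ^ p = 1 := by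
  obtain ⟨Q, -, hQ, hQK, w, hw, hwL, hwp⟩ := ns_core hp hq hqp hKL hLK hxL hxK hgL hgK hgp
  have hw1 : w ≠ 1 := by rintro rfl; exact hwL (one_mem _)
  obtain ⟨k, hk⟩ := hKp ⟨_, hwp⟩
  have hk' : w ^ (p ^ (k + 1)) = 1 := by
    have := congrArg Subtype.val hk
    simp only [SubgroupClass.coe_pow, OneMemClass.coe_one] at this
    rw [pow_succ', pow_mul]; exact this
  obtain ⟨j, hj1, hj2⟩ := exists_pow_order hp hw1 hk'
  exact ⟨Q, hQ, fun h => hQK (h ▸ bot_le), w ^ j, pow_mem hw j, hj1, hj2⟩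

/-- a group without `p`-elements acting on nontrivial `q`-subgroups has a normal Sylow `p`-subgroup,
if `p = 2` or the group is solvable -/
theorem normal_sylow {p : ℕ} (hp : p.Prime)
    (hN : ∀ q, q.Prime → q ≠ p → ∀ Q : Subgroup G, IsPGroup q Q → Q ≠ ⊥ → ∀ w ∈ normalizer (Q : Set G),
      w ^ p = 1 → w = 1)
    (hcase : p = 2 ∨ Group.IsSolvable G) : ∃ K : Subgroup G, K.Normal ∧ IsPGroup p K ∧ ¬ p ∣ K.index := by
  have := Fact.mk hp
  set K := Cfsg.pCore p G with hK
  have hKn : K.Normal := by rw [hK]; infer_instance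
  have hKp : IsPGroup p K := H13.Cores.isPGroup_pCore
  have hKq : Cfsg.pCore p (G ⧸ K) = ⊥ := H1.Cores.pCore_quotient_pCore p
  refine ⟨K, hKn, hKp, ?_⟩
  intro hdvd
  obtain ⟨gb, hgb⟩ := exists_prime_orderOf_dvd_card' (G := G ⧸ K) p hdvd
  obtain ⟨g, rfl⟩ := QuotientGroup.mk_surjective gb
  have hgK : g ∉ K := by
    intro h
    rw [(QuotientGroup.eq_one_iff g).2 h, orderOf_one] at hgb
    exact hp.one_lt.ne hgb
  have hgp : g ^ p ∈ K := by
    rw [← QuotientGroup.eq_one_iff, QuotientGroup.mk_pow, ← hgb, pow_orderOf_eq_one]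
  have hfin : ∀ q, q.Prime → q ≠ p → ∀ L : Subgroup G, K ≤ L → (∀ x ∈ L, ∃ k, x ^ (q ^ k) ∈ K) →
      (∃ x ∈ L, x ∉ K) → g ∈ normalizer (L : Set G) → False := by
    rintro q hq hqp L hKL hLK ⟨x, hxL, hxK⟩ hgL
    obtain ⟨Q, hQ, hQb, w, hw, hw1, hwp⟩ := ns_aux hp hq hqp hKp hKL hLK hxL hxK hgL hgK hgp
    exact hw1 (hN q hq hqp Q hQ hQb w hw hwp)
  rcases hcase with rfl | hsolv
  · -- `p = 2`
    by_cases hall : ∀ x : G ⧸ K, Odd (orderOf x) → (g : G ⧸ K) * x * (g : G ⧸ K)⁻¹ = x⁻¹ → x = 1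
    · obtain ⟨N, hNn, hN2, hgN⟩ := H55.BaerSuzuki.exists_normal_of_involution (g : G ⧸ K)
        (by rw [← pow_two, ← hgb, pow_orderOf_eq_one]) hall
      have h1 := H13.Cores.le_pCore hNn hN2
      rw [hKq, le_bot_iff] at h1
      rw [h1, mem_bot, QuotientGroup.eq_one_iff] at hgN
      exact hgK hgN
    · push Not at hall
      obtain ⟨x, hxo, hxg, hx1⟩ := hall
      have hxo1 : orderOf x ≠ 1 := fun h => hx1 (orderOf_eq_one_iff.1 h)
      obtain ⟨q, hq, hqx⟩ := Nat.exists_prime_and_dvd hxo1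
      have hq2 : q ≠ 2 := by
        rintro rfl
        exact (Nat.not_even_iff_odd.2 hxo) (even_iff_two_dvd.2 hqx)
      set z := x ^ (orderOf x / q) with hz
      have hzo : orderOf z = q := by
        rw [hz, orderOf_pow_of_dvd]
        · exact Nat.div_div_self hqx (orderOf_pos x).ne'
        · exact (Nat.div_pos (Nat.le_of_dvd (orderOf_pos x) hqx) hq.pos).ne'
        · exact Nat.div_dvd_of_dvd hqx
      have hzg : (g : G ⧸ K) * z * (g : G ⧸ K)⁻¹ = z⁻¹ := by
        rw [hz, ← conj_pow, hxg, inv_pow]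
      refine hfin q hq hq2 ((zpowers z).comap (QuotientGroup.mk' K)) ?_ ?_ ?_ ?_
      · intro x hx
        rw [mem_comap]
        have : (QuotientGroup.mk' K) x = 1 := by
          rw [QuotientGroup.mk'_apply, QuotientGroup.eq_one_iff]; exact hx
        rw [this]; exact one_mem _
      · intro x hx
        refine ⟨1, ?_⟩
        rw [mem_comap, QuotientGroup.mk'_apply] at hx
        rw [← QuotientGroup.eq_one_iff, QuotientGroup.mk_pow, pow_one]
        obtain ⟨n, hn⟩ := mem_zpowers_iff.1 hx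
        rw [← hn, ← zpow_natCast, ← zpow_mul, mul_comm, zpow_mul, zpow_natCast, ← hzo, pow_orderOf_eq_one,
          one_zpow]
      · obtain ⟨z', hz'⟩ := QuotientGroup.mk_surjective z
        refine ⟨z', ?_, ?_⟩
        · rw [mem_comap, QuotientGroup.mk'_apply, hz']; exact mem_zpowers z
        · intro h
          rw [← QuotientGroup.eq_one_iff, hz'] at h
          rw [h, orderOf_one] at hzo
          exact hq.one_lt.ne hzo
      · have hnz : (g : G ⧸ K) ∈ normalizer (zpowers z : Set (G ⧸ K)) := by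
          rw [mem_normalizer_iff]
          intro h
          constructor
          · intro hh
            obtain ⟨n, rfl⟩ := mem_zpowers_iff.1 hh
            rw [← conj_zpow, hzg]
            exact zpow_mem (inv_mem (mem_zpowers z)) n
          · intro hh
            obtain ⟨n, hn⟩ := mem_zpowers_iff.1 hh
            have h1 : h = (g : G ⧸ K)⁻¹ * z ^ n * (g : G ⧸ K) := by rw [hn]; group
            have h2 : (g : G ⧸ K)⁻¹ * z * (g : G ⧸ K) = z⁻¹ := by
              have := congrArg (fun t => (g : G ⧸ K)⁻¹ * t * (g : G ⧸ K)) hzg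
              have h3 : (g : G ⧸ K)⁻¹ * ((g : G ⧸ K) * z * (g : G ⧸ K)⁻¹) * (g : G ⧸ K) = z := by group
              rw [h3] at this
              have h4 : z⁻¹ = ((g : G ⧸ K)⁻¹ * z⁻¹ * (g : G ⧸ K))⁻¹ := by rw [← this]
              rw [h4]; group
            rw [h1]
            have h5 : (g : G ⧸ K)⁻¹ * z ^ n * (g : G ⧸ K) = ((g : G ⧸ K)⁻¹ * z * (g : G ⧸ K)) ^ n := by
              have := conj_zpow (a := (g : G ⧸ K)⁻¹) (b := z) (i := n)
              rw [inv_inv] at this
              exact this.symm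
            rw [h5, h2]
            exact zpow_mem (inv_mem (mem_zpowers z)) n
        rw [mem_normalizer_iff]
        intro h
        rw [mem_comap, mem_comap, map_mul, map_mul, map_inv]
        exact mem_normalizer_iff.1 hnz _
  · -- solvable
    have : Nontrivial (G ⧸ K) := by
      refine ⟨⟨(g : G ⧸ K), 1, ?_⟩⟩
      intro h
      exact hgK ((QuotientGroup.eq_one_iff g).1 h)
    have hsq : Group.IsSolvable (G ⧸ K) := by
      have := hsolv
      infer_instance
    obtain ⟨q, hqf, N, hNn, hNb, hNq⟩ := H24.ReeSolv.exists_normal_pgroup hsq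
    have hqp : q ≠ p := by
      rintro rfl
      have h1 := H13.Cores.le_pCore hNn hNq
      rw [hKq, le_bot_iff] at h1
      exact hNb h1
    refine hfin q hqf.out hqp (N.comap (QuotientGroup.mk' K)) ?_ ?_ ?_ ?_
    · intro x hx
      rw [mem_comap]
      have : (QuotientGroup.mk' K) x = 1 := by
        rw [QuotientGroup.mk'_apply, QuotientGroup.eq_one_iff]; exact hx
      rw [this]; exact one_mem _
    · intro x hx
      rw [mem_comap, QuotientGroup.mk'_apply] at hx
      obtain ⟨k, hk⟩ := hNq ⟨_, hx⟩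
      refine ⟨k, ?_⟩
      rw [← QuotientGroup.eq_one_iff, QuotientGroup.mk_pow]
      exact congrArg Subtype.val hk
    · obtain ⟨z, hz, hz1⟩ := (bot_or_exists_ne_one N).resolve_left hNb
      obtain ⟨z', hz'⟩ := QuotientGroup.mk_surjective z
      refine ⟨z', ?_, ?_⟩
      · rw [mem_comap, QuotientGroup.mk'_apply, hz']; exact hz
      · intro h
        rw [← QuotientGroup.eq_one_iff, hz'] at h
        exact hz1 h
    · have : (N.comap (QuotientGroup.mk' K)).Normal := hNn.comap _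
      rw [normalizer_eq_top]; trivial

/-- a normal subgroup containing the centralizers of its nonidentity elements is a Frobenius kernel -/
theorem exists_frobenius (A : Subgroup G) [hA : A.Normal] (hAb : A ≠ ⊥) (hAt : A ≠ ⊤)
    (hcent : ∀ x ∈ A, x ≠ 1 → ∀ g : G, g * x = x * g → g ∈ A) :
    ∃ H : Subgroup G, Cfsg.IsFrobeniusComplement H := by
  have hcop : (Nat.card A).Coprime A.index := by
    rw [Nat.coprime_iff_gcd_eq_one]
    by_contra hne
    obtain ⟨p, hp, hpd⟩ := Nat.exists_prime_and_dvd hne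
    have := Fact.mk hp
    have hpA := hpd.trans (Nat.gcd_dvd_left _ _)
    have hpi := hpd.trans (Nat.gcd_dvd_right _ _)
    obtain ⟨x, hx⟩ := exists_prime_orderOf_dvd_card' (G := A) p hpA
    have hx1 : x ≠ 1 := by rintro rfl; rw [orderOf_one] at hx; exact hp.one_lt.ne hx
    have hxz : IsPGroup p (zpowers (x : G)) := IsPGroup.of_card (n := 1) (by
      rw [Nat.card_zpowers, Subgroup.orderOf_coe, hx, pow_one])
    obtain ⟨P, hP⟩ := hxz.exists_le_sylow
    have hPA : (P : Subgroup G) ⊓ A ≠ ⊥ := by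
      intro h
      have : (x : G) ∈ (P : Subgroup G) ⊓ A := ⟨hP (mem_zpowers _), x.2⟩
      rw [h, mem_bot] at this
      exact hx1 (Subtype.ext this)
    have hPn : (P : Subgroup G) ≤ normalizer (((P : Subgroup G) ⊓ A : Subgroup G) : Set G) := by
      intro g hg
      rw [mem_normalizer_iff]
      intro h
      constructor
      · exact fun hh => ⟨(P : Subgroup G).mul_mem ((P : Subgroup G).mul_mem hg hh.1) ((P : Subgroup G).inv_mem hg), hA.conj_mem h hh.2 g⟩
      · intro hh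
        have h1 := (P : Subgroup G).mul_mem ((P : Subgroup G).mul_mem ((P : Subgroup G).inv_mem hg) hh.1) hg
        have h2 := hA.conj_mem _ hh.2 g⁻¹
        have h3 : g⁻¹ * (g * h * g⁻¹) * g = h := by group
        rw [inv_inv] at h2
        rw [h3] at h1 h2
        exact ⟨h1, h2⟩
    have h1 := H65.PBasic.inf_centralizer_ne_bot (P : Subgroup G) ((P : Subgroup G) ⊓ A) P.2
      (P.2.to_le inf_le_left) hPn hPA
    obtain ⟨z, hz, hz1⟩ := (bot_or_exists_ne_one _).resolve_left h1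
    have hPA' : (P : Subgroup G) ≤ A := by
      intro g hg
      exact hcent z hz.1.2 hz1 g (mem_centralizer_iff.1 hz.2 g hg)
    exact P.not_dvd_index (hpi.trans (Subgroup.index_dvd_of_le hPA'))
  obtain ⟨H, hH⟩ := Subgroup.exists_right_complement'_of_coprime hcop
  exact ⟨H, (H82.Frob.isFrobenius A H (disjoint_iff.1 hH.disjoint) hH.sup_eq_top hAb hAt hcent).1⟩

end ns

end H73.Pt
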