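import Mathlib
import Cfsg.Agent.Lib.H73.Prt2
import Cfsg.Agent.S4249
import Cfsg.Agent.Lib.H72.TpCount

/-!
# Partitions: normal components (H73.Prt3)
-/

set_option autoImplicit false
open Subgroup
open scoped IsMulCommutative

universe u

namespace H73.Pt

variable {G : Type u} [Group G] [Finite G]

/-- the elements of order dividing `r` in the centre of a normal `r`-subgroup -/
theorem exists_V_of_pgroup {R : Subgroup G} [hR : R.Normal] {r : ℕ} (hr : r.Prime) (hRr : IsPGroup r R)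
    (hRb : R ≠ ⊥) : ∃ V : Subgroup G, V.Normal ∧ V ≤ R ∧ V ≠ ⊥ ∧ (∀ v ∈ V, v ^ r = 1) ∧
      (∀ u ∈ V, ∀ v ∈ V, u * v = v * u) ∧ (∀ v ∈ V, ∀ x ∈ R, v * x = x * v) := by
  have := Fact.mk hr
  let V : Subgroup G :=
    { carrier := {v | v ∈ R ∧ (∀ x ∈ R, v * x = x * v) ∧ v ^ r = 1}
      mul_mem' := by
        rintro a b ⟨ha, ha1, ha2⟩ ⟨hb, hb1, hb2⟩
        refine ⟨mul_mem ha hb, fun x hx => ?_, ?_⟩
        · rw [mul_assoc, hb1 x hx, ← mul_assoc, ha1 x hx, mul_assoc]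
        · rw [(show Commute a b from ha1 b hb).mul_pow, ha2, hb2, one_mul]
      one_mem' := ⟨one_mem _, fun x _ => by simp, one_pow _⟩
      inv_mem' := by
        rintro a ⟨ha, ha1, ha2⟩
        refine ⟨inv_mem ha, fun x hx => ?_, ?_⟩
        · exact (show Commute a x from ha1 x hx).inv_left.eq
        · rw [inv_pow, ha2, inv_one] }
  have hmem : ∀ v, v ∈ V ↔ v ∈ R ∧ (∀ x ∈ R, v * x = x * v) ∧ v ^ r = 1 := fun v => Iff.rfl
  refine ⟨V, ⟨?_⟩, fun v hv => hv.1, ?_, fun v hv => hv.2.2, fun u hu v hv => hu.2.1 v hv.1,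
    fun v hv x hx => hv.2.1 x hx⟩
  · intro v hv g
    refine ⟨hR.conj_mem v hv.1 g, fun x hx => ?_, ?_⟩
    · have h1 : g⁻¹ * x * g ∈ R := by
        have := hR.conj_mem x hx g⁻¹
        rwa [inv_inv] at this
      have h2 := hv.2.1 _ h1
      calc g * v * g⁻¹ * x = g * (v * (g⁻¹ * x * g)) * g⁻¹ := by group
        _ = g * ((g⁻¹ * x * g) * v) * g⁻¹ := by rw [h2]
        _ = x * (g * v * g⁻¹) := by group
    · rw [conj_pow, hv.2.2]; group
  · have h1 := H65.PBasic.inf_centralizer_ne_bot R R hRr hRr le_normalizer hRb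
    obtain ⟨z, hz, hz1⟩ := (bot_or_exists_ne_one _).resolve_left h1
    obtain ⟨k, hk⟩ := hRr ⟨z, hz.1⟩
    have hk' : z ^ (r ^ k) = 1 := by simpa using congrArg Subtype.val hk
    obtain ⟨j, hj1, hj2⟩ := exists_pow_order hr hz1 hk'
    intro hb
    apply hj1
    rw [← mem_bot, ← hb, hmem]
    refine ⟨Subgroup.pow_mem _ hz.1 j, fun x hx => ?_, hj2⟩
    have h3 : x * z = z * x := mem_centralizer_iff.1 hz.2 x hx
    exact ((show Commute z x from h3.symm).pow_left j).eq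

theorem exists_V {X : Subgroup G} [hXn : X.Normal] (hnil : Group.IsNilpotent X) {r : ℕ} (hr : r.Prime)
    (hrX : r ∣ Nat.card X) : ∃ V : Subgroup G, V.Normal ∧ V ≤ X ∧ V ≠ ⊥ ∧ (∀ v ∈ V, v ^ r = 1) ∧
      (∀ u ∈ V, ∀ v ∈ V, u * v = v * u) := by
  have := Fact.mk hr
  have := hnil
  obtain ⟨P, -⟩ := (IsPGroup.of_bot (p := r) (G := X)).exists_le_sylow
  have hPn := H73.Nilp.sylow_normal P
  have hPc : (P : Subgroup X).Characteristic := Sylow.characteristic_of_normal P hPn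
  have hRn : ((P : Subgroup X).map X.subtype).Normal := inferInstance
  obtain ⟨V, h1, h2, h3, h4, h5, -⟩ := exists_V_of_pgroup (R := (P : Subgroup X).map X.subtype) hr
    (P.2.map _) (by
      intro h
      rw [map_eq_bot_iff_of_injective _ X.subtype_injective] at h
      exact P.ne_bot_of_dvd_card hrX h)
  exact ⟨V, h1, h2.trans (map_subtype_le _), h3, h4, h5⟩

variable {c : G → Subgroup G}

omit [Finite G] in
theorem coprime_of_pgroup {q r : ℕ} (hq : q.Prime) (hr : r.Prime) (hqr : q ≠ r) {h : G} {k : ℕ}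
    (hk : h ^ (q ^ k) = 1) : (orderOf h).Coprime r := by
  apply Nat.Coprime.coprime_dvd_left (orderOf_dvd_of_pow_eq_one hk)
  exact ((Nat.coprime_primes hq hr).2 hqr).pow_left k

omit [Finite G] in
theorem ne_of_coprime {r : ℕ} {h : G} (hh : h ≠ 1) (hcop : (orderOf h).Coprime r) : r ≠ orderOf h := by
  intro h'
  rw [h', Nat.coprime_self] at hcop
  exact hh (orderOf_eq_one_iff.1 hcop)

/-- no commuting pairs outside a normal component -/
theorem Prt.R_pair (hc : Prt c) {X : Subgroup G} (hX : IsComp c X) {r q : ℕ} (hr : r.Prime) (hq : q.Prime)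
    (hqr : q ≠ r) {V : Subgroup G} [hVn : V.Normal] (hVX : V ≤ X) (hVb : V ≠ ⊥) (hVr : ∀ v ∈ V, v ^ r = 1)
    (hVc : ∀ u ∈ V, ∀ v ∈ V, u * v = v * u) {a g : G} (haX : a ∉ X) (har : a ^ r = 1) (hg1 : g ≠ 1)
    {k : ℕ} (hgk : g ^ (q ^ k) = 1) (hag : a * g = g * a) : False := by
  have := Fact.mk hr
  have ha1 : a ≠ 1 := by rintro rfl; exact haX (one_mem _)
  have hz : IsPGroup r (zpowers a) := IsPGroup.of_card (n := 1) (by
    rw [Nat.card_zpowers, orderOf_eq_prime har ha1, pow_one])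
  have hV : IsPGroup r V := by
    intro v
    exact ⟨1, Subtype.ext (by simpa using hVr v v.2)⟩
  have h1 := H65.PBasic.inf_centralizer_ne_bot (zpowers a) V hz hV (by rw [normalizer_eq_top]; exact le_top) hVb
  obtain ⟨v, hv, hv1⟩ := (bot_or_exists_ne_one _).resolve_left h1
  have hva : v * a = a * v := ((mem_centralizer_iff.1 hv.2) a (mem_zpowers a)).symm
  have h2 := hc.pc hr ha1 har hg1 (coprime_of_pgroup hq hr hqr hgk) hag hVr hVc
    (fun u hu => hVn.conj_mem u hu g) hv.1 hva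
  have h3 : c a = X := by
    rw [← hc.eq a v ha1 hv1 h2]
    exact hX.2 v (hVX hv.1) hv1
  exact haX (h3 ▸ hc.mem a)

theorem Prt.R_gen (hc : Prt c) {X : Subgroup G} (hX : IsComp c X) [hXn : X.Normal] {s q r : ℕ} (hs : s.Prime)
    (hq : q.Prime) (hr : r.Prime) (hsq : s ≠ q) (hrq : r ≠ q) {V : Subgroup G} [hVn : V.Normal] (hVX : V ≤ X)
    (hVb : V ≠ ⊥) (hVs : ∀ v ∈ V, v ^ s = 1)
    (hVc : ∀ u ∈ V, ∀ v ∈ V, u * v = v * u) {Q : Subgroup G} (hQ : IsPGroup q Q) (hQX : ¬ Q ≤ X) {a : G}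
    (haQ : a ∈ normalizer (Q : Set G)) (har : a ^ r = 1) (haX : a ∉ X)
    (hcomm : ∀ h ∈ Q, h ∉ X → ∀ i, 0 < i → i < r → a ^ i * h ≠ h * a ^ i) : False := by
  have := Fact.mk hr
  have := Fact.mk hq
  have ha1 : a ≠ 1 := by rintro rfl; exact haX (one_mem _)
  have hao : orderOf a = r := orderOf_eq_prime har ha1
  have hQp : ∀ h ∈ Q, ∃ k, h ^ (q ^ k) = 1 := by
    intro h hh
    obtain ⟨k, hk⟩ := hQ ⟨h, hh⟩
    exact ⟨k, by simpa using congrArg Subtype.val hk⟩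
  have key := norm_lemma hr V Q hVc (by rw [normalizer_eq_top]; exact le_top) a
    (by rw [normalizer_eq_top]; trivial) haQ har ?_ ?_ ?_
  · apply hVb
    rw [eq_bot_iff]
    intro v hv
    rw [mem_bot]
    obtain ⟨n, hn⟩ := (IsPGroup.iff_card.1 hQ)
    have h1 := key v hv
    rw [hn] at h1
    have h2 := mem_of_coprime (⊥ : Subgroup G) (a := s) (b := q ^ n) (z := v)
      (((Nat.coprime_primes hs hq).2 hsq).pow_right n) (by rw [hVs v hv]; exact one_mem _)
      (by rw [h1]; exact one_mem _)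
    exact mem_bot.1 h2
  · intro h hh i hi hir hcm
    by_contra hh1
    have hai1 : a ^ i ≠ 1 := fun h' => by
      have := Nat.le_of_dvd hi (orderOf_dvd_of_pow_eq_one h')
      omega
    have haiX : a ^ i ∉ X := hX.pow_not_mem hc haX hai1
    by_cases hhX : h ∈ X
    · obtain ⟨ℓ, hℓ, h1, h2⟩ := hc.comp_prime hX hhX hh1 haiX hcm.symm
      obtain ⟨k, hk⟩ := hQp h hh
      have h3 : orderOf (a ^ i) = r := orderOf_eq_prime (by rw [← pow_mul, mul_comm, pow_mul, har, one_pow]) hai1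
      apply ne_of_coprime hh1 (coprime_of_pgroup hq hr hrq.symm hk)
      rw [h1, ← h2, h3]
    · exact hcomm h hh hhX i hi hir hcm
  · intro v hv
    have h1 : v * a ∉ X := fun h => haX ((Subgroup.mul_mem_cancel_left X (hVX hv)).1 h)
    apply hX.pow_eq_one hc h1
    rw [← QuotientGroup.eq_one_iff, QuotientGroup.mk_pow, QuotientGroup.mk_mul,
      (QuotientGroup.eq_one_iff v).2 (hVX hv), one_mul, ← QuotientGroup.mk_pow, har, QuotientGroup.mk_one]
  · intro v hv hfix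
    by_contra hv1
    obtain ⟨z, hz, hzX⟩ := SetLike.not_le_iff_exists.1 hQX
    obtain ⟨ℓ, hℓ, h1, h2⟩ := hc.comp_prime hX (hVX hv) hv1 hzX (hfix z hz).symm
    obtain ⟨k, hk⟩ := hQp z hz
    have hz1 : z ≠ 1 := by rintro rfl; exact hzX (one_mem _)
    have h3 : orderOf v = s := by
      have := Fact.mk hs
      exact orderOf_eq_prime (hVs v hv) hv1
    apply ne_of_coprime hz1 (coprime_of_pgroup hq hs hsq.symm hk)
    rw [h2, ← h1, h3]

/-- no `r`-element of `G / X` normalises a nontrivial `q`-subgroup -/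
theorem Prt.R_main (hc : Prt c) {X : Subgroup G} (hX : IsComp c X) [hXn : X.Normal] {r q : ℕ}
    (hr : r.Prime) (hq : q.Prime) (hqr : q ≠ r) {V : Subgroup G} [hVn : V.Normal] (hVX : V ≤ X)
    (hVb : V ≠ ⊥) (hVr : ∀ v ∈ V, v ^ r = 1) (hVc : ∀ u ∈ V, ∀ v ∈ V, u * v = v * u)
    {Y : Subgroup G} (hXY : X ≤ Y) (hYX : ∀ y ∈ Y, ∃ k, y ^ (q ^ k) ∈ X) {y : G} (hyY : y ∈ Y) (hyX : y ∉ X)
    {a : G} (haY : a ∈ normalizer (Y : Set G)) (haX : a ∉ X) (har : a ^ r ∈ X) : False := by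
  obtain ⟨Q, hQY, hQ, hQX, w, hw, hwY, hwr⟩ := ns_core hr hq hqr hXY hYX hyY hyX haY haX har
  have hwX : w ∉ X := fun h => hwY (hXY h)
  have hwr1 := hX.pow_eq_one hc hwX hwr
  refine hc.R_gen hX hr hq hr hqr.symm hqr.symm hVX hVb hVr hVc hQ hQX hw hwr1 hwX ?_
  intro h hh hhX i hi hir hcm
  have hw1 : w ≠ 1 := by rintro rfl; exact hwX (one_mem _)
  have := Fact.mk hr
  have hwo : orderOf w = r := orderOf_eq_prime hwr1 hw1
  have hwi1 : w ^ i ≠ 1 := fun h' => by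
    have := Nat.le_of_dvd hi (orderOf_dvd_of_pow_eq_one h')
    omega
  obtain ⟨k, hk⟩ := hQ ⟨h, hh⟩
  exact hc.R_pair hX hr hq hqr hVX hVb hVr hVc (hX.pow_not_mem hc hwX hwi1)
    (by rw [← pow_mul, mul_comm, pow_mul, hwr1, one_pow])
    (by rintro rfl; exact hhX (one_mem _)) (k := k) (by simpa using congrArg Subtype.val hk) hcm

end H73.Pt
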