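import Mathlib
import Cfsg.Agent.Lib.H73.Prt3
import Cfsg.Agent.Lib.H39.PNilp

/-!
# Partitions: normal components which are not `r`-groups (H73.Prt4)
-/

set_option autoImplicit false
open Subgroup
open scoped IsMulCommutative

universe u

namespace H73.Pt

variable {G : Type u} [Group G] [Finite G]

/-- `p`-elements normalise no nontrivial `q`-subgroups -/
def Iso (G : Type u) [Group G] (p : ℕ) : Prop :=
  ∀ q, q.Prime → q ≠ p → ∀ Q : Subgroup G, IsPGroup q Q → Q ≠ ⊥ → ∀ w ∈ normalizer (Q : Set G),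
      w ^ p = 1 → w = 1

omit [Finite G] in
/-- an isolated pair of commuting elements -/
theorem Iso.comm {p : ℕ} (h : Iso G p) {q : ℕ} (hq : q.Prime) (hqp : q ≠ p) {a g : G} (ha : a ^ p = 1)
    {k : ℕ} (hg : g ^ (q ^ k) = 1) (hag : a * g = g * a) : a = 1 ∨ g = 1 := by
  by_contra hcon
  push Not at hcon
  have := Fact.mk hq
  apply hcon.1
  refine h q hq hqp (zpowers g) ?_ ?_ a ?_ ha
  · obtain ⟨j, -, hj⟩ := (Nat.dvd_prime_pow hq).1 (orderOf_dvd_of_pow_eq_one hg)
    exact IsPGroup.of_card (n := j) (by rw [Nat.card_zpowers, hj])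
  · rw [ne_eq, zpowers_eq_bot]; exact hcon.2
  · rw [mem_normalizer_iff]
    intro x
    have hc : Commute a g := hag
    constructor
    · intro hx
      obtain ⟨n, rfl⟩ := mem_zpowers_iff.1 hx
      rw [(hc.zpow_right n).eq, mul_inv_cancel_right]; exact hx
    · intro hx
      obtain ⟨n, hn⟩ := mem_zpowers_iff.1 hx
      have : x = g ^ n := by
        have h1 : x = a⁻¹ * g ^ n * a := by rw [hn]; group
        rw [h1, mul_assoc, ← (hc.zpow_right n).eq, inv_mul_cancel_left]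
      rw [this]; exact zpow_mem (mem_zpowers g) n

theorem Iso.isPGroup_of_npc {p : ℕ} (hp : p.Prime) (h : Iso G p) (hpG : p ∣ Nat.card G)
    (hn : Cfsg.HasNormalPComplement p G) : IsPGroup p G := by
  have := Fact.mk hp
  obtain ⟨N, hNn, hcop, k, hk⟩ := H39.PNilp.iff_exists.1 hn
  have hNb : N = ⊥ := by
    by_contra hNb
    have hc1 : Nat.card N ≠ 1 := fun h' => hNb (Subgroup.card_eq_one.1 h')
    obtain ⟨q, hq, hqN⟩ := Nat.exists_prime_and_dvd hc1
    have := Fact.mk hq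
    have hqp : q ≠ p := by
      rintro rfl
      exact (Nat.Prime.coprime_iff_not_dvd hp).1 hcop.symm hqN
    obtain ⟨Q, hQN, hQ, hQi⟩ := H51.SylowAmb.exists_sylow (p := q) N
    have hQb : Q ≠ ⊥ := by
      rintro rfl
      rw [relIndex_bot_left] at hQi
      exact hQi hqN
    obtain ⟨g, hg⟩ := exists_prime_orderOf_dvd_card' (G := G) p hpG
    have hgN : g ∉ N := by
      intro hg'
      have h1 : orderOf g ∣ Nat.card N := by
        rw [← Subgroup.orderOf_mk g hg']; exact orderOf_dvd_natCard _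
      rw [hg] at h1
      exact (Nat.Prime.coprime_iff_not_dvd hp).1 hcop.symm h1
    obtain ⟨y, hyN, hyg⟩ := H51.SylowAmb.frattini hQN hQ hQi (x := g) (by rw [normalizer_eq_top]; trivial)
    have hsN : y * g ∉ N := fun h' => hgN ((Subgroup.mul_mem_cancel_left N hyN).1 h')
    have hspN : (y * g) ^ p ∈ N := by
      rw [← QuotientGroup.eq_one_iff, QuotientGroup.mk_pow, QuotientGroup.mk_mul,
        (QuotientGroup.eq_one_iff y).2 hyN, one_mul, ← QuotientGroup.mk_pow, ← hg, pow_orderOf_eq_one,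
        QuotientGroup.mk_one]
    have hw := h q hq hqp Q hQ hQb ((y * g) ^ (Nat.card N)) (pow_mem hyg _) (by
      rw [← pow_mul, mul_comm, pow_mul]
      have h2 : orderOf ((y * g) ^ p) ∣ Nat.card N := by
        rw [← Subgroup.orderOf_mk _ hspN]; exact orderOf_dvd_natCard _
      exact orderOf_dvd_iff_pow_eq_one.1 h2)
    apply hsN
    exact mem_of_coprime N hcop (by rw [hw]; exact one_mem _) hspN
  rw [hNb, Subgroup.index_bot] at hk
  exact IsPGroup.of_card hk

variable {c : G → Subgroup G}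

theorem Prt.iso_quot (hc : Prt c) {X : Subgroup G} (hX : IsComp c X) [hXn : X.Normal] {r : ℕ}
    (hr : r.Prime) {V : Subgroup G} [hVn : V.Normal] (hVX : V ≤ X)
    (hVb : V ≠ ⊥) (hVr : ∀ v ∈ V, v ^ r = 1) (hVc : ∀ u ∈ V, ∀ v ∈ V, u * v = v * u) : Iso (G ⧸ X) r := by
  intro q hq hqr Q hQ hQb w hw hwr
  by_contra hw1
  obtain ⟨a, rfl⟩ := QuotientGroup.mk_surjective w
  obtain ⟨z, hz, hz1⟩ := (bot_or_exists_ne_one Q).resolve_left hQb
  obtain ⟨y, rfl⟩ := QuotientGroup.mk_surjective z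
  refine hc.R_main hX hr hq hqr hVX hVb hVr hVc (Y := Q.comap (QuotientGroup.mk' X)) (y := y) (a := a)
    ?_ ?_ ?_ ?_ ?_ ?_ ?_
  · intro x hx
    rw [mem_comap]
    have : (QuotientGroup.mk' X) x = 1 := by
      rw [QuotientGroup.mk'_apply, QuotientGroup.eq_one_iff]; exact hx
    rw [this]; exact one_mem _
  · intro x hx
    rw [mem_comap, QuotientGroup.mk'_apply] at hx
    obtain ⟨k, hk⟩ := hQ ⟨_, hx⟩
    refine ⟨k, ?_⟩
    rw [← QuotientGroup.eq_one_iff, QuotientGroup.mk_pow]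
    exact congrArg Subtype.val hk
  · exact hz
  · exact fun h => hz1 ((QuotientGroup.eq_one_iff y).2 h)
  · rw [mem_normalizer_iff]
    intro h
    rw [mem_comap, mem_comap, map_mul, map_mul, map_inv]
    exact mem_normalizer_iff.1 hw _
  · exact fun h => hw1 ((QuotientGroup.eq_one_iff a).2 h)
  · rw [← QuotientGroup.eq_one_iff, QuotientGroup.mk_pow]; exact hwr

theorem Prt.sylow_pow (hc : Prt c) {X : Subgroup G} (hX : IsComp c X) [hXn : X.Normal] {r : ℕ}
    [hr : Fact r.Prime] (hrX : r ∣ Nat.card X) (P : Sylow r G) {y : G} (hyP : y ∈ (P : Subgroup G)) (hyX : y ∉ X) :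
    y ^ r = 1 ∧ ∃ x ∈ X, x ≠ 1 ∧ y * x = x * y := by
  -- `P ⊓ X ≠ ⊥`
  have hPX : (P : Subgroup G) ⊓ X ≠ ⊥ := by
    intro h
    obtain ⟨x, hx⟩ := exists_prime_orderOf_dvd_card' (G := X) r hrX
    have hxz : IsPGroup r (zpowers (x : G)) := IsPGroup.of_card (n := 1) (by
      rw [Nat.card_zpowers, Subgroup.orderOf_coe, hx, pow_one])
    obtain ⟨P', hP'⟩ := hxz.exists_le_sylow
    obtain ⟨g, hg⟩ := MulAction.exists_smul_eq G P' P
    have h1 : g * (x : G) * g⁻¹ ∈ (P : Subgroup G) := by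
      rw [← hg]
      exact ⟨x, hP' (mem_zpowers _), rfl⟩
    have h2 : g * (x : G) * g⁻¹ ∈ (P : Subgroup G) ⊓ X := ⟨h1, hXn.conj_mem _ x.2 g⟩
    rw [h, mem_bot] at h2
    have h3 : (x : G) = 1 := by
      have : (x : G) = g⁻¹ * (g * x * g⁻¹) * g := by group
      rw [this, h2]; group
    rw [← Subgroup.orderOf_coe, h3, orderOf_one] at hx
    exact hr.out.one_lt.ne hx
  have hPn : (P : Subgroup G) ≤ normalizer (((P : Subgroup G) ⊓ X : Subgroup G) : Set G) := by
    intro g hg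
    rw [mem_normalizer_iff]
    intro h
    constructor
    · exact fun hh => ⟨(P : Subgroup G).mul_mem ((P : Subgroup G).mul_mem hg hh.1) ((P : Subgroup G).inv_mem hg), hXn.conj_mem h hh.2 g⟩
    · intro hh
      have h1 := (P : Subgroup G).mul_mem ((P : Subgroup G).mul_mem ((P : Subgroup G).inv_mem hg) hh.1) hg
      have h2 := hXn.conj_mem _ hh.2 g⁻¹
      have h3 : g⁻¹ * (g * h * g⁻¹) * g = h := by group
      rw [inv_inv] at h2
      rw [h3] at h1 h2
      exact ⟨h1, h2⟩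
  have h1 := H65.PBasic.inf_centralizer_ne_bot (P : Subgroup G) ((P : Subgroup G) ⊓ X) P.2
    (P.2.to_le inf_le_left) hPn hPX
  obtain ⟨z, hz, hz1⟩ := (bot_or_exists_ne_one _).resolve_left h1
  have hyz : y * z = z * y := mem_centralizer_iff.1 hz.2 y hyP
  obtain ⟨ℓ, hℓ, h2, h3⟩ := hc.comp_prime hX hz.1.2 hz1 hyX hyz.symm
  have h4 : ℓ = r := by
    obtain ⟨k, hk⟩ := P.2 ⟨y, hyP⟩
    have hk' : y ^ (r ^ k) = 1 := by simpa using congrArg Subtype.val hk
    have h5 := orderOf_dvd_of_pow_eq_one hk'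
    rw [h3] at h5
    exact (Nat.prime_dvd_prime_iff_eq hℓ hr.out).1 (hℓ.dvd_of_dvd_pow h5)
  refine ⟨?_, z, hz.1.2, hz1, hyz⟩
  rw [← h4, ← h3, pow_orderOf_eq_one]

end H73.Pt
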