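import Mathlib
import Cfsg.Agent.Lib.H73.Prt4

/-!
# Partitions: structure of a group with a normal component (H73.Prt5)
-/

set_option autoImplicit false
open Subgroup
open scoped IsMulCommutative

universe u

namespace H73.Pt

variable {G : Type u} [Group G] [Finite G] {c : G → Subgroup G}

/-- the image of a Sylow subgroup modulo a component which is not an `r`-group has order `r` -/
theorem Prt.relIndex_eq (hc : Prt c) {X : Subgroup G} (hX : IsComp c X) [hXn : X.Normal]
    {r : ℕ} [hr : Fact r.Prime] (hXr : ¬ IsPGroup r X) (hrX : r ∣ Nat.card X) (hrG : r ∣ X.index)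
    (P : Sylow r G) : X.relIndex ((P : Subgroup G) ⊔ X) = r := by
  have hPX : ¬ (P : Subgroup G) ≤ X := fun h => P.not_dvd_index (hrG.trans (Subgroup.index_dvd_of_le h))
  set K := (P : Subgroup G) ⊔ X with hK
  have hXK : X ≤ K := le_sup_right
  have hKp : ¬ IsPGroup r K := fun h => hXr (h.to_le hXK)
  have hcl : Subgroup.closure {g : K | g ^ r ≠ 1} ≤ X.subgroupOf K := by
    rw [closure_le]
    intro g hg
    by_contra hgX
    apply hg
    have hgX' : (g : G) ∉ X := fun h => hgX (mem_subgroupOf.2 h)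
    obtain ⟨u, hu, x, hx, hux⟩ := mem_sup_of_normal_right.1 g.2
    have huX : u ∉ X := fun h => hgX' (by rw [← hux]; exact mul_mem h hx)
    have h1 := (hc.sylow_pow hX hrX P hu huX).1
    apply Subtype.ext
    have h2 : (g : G) ^ r ∈ X := by
      rw [← QuotientGroup.eq_one_iff, QuotientGroup.mk_pow, ← hux, QuotientGroup.mk_mul,
        (QuotientGroup.eq_one_iff x).2 hx, mul_one, ← QuotientGroup.mk_pow, h1, QuotientGroup.mk_one]
    simpa using hX.pow_eq_one hc hgX' h2
  have hXt : X.subgroupOf K ≠ ⊤ := by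
    intro h
    rw [subgroupOf_eq_top] at h
    exact hPX (le_sup_left.trans h)
  have h1 := Cfsg.Agent.S4249.result r hr.out hKp (fun h => hXt (top_le_iff.1 (h ▸ hcl)))
  have h2 := Subgroup.index_dvd_of_le hcl
  rw [h1.2] at h2
  rcases (Nat.dvd_prime hr.out).1 h2 with h3 | h3
  · exact absurd (Subgroup.index_eq_one.1 h3) hXt
  · exact h3

theorem Prt.index_prime (hc : Prt c) {X : Subgroup G} (hX : IsComp c X) [hXn : X.Normal] (hXt : X ≠ ⊤)
    {r : ℕ} (hr : r.Prime) (hXr : ¬ IsPGroup r X) (hrX : r ∣ Nat.card X) (hrG : r ∣ X.index) :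
    X.index = r := by
  have := Fact.mk hr
  have hnil := hc.nilpotent_of_normal hX hXt
  obtain ⟨Vr, hVn, hVX, hVb, hVr, hVc⟩ := exists_V hnil hr hrX
  have hiso : Iso (G ⧸ X) r := hc.iso_quot hX hr hVX hVb hVr hVc
  obtain ⟨P, -⟩ := (IsPGroup.of_bot (p := r) (G := G)).exists_le_sylow
  have hrel := hc.relIndex_eq hX hXr hrX hrG P
  set PB : Sylow r (G ⧸ X) := P.mapSurjective (QuotientGroup.mk'_surjective X) with hPB
  have hcard : Nat.card PB = r := by
    have h1 := Subgroup.relIndex_ker (QuotientGroup.mk' X) (K := (P : Subgroup G) ⊔ X)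
    rw [QuotientGroup.ker_mk', hrel, Subgroup.map_sup, QuotientGroup.map_mk'_self, sup_bot_eq] at h1
    exact h1.symm
  have hrGX : r ∣ Nat.card (G ⧸ X) := hrG
  by_cases hNC : normalizer ((PB : Subgroup (G ⧸ X)) : Set (G ⧸ X)) ≤
      centralizer ((PB : Subgroup (G ⧸ X)) : Set (G ⧸ X))
  · have h1 := H72.TpCount.hasNormalPComplement_of_normalizer_le PB hNC
    have h2 := hiso.isPGroup_of_npc hr hrGX h1
    have h3 : (PB : Subgroup (G ⧸ X)) = ⊤ := by
      have := PB.3 (Q := ⊤) (h2.to_subgroup ⊤) le_top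
      exact this.symm
    have h4 : Nat.card (G ⧸ X) = r := by
      rw [← hcard]
      have : Nat.card (PB : Subgroup (G ⧸ X)) = Nat.card (G ⧸ X) := by
        rw [h3]; exact Subgroup.card_top
      exact this.symm
    exact h4
  · exfalso
    obtain ⟨z, hzN, hzC⟩ := SetLike.not_le_iff_exists.1 hNC
    -- a prime `q ≠ r` dividing the order of `z`
    have hzq : ∃ q, q.Prime ∧ q ≠ r ∧ q ∣ orderOf z := by
      by_contra hcon
      push Not at hcon
      apply hzC
      have h1 : IsPGroup r (zpowers z) := by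
        obtain ⟨k, hk⟩ : ∃ k, orderOf z = r ^ k := by
          refine ⟨_, Nat.eq_prime_pow_of_unique_prime_dvd (orderOf_pos z).ne' ?_⟩
          intro d hd hdz
          by_contra hne
          exact hcon d hd hne hdz
        exact IsPGroup.of_card (n := k) (by rw [Nat.card_zpowers, hk])
      have h2 : z ∈ (PB : Subgroup (G ⧸ X)) := by
        have h3 : IsPGroup r ((zpowers z ⊔ (PB : Subgroup (G ⧸ X)) : Subgroup (G ⧸ X))) :=
          h1.to_sup_of_normal_right' PB.2 (by rw [zpowers_le]; exact hzN)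
        rw [← PB.3 h3 le_sup_right]
        exact mem_sup_left (mem_zpowers z)
      rw [mem_centralizer_iff]
      intro h hh
      have h5 : IsCyclic PB := isCyclic_of_prime_card hcard
      obtain ⟨⟨g0, hg0⟩, hgen⟩ := h5.exists_generator
      obtain ⟨i, hi⟩ := mem_zpowers_iff.1 (hgen ⟨h, hh⟩)
      obtain ⟨j, hj⟩ := mem_zpowers_iff.1 (hgen ⟨z, h2⟩)
      have hi' : g0 ^ i = h := by simpa using congrArg Subtype.val hi
      have hj' : g0 ^ j = z := by simpa using congrArg Subtype.val hj
      rw [← hi', ← hj', ← zpow_add, ← zpow_add, add_comm]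
    obtain ⟨q, hq, hqr, hqz⟩ := hzq
    set z1 := z ^ (orderOf z / q) with hz1
    have hz1o : orderOf z1 = q := by
      rw [hz1, orderOf_pow_of_dvd]
      · exact Nat.div_div_self hqz (orderOf_pos z).ne'
      · exact (Nat.div_pos (Nat.le_of_dvd (orderOf_pos z) hqz) hq.pos).ne'
      · exact Nat.div_dvd_of_dvd hqz
    have hz1N : z1 ∈ normalizer ((PB : Subgroup (G ⧸ X)) : Set (G ⧸ X)) := Subgroup.pow_mem _ hzN _
    have hz11 : z1 ≠ 1 := by
      intro h; rw [h, orderOf_one] at hz1o; exact hq.one_lt.ne hz1o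
    obtain ⟨g, hg⟩ := QuotientGroup.mk_surjective z1
    -- element of `PB`
    obtain ⟨y0, hy0, hy01⟩ := (bot_or_exists_ne_one (PB : Subgroup (G ⧸ X))).resolve_left (by
      intro h
      have : Nat.card (PB : Subgroup (G ⧸ X)) = 1 := by rw [h]; exact Subgroup.card_bot
      rw [hcard] at this
      exact hr.one_lt.ne' this)
    obtain ⟨y, rfl⟩ := QuotientGroup.mk_surjective y0
    have hL : ∀ x ∈ (PB : Subgroup (G ⧸ X)).comap (QuotientGroup.mk' X), x ^ r ∈ X := by
      intro x hx
      rw [mem_comap, QuotientGroup.mk'_apply] at hx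
      rw [← QuotientGroup.eq_one_iff, QuotientGroup.mk_pow]
      have h1 : orderOf (x : G ⧸ X) ∣ r := by
        rw [← hcard, ← Subgroup.orderOf_mk _ hx]; exact orderOf_dvd_natCard _
      exact orderOf_dvd_iff_pow_eq_one.1 h1
    obtain ⟨Q, hQL, hQ, hQX, w, hw, hwL, hwq⟩ := ns_core (K := X) (x := y) (g := g)
      (L := (PB : Subgroup (G ⧸ X)).comap (QuotientGroup.mk' X)) hq hr hqr.symm
      (by
        intro x hx
        rw [mem_comap]
        have : (QuotientGroup.mk' X) x = 1 := by
          rw [QuotientGroup.mk'_apply, QuotientGroup.eq_one_iff]; exact hx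
        rw [this]; exact one_mem _)
      (fun x hx => ⟨1, by rw [pow_one]; exact hL x hx⟩)
      hy0 (fun h => hy01 ((QuotientGroup.eq_one_iff y).2 h))
      (by
        rw [mem_normalizer_iff]
        intro h
        rw [mem_comap, mem_comap, map_mul, map_mul, map_inv, QuotientGroup.mk'_apply, QuotientGroup.mk'_apply, hg]
        exact mem_normalizer_iff.1 hz1N _)
      (by
        intro h
        rw [← QuotientGroup.eq_one_iff, hg] at h
        exact hz11 h)
      (by rw [← QuotientGroup.eq_one_iff, QuotientGroup.mk_pow, hg, ← hz1o, pow_orderOf_eq_one])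
    have hwX : w ∉ X := fun h => hwL (by
      rw [mem_comap]
      have : (QuotientGroup.mk' X) w = 1 := by
        rw [QuotientGroup.mk'_apply, QuotientGroup.eq_one_iff]; exact h
      rw [this]; exact one_mem _)
    have hwq1 := hX.pow_eq_one hc hwX hwq
    -- a prime `s ≠ r` dividing `|X|`
    obtain ⟨s, hs, hsr, hsX⟩ : ∃ s, s.Prime ∧ s ≠ r ∧ s ∣ Nat.card X := by
      by_contra hcon
      push Not at hcon
      apply hXr
      refine IsPGroup.of_card (n := _) (Nat.eq_prime_pow_of_unique_prime_dvd Nat.card_pos.ne' ?_)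
      intro d hd hdz
      by_contra hne
      exact hcon d hd hne hdz
    obtain ⟨Vs, hVsn, hVsX, hVsb, hVss, hVsc⟩ := exists_V hnil hs hsX
    refine hc.R_gen hX hs hr hq hsr hqr hVsX hVsb hVss hVsc hQ hQX hw hwq1 hwX ?_
    intro h hh hhX i hi hiq hcm
    have hwi1 : w ^ i ≠ 1 := by
      have := Fact.mk hq
      have hw1 : w ≠ 1 := by rintro rfl; exact hwX (one_mem _)
      have hwo : orderOf w = q := orderOf_eq_prime hwq1 hw1
      intro h'
      have := Nat.le_of_dvd hi (orderOf_dvd_of_pow_eq_one h')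
      omega
    exact hc.R_pair hX hr hq hqr hVX hVb hVr hVc hhX (hX.pow_eq_one hc hhX (hL h (hQL hh))) hwi1 (k := 1)
      (by rw [pow_one, ← pow_mul, mul_comm, pow_mul, hwq1, one_pow]) hcm.symm

end H73.Pt
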