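import Mathlib
import Cfsg.Agent.Lib.H73.Prt5
import Cfsg.Agent.Lib.H69.FrobData

/-!
# Partitions: groups with a normal component (H73.Prt6)
-/

set_option autoImplicit false
open Subgroup
open scoped IsMulCommutative

universe u

namespace H73.Pt

/-- solvability of groups of odd order -/
def FT : Prop := ∀ (H : Type u) [Group H] [Finite H], Odd (Nat.card H) → Group.IsSolvable H

section

variable {G : Type u} [Group G] [Finite G] {c : G → Subgroup G}

omit [Finite G] in
theorem odd_of_pgroup {r : ℕ} (hr : r.Prime) (hr2 : r ≠ 2) {x : G} {k : ℕ} (hx : x ^ (r ^ k) = 1) :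
    Odd (orderOf x) := by
  rw [← Nat.not_even_iff_odd, even_iff_two_dvd]
  intro h
  have h1 := Nat.prime_two.dvd_of_dvd_pow (h.trans (orderOf_dvd_of_pow_eq_one hx))
  exact hr2 ((Nat.prime_dvd_prime_iff_eq Nat.prime_two hr).1 h1).symm

omit [Finite G] in
theorem conj_odd {t s : G} (ht : t * t = 1) (hs : s * s = 1) (ho : Odd (orderOf (t * s))) :
    ∃ b ∈ zpowers (t * s), b⁻¹ * t * b = s := by
  obtain ⟨m, hm⟩ := ho
  set a := t * s with ha
  have hti : t⁻¹ = t := inv_eq_of_mul_eq_one_right ht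
  have hsi : s⁻¹ = s := inv_eq_of_mul_eq_one_right hs
  refine ⟨a ^ (m + 1), Subgroup.pow_mem _ (mem_zpowers a) _, ?_⟩
  have h1 : t * a⁻¹ * t⁻¹ = a := by
    rw [ha, mul_inv_rev, hti, hsi, ← mul_assoc, mul_assoc _ t t, ht, mul_one]
  have h2 : t * (a ^ (m + 1))⁻¹ * t⁻¹ = a ^ (m + 1) := by
    rw [← inv_pow, ← conj_pow, h1]
  calc (a ^ (m + 1))⁻¹ * t * a ^ (m + 1) = t * (t * (a ^ (m + 1))⁻¹ * t⁻¹) * a ^ (m + 1) := by
        rw [hti, ← mul_assoc, ← mul_assoc, ht, one_mul, mul_assoc]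
    _ = t * (a ^ (m + 1) * a ^ (m + 1)) := by rw [h2, mul_assoc]
    _ = t * a := by
        rw [← pow_add, show m + 1 + (m + 1) = (2 * m + 1) + 1 by ring, pow_succ, ← hm, pow_orderOf_eq_one,
          one_mul]
    _ = s := by rw [ha, ← mul_assoc, ht, one_mul]

theorem Prt.sylow_of_pgroup (hFT : FT.{u}) (hc : Prt c) {X : Subgroup G} (hX : IsComp c X) [hXn : X.Normal]
    {r : ℕ} (hr : r.Prime) (hXr : IsPGroup r X) :
    ∃ A : Subgroup G, A.Normal ∧ IsPGroup r A ∧ X ≤ A ∧ ¬ r ∣ A.index := by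
  have := Fact.mk hr
  obtain ⟨Vr, hVn, hVX, hVb, hVr, hVc, -⟩ := exists_V_of_pgroup hr hXr hX.1
  have hiso : Iso (G ⧸ X) r := hc.iso_quot hX hr hVX hVb hVr hVc
  by_cases hcase : r = 2 ∨ Group.IsSolvable (G ⧸ X)
  · obtain ⟨K, hKn, hKr, hKi⟩ := normal_sylow hr hiso hcase
    refine ⟨K.comap (QuotientGroup.mk' X), hKn.comap _, ?_, ?_, ?_⟩
    · exact hKr.comap_of_ker_isPGroup _ (by rwa [QuotientGroup.ker_mk'])
    · intro x hx
      rw [mem_comap]
      have : (QuotientGroup.mk' X) x = 1 := by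
        rw [QuotientGroup.mk'_apply, QuotientGroup.eq_one_iff]; exact hx
      rw [this]; exact one_mem _
    · rwa [Subgroup.index_comap_of_surjective _ (QuotientGroup.mk'_surjective X)]
  · push Not at hcase
    obtain ⟨hr2, hns⟩ := hcase
    have heven : 2 ∣ Nat.card (G ⧸ X) := by
      rw [← even_iff_two_dvd, ← Nat.not_odd_iff_even]
      exact fun h => hns (hFT _ h)
    have : Fact (Nat.Prime 2) := ⟨Nat.prime_two⟩
    obtain ⟨t0, ht0⟩ := exists_prime_orderOf_dvd_card' (G := G ⧸ X) 2 heven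
    obtain ⟨t, rfl⟩ := QuotientGroup.mk_surjective t0
    have htX : t ∉ X := by
      intro h
      rw [(QuotientGroup.eq_one_iff t).2 h, orderOf_one] at ht0
      exact absurd ht0 (by norm_num)
    have ht2 : t ^ 2 = 1 := by
      apply hX.pow_eq_one hc htX
      rw [← QuotientGroup.eq_one_iff, QuotientGroup.mk_pow, ← ht0, pow_orderOf_eq_one]
    have htt : t * t = 1 := by rw [← pow_two]; exact ht2
    have hXp : ∀ x ∈ X, ∃ k, x ^ (r ^ k) = 1 := by
      intro x hx
      obtain ⟨k, hk⟩ := hXr ⟨x, hx⟩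
      exact ⟨k, by simpa using congrArg Subtype.val hk⟩
    have ht1 : t ≠ 1 := by rintro rfl; exact htX (one_mem _)
    have hto : orderOf t = 2 := orderOf_eq_prime ht2 ht1
    have hfpf : X ⊓ centralizer {t} = ⊥ := by
      rw [eq_bot_iff]
      intro x hx
      rw [mem_bot]
      by_contra hx1
      obtain ⟨ℓ, hℓ, h1, h2⟩ := hc.comp_prime hX hx.1 hx1 htX (mem_centralizer_singleton_iff.1 hx.2)
      obtain ⟨k, hk⟩ := hXp x hx.1
      have := odd_of_pgroup hr hr2 hk
      rw [h1, ← h2, hto] at this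
      exact absurd this (by decide)
    have hinv : ∀ s : G, s * s = 1 → s ∉ X → ∀ x ∈ X, s * x * s⁻¹ = x⁻¹ := by
      intro s hs hsX
      have hs1 : s ≠ 1 := by rintro rfl; exact hsX (one_mem _)
      have hso : orderOf s = 2 := orderOf_eq_prime (by rw [pow_two]; exact hs) hs1
      apply H69.FrobData.inv_of_fpf hs
      rw [eq_bot_iff]
      intro x hx
      rw [mem_bot]
      by_contra hx1
      obtain ⟨ℓ, hℓ, h1, h2⟩ := hc.comp_prime hX hx.1 hx1 hsX (mem_centralizer_singleton_iff.1 hx.2)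
      obtain ⟨k, hk⟩ := hXp x hx.1
      have := odd_of_pgroup hr hr2 hk
      rw [h1, ← h2, hso] at this
      exact absurd this (by decide)
    have hXab : ∀ x ∈ X, ∀ y ∈ X, x * y = y * x := by
      intro x hx y hy
      have h1 := hinv t htt htX _ (mul_mem hx hy)
      have h2 : t * (x * y) * t⁻¹ = (t * x * t⁻¹) * (t * y * t⁻¹) := by group
      rw [h2, hinv t htt htX x hx, hinv t htt htX y hy, ← mul_inv_rev] at h1
      exact (inv_injective h1).symm
    have hXC : X ≤ centralizer (X : Set G) := by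
      intro x hx
      rw [mem_centralizer_iff]
      exact fun y hy => hXab y hy x hx
    have hCr : IsPGroup r (centralizer (X : Set G)) := by
      rintro ⟨g, hg⟩
      by_cases hgX : g ∈ X
      · obtain ⟨k, hk⟩ := hXp g hgX
        exact ⟨k, Subtype.ext (by simpa using hk)⟩
      · obtain ⟨x, hx, hx1⟩ := hX.exists_ne
        obtain ⟨ℓ, hℓ, h1, h2⟩ := hc.comp_prime hX hx hx1 hgX (mem_centralizer_iff.1 hg x hx)
        obtain ⟨k, hk⟩ := hXp x hx
        have h3 : ℓ = r := by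
          have h5 := orderOf_dvd_of_pow_eq_one hk
          rw [h1] at h5
          exact (Nat.prime_dvd_prime_iff_eq hℓ hr).1 (hℓ.dvd_of_dvd_pow h5)
        refine ⟨1, Subtype.ext ?_⟩
        show g ^ r ^ 1 = 1
        rw [pow_one, ← h3, ← h2, pow_orderOf_eq_one]
    refine ⟨centralizer (X : Set G), Subgroup.normal_centralizer, hCr, hXC, ?_⟩
    intro hdvd
    obtain ⟨g0, hg0⟩ := exists_prime_orderOf_dvd_card' (G := G ⧸ centralizer (X : Set G)) r hdvd
    obtain ⟨g, rfl⟩ := QuotientGroup.mk_surjective g0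
    -- `s = g t g⁻¹` also inverts `X`
    set s := g * t * g⁻¹ with hs
    have hss : s * s = 1 := by
      calc s * s = g * (t * t) * g⁻¹ := by rw [hs]; group
        _ = 1 := by rw [htt]; group
    have hsX : s ∉ X := by
      intro h
      have := hXn.conj_mem s h g⁻¹
      rw [hs] at this
      apply htX
      have h' : g⁻¹ * (g * t * g⁻¹) * g⁻¹⁻¹ = t := by group
      rwa [h'] at this
    have htsC : t * s ∈ centralizer (X : Set G) := by
      rw [mem_centralizer_iff]
      intro x hx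
      have h1 := hinv s hss hsX x hx
      have h2 := hinv t htt htX _ (inv_mem hx)
      rw [inv_inv] at h2
      have h3 : (t * s) * x * (t * s)⁻¹ = x := by
        calc (t * s) * x * (t * s)⁻¹ = t * (s * x * s⁻¹) * t⁻¹ := by group
          _ = x := by rw [h1, h2]
      rw [mul_inv_eq_iff_eq_mul] at h3
      exact h3.symm
    obtain ⟨k, hk⟩ := hCr ⟨_, htsC⟩
    have hodd : Odd (orderOf (t * s)) := odd_of_pgroup hr hr2 (k := k) (by simpa using congrArg Subtype.val hk)
    obtain ⟨b, hb, hbt⟩ := conj_odd htt hss hodd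
    have hbC : b ∈ centralizer (X : Set G) := by
      have : zpowers (t * s) ≤ centralizer (X : Set G) := by rw [zpowers_le]; exact htsC
      exact this hb
    set n := b * g with hn
    have hnt : n * t = t * n := by
      have h1 : b * s * b⁻¹ = t := by rw [← hbt]; group
      calc n * t = b * (g * t * g⁻¹) * b⁻¹ * (b * g) := by rw [hn]; group
        _ = t * n := by rw [← hs, h1]
    have hng : (n : G ⧸ centralizer (X : Set G)) = g := by
      rw [hn, QuotientGroup.mk_mul, (QuotientGroup.eq_one_iff b).2 hbC, one_mul]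
    have hnC : n ∉ centralizer (X : Set G) := by
      intro h
      rw [← hng, (QuotientGroup.eq_one_iff n).2 h, orderOf_one] at hg0
      exact hr.one_lt.ne hg0
    have hnr : n ^ r ∈ centralizer (X : Set G) := by
      rw [← QuotientGroup.eq_one_iff, QuotientGroup.mk_pow, hng, ← hg0, pow_orderOf_eq_one]
    obtain ⟨j, hj⟩ := hCr ⟨_, hnr⟩
    have hj' : n ^ (r ^ (j + 1)) = 1 := by
      rw [pow_succ', pow_mul]; simpa using congrArg Subtype.val hj
    have hn1 : n ≠ 1 := by rintro h; rw [h] at hnC; exact hnC (one_mem _)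
    obtain ⟨i, hi1, hi2⟩ := exists_pow_order hr hn1 hj'
    have hnX : n ∉ X := fun h => hnC (hXC h)
    exact hc.R_pair hX hr Nat.prime_two hr2.symm hVX hVb hVr hVc (hX.pow_not_mem hc hnX hi1) hi2 ht1 (k := 1)
      (by rw [pow_one]; exact ht2) ((show Commute n t from hnt).pow_left i).eq

theorem Prt.frob_of_sylow (hc : Prt c) {X : Subgroup G} (hX : IsComp c X) [hXn : X.Normal]
    {r : ℕ} (hr : r.Prime) (hXr : IsPGroup r X) {A : Subgroup G} [hAn : A.Normal] (hAr : IsPGroup r A)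
    (hXA : X ≤ A) (hAi : ¬ r ∣ A.index) {x : G} (hxA : x ∈ A) (hx1 : x ≠ 1) {g : G} (hgx : g * x = x * g) :
    g ∈ A := by
  have := Fact.mk hr
  obtain ⟨Vr, hVn, hVX, hVb, hVr, hVc, -⟩ := exists_V_of_pgroup hr hXr hX.1
  by_contra hgA
  have h1 : orderOf (g : G ⧸ A) ≠ 1 := by
    intro h
    exact hgA ((QuotientGroup.eq_one_iff g).1 (orderOf_eq_one_iff.1 h))
  obtain ⟨q, hq, hqo⟩ := Nat.exists_prime_and_dvd h1
  have hqr : q ≠ r := by
    rintro rfl
    exact hAi (hqo.trans (orderOf_dvd_natCard _))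
  obtain ⟨a, m, hm, hgm⟩ := Nat.exists_eq_pow_mul_and_not_dvd (orderOf_pos g).ne' q hq.ne_one
  have hg' : g ^ m ∉ A := by
    intro h
    apply hm
    refine hqo.trans (orderOf_dvd_of_pow_eq_one ?_)
    rw [← QuotientGroup.mk_pow, QuotientGroup.eq_one_iff]; exact h
  have hg'q : (g ^ m) ^ (q ^ a) = 1 := by rw [← pow_mul, mul_comm, ← hgm, pow_orderOf_eq_one]
  have hg'1 : g ^ m ≠ 1 := fun h => hg' (by rw [h]; exact one_mem _)
  obtain ⟨k, hk⟩ := hAr ⟨x, hxA⟩
  obtain ⟨j, hj1, hj2⟩ := exists_pow_order hr hx1 (k := k) (by simpa using congrArg Subtype.val hk)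
  have hcm : x ^ j * g ^ m = g ^ m * x ^ j := ((show Commute x g from hgx.symm).pow_pow j m).eq
  by_cases hxX : x ^ j ∈ X
  · obtain ⟨ℓ, hℓ, h1, h2⟩ := hc.comp_prime hX hxX hj1 (fun h => hg' (hXA h)) hcm
    apply ne_of_coprime hg'1 (coprime_of_pgroup hq hr hqr hg'q)
    rw [h2, ← h1, orderOf_eq_prime hj2 hj1]
  · exact hc.R_pair hX hr hq hqr hVX hVb hVr hVc hxX hj2 hg'1 hg'q hcm

/-- **Structure of a group with a normal component** -/
theorem Prt.normal_comp (hFT : FT.{u}) (hc : Prt c) {X : Subgroup G} (hX : IsComp c X) [hXn : X.Normal]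
    (hXt : X ≠ ⊤) :
    (∀ x ∈ X, x ≠ 1 → ∀ g : G, g * x = x * g → g ∈ X) ∨
    (X.index.Prime ∧ ∀ g, g ∉ X → g ^ X.index = 1) ∨
    (∃ r, r.Prime ∧ IsPGroup r X ∧ ∃ A : Subgroup G, A.Normal ∧ IsPGroup r A ∧ X < A ∧ ¬ r ∣ A.index ∧
      ∀ x ∈ A, x ≠ 1 → ∀ g : G, g * x = x * g → g ∈ A) := by
  by_cases hall : ∀ x ∈ X, x ≠ 1 → ∀ g : G, g * x = x * g → g ∈ X
  · exact Or.inl hall
  right
  push Not at hall
  obtain ⟨x, hx, hx1, g, hgx, hgX⟩ := hall
  obtain ⟨r, hr, h1, h2⟩ := hc.comp_prime hX hx hx1 hgX hgx.symm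
  have hrX : r ∣ Nat.card X := by
    rw [← h1, ← Subgroup.orderOf_mk x hx]; exact orderOf_dvd_natCard _
  have hrG : r ∣ X.index := by
    have h3 : orderOf (g : G ⧸ X) = r := by
      have := Fact.mk hr
      apply orderOf_eq_prime
      · rw [← QuotientGroup.mk_pow, ← h2, pow_orderOf_eq_one, QuotientGroup.mk_one]
      · exact fun h => hgX ((QuotientGroup.eq_one_iff g).1 h)
    rw [← h3]; exact orderOf_dvd_natCard _
  by_cases hXr : IsPGroup r X
  · right
    obtain ⟨A, hAn, hAr, hXA, hAi⟩ := hc.sylow_of_pgroup hFT hX hr hXr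
    refine ⟨r, hr, hXr, A, hAn, hAr, lt_of_le_of_ne hXA (by rintro rfl; exact hAi hrG), hAi, ?_⟩
    intro x hx hx1 g hg
    exact hc.frob_of_sylow hX hr hXr hAr hXA hAi hx hx1 hg
  · left
    have h3 := hc.index_prime hX hXt hr hXr hrX hrG
    refine ⟨by rw [h3]; exact hr, fun g hg => hX.pow_eq_one hc hg (Subgroup.pow_index_mem X g)⟩

end

end H73.Pt
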