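import Mathlib
import Cfsg.Agent.Lib.H73.Prt6

/-!
# Partitions: an abelian normal subgroup not contained in a component (H73.Prt7)
-/

set_option autoImplicit false
open Subgroup
open scoped IsMulCommutative

universe u

namespace H73.Pt

variable {G : Type u} [Group G] [Finite G] {c : G → Subgroup G}

/-- the situation -/
structure Big (c : G → Subgroup G) (p : ℕ) (V : Subgroup G) : Prop where
  hc : Prt c
  hp : p.Prime
  normal : V.Normal
  ne_bot : V ≠ ⊥
  pow : ∀ v ∈ V, v ^ p = 1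
  comm : ∀ u ∈ V, ∀ v ∈ V, u * v = v * u
  big : ∀ X, IsComp c X → ¬ V ≤ X

variable {p : ℕ} {V : Subgroup G}

omit [Finite G] in
theorem Big.le_norm (h : Big c p V) {Z : Subgroup G} (hZ : IsComp c Z) {v : G}
    (hv : v ∈ centralizer (V : Set G)) (hv1 : v ≠ 1) (hvZ : v ∈ Z) : V ≤ normalizer (Z : Set G) := by
  intro u hu
  exact h.hc.mem_normalizer_of_comm hZ hvZ hv1 (mem_centralizer_iff.1 hv u hu)

omit [Finite G] in
theorem Big.le_cent (h : Big c p V) : V ≤ centralizer (V : Set G) := by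
  intro v hv
  rw [mem_centralizer_iff]
  exact fun u hu => h.comm u hu v hv

/-- a component normalised by `V` contains no `p'`-elements -/
theorem Big.no_coprime (h : Big c p V) {Z : Subgroup G} (hZ : IsComp c Z) (hVZ : V ≤ normalizer (Z : Set G))
    {x : G} (hx : x ∈ Z) (hx1 : x ≠ 1) (hxp : (orderOf x).Coprime p) : False := by
  have := h.normal
  exact h.big Z hZ (h.hc.absorb hZ hx hx1 h.hp hxp h.pow h.comm (fun u hu => h.normal.conj_mem u hu x) hVZ)

/-- `p'`-elements act fixed point freely -/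
theorem Big.fpf (h : Big c p V) {x w : G} (hx1 : x ≠ 1) (hxp : (orderOf x).Coprime p)
    (hw : w ∈ centralizer (V : Set G)) (hw1 : w ≠ 1) (hwp : w ^ p = 1) (hxw : x * w = w * x) : False := by
  have := Fact.mk h.hp
  have hZ := h.hc.isComp hw1
  have hwo : orderOf w = p := orderOf_eq_prime hwp hw1
  have hxZ : x ∈ c w := by
    apply h.hc.mem_of_comm hw1 hx1 hxw.symm
    rw [hwo]; exact ne_of_coprime hx1 hxp
  exact h.no_coprime hZ (h.le_norm hZ hw hw1 (h.hc.mem w)) hxZ hx1 hxp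

theorem Big.exponent (h : Big c p V) {w : G} (hw : w ∈ centralizer (V : Set G)) : w ^ p = 1 := by
  have := Fact.mk h.hp
  by_cases hw1 : w = 1
  · rw [hw1, one_pow]
  obtain ⟨v, hv, hvw⟩ := SetLike.not_le_iff_exists.1 (h.big _ (h.hc.isComp hw1))
  have hv1 : v ≠ 1 := by rintro rfl; exact hvw (one_mem _)
  obtain ⟨ℓ, hℓ, h1, h2⟩ := h.hc.prime_of_comm hw1 hv1 hvw (mem_centralizer_iff.1 hw v hv).symm
  rw [orderOf_eq_prime (h.pow v hv) hv1] at h2
  rw [h2, ← h1, pow_orderOf_eq_one]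

omit [Finite G] in
theorem Big.pgroup (h : Big c p V) : IsPGroup p V := by
  intro v
  exact ⟨1, Subtype.ext (by simpa using h.pow v v.2)⟩

/-- no commuting pairs of a `p`-element and a `p'`-element -/
theorem Big.no_comm (h : Big c p V) {w y : G} (hw1 : w ≠ 1) (hwp : w ^ p = 1) (hy1 : y ≠ 1)
    (hyp : (orderOf y).Coprime p) (hwy : w * y = y * w) : False := by
  have := Fact.mk h.hp
  have := h.normal
  have hwo : orderOf w = p := orderOf_eq_prime hwp hw1
  have hz : IsPGroup p (zpowers w) := IsPGroup.of_card (n := 1) (by rw [Nat.card_zpowers, hwo, pow_one])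
  have h1 := H65.PBasic.inf_centralizer_ne_bot (zpowers w) V hz h.pgroup
    (by rw [normalizer_eq_top]; exact le_top) h.ne_bot
  obtain ⟨v, hv, hv1⟩ := (bot_or_exists_ne_one _).resolve_left h1
  have hvw : v * w = w * v := ((mem_centralizer_iff.1 hv.2) w (mem_zpowers w)).symm
  have h2 := h.hc.pc h.hp hw1 hwp hy1 hyp hwy h.pow h.comm (fun u hu => h.normal.conj_mem u hu y) hv.1 hvw
  have hZ := h.hc.isComp hw1
  have hyZ : y ∈ c w := by
    apply h.hc.mem_of_comm hw1 hy1 hwy
    rw [hwo]; exact ne_of_coprime hy1 hyp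
  exact h.no_coprime hZ (h.le_norm hZ (h.le_cent hv.1) hv1 h2) hyZ hy1 hyp

/-- the main computation -/
theorem Big.small (h : Big c p V) {q : ℕ} (hq : q.Prime) (hqp : q ≠ p) {Q : Subgroup G} (hQ : IsPGroup q Q)
    (hQb : Q ≠ ⊥) {w : G} (hwQ : w ∈ normalizer (Q : Set G)) (hwp : w ^ p = 1) (hw1 : w ≠ 1) :
    p = 2 ∧ Nat.card V = 4 := by
  classical
  have := Fact.mk h.hp
  have := Fact.mk hq
  have hVn := h.normal
  have hQp : ∀ g ∈ Q, ∃ k, g ^ (q ^ k) = 1 := by
    intro g hg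
    obtain ⟨k, hk⟩ := hQ ⟨g, hg⟩
    exact ⟨k, by simpa using congrArg Subtype.val hk⟩
  have hQc : ∀ g ∈ Q, (orderOf g).Coprime p := by
    intro g hg
    obtain ⟨k, hk⟩ := hQp g hg
    exact coprime_of_pgroup hq h.hp hqp hk
  obtain ⟨y, hyQ, hy1⟩ := (bot_or_exists_ne_one Q).resolve_left hQb
  have hwo : orderOf w = p := orderOf_eq_prime hwp hw1
  -- an element `v₀ w` not of order `p`
  obtain ⟨v0, hv0, hv0w⟩ : ∃ v0 ∈ V, (v0 * w) ^ p ≠ 1 := by
    by_contra hcon
    push Not at hcon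
    have key := norm_lemma h.hp V Q h.comm (by rw [normalizer_eq_top]; exact le_top) w
      (by rw [normalizer_eq_top]; trivial) hwQ hwp ?_ hcon ?_
    · apply h.ne_bot
      rw [eq_bot_iff]
      intro v hv
      rw [mem_bot]
      obtain ⟨n, hn⟩ := (IsPGroup.iff_card.1 hQ)
      have h1 := key v hv
      rw [hn] at h1
      exact mem_bot.1 (mem_of_coprime (⊥ : Subgroup G) (a := p) (b := q ^ n) (z := v)
        (((Nat.coprime_primes h.hp hq).2 hqp.symm).pow_right n) (by rw [h.pow v hv]; exact one_mem _)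
        (by rw [h1]; exact one_mem _))
    · intro g hg i hi hip hcm
      by_contra hg1
      have hwi1 : w ^ i ≠ 1 := fun h' => by
        have := Nat.le_of_dvd hi (orderOf_dvd_of_pow_eq_one h')
        omega
      exact h.no_comm hwi1 (by rw [← pow_mul, mul_comm, pow_mul, hwp, one_pow]) hg1 (hQc g hg) hcm
    · intro v hv hfix
      by_contra hv1
      exact h.fpf hy1 (hQc y hyQ) (h.le_cent hv) hv1 (h.pow v hv) (hfix y hyQ)
  set u := v0 * w with hu
  have hu1 : u ≠ 1 := by rintro h'; rw [h', one_pow] at hv0w; exact hv0w rfl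
  have hupV : u ^ p ∈ V := by
    rw [← QuotientGroup.eq_one_iff, QuotientGroup.mk_pow, hu, QuotientGroup.mk_mul,
      (QuotientGroup.eq_one_iff v0).2 hv0, one_mul, ← QuotientGroup.mk_pow, hwp, QuotientGroup.mk_one]
  have hZ := h.hc.isComp hu1
  set Z := c u with hZdef
  have huZ : u ∈ Z := h.hc.mem u
  have hVZ : V ≤ normalizer (Z : Set G) :=
    h.le_norm hZ (h.le_cent hupV) hv0w (Subgroup.pow_mem _ huZ p)
  -- (b)
  have hcommZ : ∀ v ∈ V, v * w * v⁻¹ * w⁻¹ ∈ Z := by
    intro v hv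
    have h1 : v * u * v⁻¹ ∈ Z := (mem_normalizer_iff.1 (hVZ hv) u).1 huZ
    have h2 : v * u * v⁻¹ * u⁻¹ ∈ Z := mul_mem h1 (inv_mem huZ)
    have h3 : w * v⁻¹ * w⁻¹ ∈ V := hVn.conj_mem _ (inv_mem hv) w
    have h4 : v * u * v⁻¹ * u⁻¹ = v * w * v⁻¹ * w⁻¹ := by
      rw [hu]
      calc v * (v0 * w) * v⁻¹ * (v0 * w)⁻¹ = v * (v0 * (w * v⁻¹ * w⁻¹)) * v0⁻¹ := by group
        _ = v * ((w * v⁻¹ * w⁻¹) * v0) * v0⁻¹ := by rw [h.comm v0 hv0 _ h3]
        _ = v * w * v⁻¹ * w⁻¹ := by group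
    rwa [h4] at h2
  have hcommV : ∀ v ∈ V, v * w * v⁻¹ * w⁻¹ ∈ V := by
    intro v hv
    have h3 : w * v⁻¹ * w⁻¹ ∈ V := hVn.conj_mem _ (inv_mem hv) w
    have : v * w * v⁻¹ * w⁻¹ = v * (w * v⁻¹ * w⁻¹) := by group
    rw [this]; exact mul_mem hv h3
  -- (c)
  have hcentZ : ∀ v ∈ V, v * w = w * v → v ∈ Z := by
    intro v hv hvw
    by_cases hv1 : v = 1
    · rw [hv1]; exact one_mem _
    apply h.hc.mem_of_comm hu1 hv1
    · rw [hu, mul_assoc, ← hvw, ← mul_assoc, h.comm v0 hv0 v hv, mul_assoc]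
    · intro h'
      rw [orderOf_eq_prime (h.pow v hv) hv1] at h'
      exact hv0w (by rw [← h', pow_orderOf_eq_one])
  -- (d) `y` does not normalise `Z`
  have hyZ : y ∉ normalizer (Z : Set G) := by
    intro hyN
    have h1 : y * u * y⁻¹ ∈ Z := (mem_normalizer_iff.1 hyN u).1 huZ
    have h2 : u⁻¹ * (y * u * y⁻¹) ∈ Z := mul_mem (inv_mem huZ) h1
    set e := u⁻¹ * (y * u * y⁻¹) with he
    set y1 := w⁻¹ * y * w * y⁻¹ with hy1d
    have hy1Q : y1 ∈ Q := by
      have : w⁻¹ * y * w⁻¹⁻¹ ∈ Q := (mem_normalizer_iff.1 (inv_mem hwQ) y).1 hyQ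
      rw [inv_inv] at this
      exact mul_mem this (inv_mem hyQ)
    have hy11 : y1 ≠ 1 := by
      intro h'
      apply h.no_comm hw1 hwp hy1 (hQc y hyQ)
      rw [hy1d, mul_inv_eq_one, mul_assoc, inv_mul_eq_iff_eq_mul] at h'
      exact h'.symm
    have hey : (e : G ⧸ V) = (y1 : G ⧸ V) := by
      rw [he, hy1d, hu]
      simp only [QuotientGroup.mk_mul, QuotientGroup.mk_inv, mul_inv_rev]
      rw [(QuotientGroup.eq_one_iff v0).2 hv0]
      group
    obtain ⟨a, m, hm, hem⟩ := Nat.exists_eq_pow_mul_and_not_dvd (orderOf_pos e).ne' p h.hp.ne_one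
    refine h.no_coprime hZ hVZ (x := e ^ (p ^ a)) (Subgroup.pow_mem _ h2 _) ?_ ?_
    · intro h'
      have h3 : (y1 : G ⧸ V) ^ (p ^ a) = 1 := by
        rw [← hey, ← QuotientGroup.mk_pow, h', QuotientGroup.mk_one]
      rw [← QuotientGroup.mk_pow, QuotientGroup.eq_one_iff] at h3
      have h4 : y1 ^ (p ^ a) = 1 := by
        by_contra hne
        exact h.fpf hne (hQc _ (Subgroup.pow_mem _ hy1Q _)) (h.le_cent h3) hne (h.pow _ h3) rfl
      exact hy11 (mem_bot.1 (mem_of_coprime (⊥ : Subgroup G) (a := p ^ a) (b := orderOf y1) (z := y1)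
        ((hQc y1 hy1Q).symm.pow_left a) (by rw [h4]; exact one_mem _)
        (by rw [pow_orderOf_eq_one]; exact one_mem _)))
    · apply Nat.Coprime.coprime_dvd_left (m := orderOf (e ^ (p ^ a))) (k := m)
      · apply orderOf_dvd_of_pow_eq_one
        rw [← pow_mul, ← hem, pow_orderOf_eq_one]
      · exact ((Nat.Prime.coprime_iff_not_dvd h.hp).2 hm).symm
  -- (e)
  have hinj : ∀ z ∈ Z, y * z * y⁻¹ ∈ Z → z = 1 := by
    intro z hz hyz
    by_contra hz1
    exact hyZ (h.hc.mem_normalizer hZ hz hz1 hyz)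
  -- counting
  set W := V ⊓ Z with hW
  let f : V →* V :=
    { toFun := fun v => ⟨(v : G) * w * (v : G)⁻¹ * w⁻¹, hcommV v v.2⟩
      map_one' := by apply Subtype.ext; simp
      map_mul' := by
        intro a b
        apply Subtype.ext
        show ((a * b : V) : G) * w * ((a * b : V) : G)⁻¹ * w⁻¹ =
          ((a : G) * w * (a : G)⁻¹ * w⁻¹) * ((b : G) * w * (b : G)⁻¹ * w⁻¹)
        have h3 : w * (a : G)⁻¹ * w⁻¹ ∈ V := hVn.conj_mem _ (inv_mem a.2) w
        have h4 : (b : G) * (w * (b : G)⁻¹ * w⁻¹) ∈ V :=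
          mul_mem b.2 (hVn.conj_mem _ (inv_mem b.2) w)
        have h5 := h.comm _ h4 _ h3
        calc ((a * b : V) : G) * w * ((a * b : V) : G)⁻¹ * w⁻¹
            = (a : G) * (((b : G) * (w * (b : G)⁻¹ * w⁻¹)) * (w * (a : G)⁻¹ * w⁻¹)) := by
              rw [Subgroup.coe_mul]; group
          _ = (a : G) * ((w * (a : G)⁻¹ * w⁻¹) * ((b : G) * (w * (b : G)⁻¹ * w⁻¹))) := by rw [h5]
          _ = _ := by group }
  have hf : ∀ v : V, ((f v : V) : G) = (v : G) * w * (v : G)⁻¹ * w⁻¹ := fun v => rfl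
  have hker : (f.ker).map V.subtype ≤ W := by
    rintro _ ⟨v, hv, rfl⟩
    refine ⟨v.2, hcentZ v v.2 ?_⟩
    have h1 : ((f v : V) : G) = 1 := by rw [MonoidHom.mem_ker.1 hv]; rfl
    rw [hf, mul_inv_eq_one, mul_inv_eq_iff_eq_mul] at h1
    exact h1
  have hran : (f.range).map V.subtype ≤ W := by
    rintro _ ⟨_, ⟨v, rfl⟩, rfl⟩
    exact ⟨(f v).2, hcommZ v v.2⟩
  have hcardker : Nat.card f.ker ≤ Nat.card W := by
    rw [Nat.card_congr (f.ker.equivMapOfInjective V.subtype V.subtype_injective).toEquiv]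
    exact Nat.card_le_card_of_injective _ (Subgroup.inclusion_injective hker)
  have hcardran : Nat.card f.range ≤ Nat.card W := by
    rw [Nat.card_congr (f.range.equivMapOfInjective V.subtype V.subtype_injective).toEquiv]
    exact Nat.card_le_card_of_injective _ (Subgroup.inclusion_injective hran)
  have hcardV : Nat.card f.ker * Nat.card f.range = Nat.card V := by
    have h1 := f.ker.card_mul_index
    rwa [Subgroup.index_ker] at h1
  have hsq : Nat.card W * Nat.card W ≤ Nat.card V := by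
    rw [← Nat.card_prod]
    apply Nat.card_le_card_of_injective (fun x : W × W => (⟨(x.1 : G) * (y * (x.2 : G) * y⁻¹),
      mul_mem x.1.2.1 (hVn.conj_mem _ x.2.2.1 y)⟩ : V))
    rintro ⟨a, b⟩ ⟨a', b'⟩ hab
    have h1 : (a : G) * (y * (b : G) * y⁻¹) = (a' : G) * (y * (b' : G) * y⁻¹) := congrArg Subtype.val hab
    have h2 : y * ((b : G) * (b' : G)⁻¹) * y⁻¹ = (a : G)⁻¹ * (a' : G) := by
      calc y * ((b : G) * (b' : G)⁻¹) * y⁻¹ = (a : G)⁻¹ * ((a : G) * (y * (b : G) * y⁻¹)) * (y * (b' : G) * y⁻¹)⁻¹ := by group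
        _ = (a : G)⁻¹ * (a' : G) := by rw [h1]; group
    have h3 : (b : G) * (b' : G)⁻¹ = 1 := by
      apply hinj _ (mul_mem b.2.2 (inv_mem b'.2.2))
      rw [h2]; exact mul_mem (inv_mem a.2.2) a'.2.2
    have h4 : (a : G)⁻¹ * (a' : G) = 1 := by rw [← h2, h3]; group
    have h5 : a = a' := Subtype.ext (inv_mul_eq_one.1 h4)
    have h6 : b = b' := Subtype.ext (mul_inv_eq_one.1 h3)
    rw [h5, h6]
  have hWpos : 0 < Nat.card W := Nat.card_pos
  have hVW : Nat.card V = Nat.card W * Nat.card W := by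
    refine le_antisymm ?_ hsq
    rw [← hcardV]; exact Nat.mul_le_mul hcardker hcardran
  have hkW : Nat.card f.ker = Nat.card W := by
    refine le_antisymm hcardker ?_
    by_contra hlt
    push Not at hlt
    have := Nat.mul_lt_mul_of_lt_of_le hlt hcardran hWpos
    rw [hcardV, hVW] at this
    exact lt_irrefl _ this
  have hkerW : (f.ker).map V.subtype = W := by
    apply Subgroup.eq_of_le_of_card_ge hker
    rw [← hkW, Nat.card_congr (f.ker.equivMapOfInjective V.subtype V.subtype_injective).toEquiv]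
  have hWcomm : ∀ z ∈ W, z * w = w * z := by
    intro z hz
    rw [← hkerW] at hz
    obtain ⟨v, hv, rfl⟩ := hz
    have h1 : ((f v : V) : G) = 1 := by rw [MonoidHom.mem_ker.1 hv]; rfl
    rw [hf, mul_inv_eq_one, mul_inv_eq_iff_eq_mul] at h1
    exact h1
  -- `p = 2`
  have hp2 : p = 2 := by
    by_contra hp2
    apply hv0w
    -- `w v₀ w⁻¹ = v₀ e`
    set e := v0⁻¹ * (w * v0 * w⁻¹) with he
    have heV : e ∈ V := mul_mem (inv_mem hv0) (hVn.conj_mem _ hv0 w)
    have heZ : e ∈ Z := by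
      have h1 := hcommZ v0⁻¹ (inv_mem hv0)
      have h2 : e = v0⁻¹ * w * v0⁻¹⁻¹ * w⁻¹ := by rw [he]; group
      rw [h2]; exact h1
    have hew := hWcomm e ⟨heV, heZ⟩
    have hwn : ∀ n : ℕ, w ^ n * v0 = v0 * e ^ n * w ^ n := by
      intro n
      induction n with
      | zero => simp
      | succ n ih =>
        have h1 : w * v0 = v0 * e * w := by rw [he]; group
        have h2 : w * e ^ n = e ^ n * w := ((show Commute e w from hew).pow_left n).eq.symm
        calc w ^ (n + 1) * v0 = w * (w ^ n * v0) := by rw [pow_succ', mul_assoc]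
          _ = (w * v0) * e ^ n * w ^ n := by rw [ih]; group
          _ = v0 * e * (w * e ^ n) * w ^ n := by rw [h1]; group
          _ = v0 * e ^ (n + 1) * w ^ (n + 1) := by rw [h2, pow_succ' e, pow_succ' w]; group
    have hve : Commute v0 e := h.comm v0 hv0 e heV
    have hcalc : ∀ n : ℕ, u ^ n = v0 ^ n * e ^ (n * (n - 1) / 2) * w ^ n := by
      intro n
      induction n with
      | zero => simp
      | succ n ih =>
        have h1 : (n + 1) * (n + 1 - 1) / 2 = n * (n - 1) / 2 + n := by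
          rw [Nat.add_sub_cancel]
          have h2 : (n + 1) * n = n * (n - 1) + n * 2 := by
            cases n with
            | zero => rfl
            | succ k => rw [Nat.add_sub_cancel]; ring
          rw [h2, Nat.add_mul_div_right _ _ (by norm_num)]
        calc u ^ (n + 1) = u ^ n * (v0 * w) := by rw [pow_succ, hu]
          _ = v0 ^ n * e ^ (n * (n - 1) / 2) * (w ^ n * v0) * w := by rw [ih]; group
          _ = v0 ^ n * (e ^ (n * (n - 1) / 2) * v0) * e ^ n * w ^ n * w := by rw [hwn]; group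
          _ = v0 ^ n * (v0 * e ^ (n * (n - 1) / 2)) * e ^ n * w ^ n * w := by rw [(hve.pow_right _).eq]
          _ = v0 ^ (n + 1) * e ^ ((n + 1) * (n + 1 - 1) / 2) * w ^ (n + 1) := by
            rw [h1, pow_add, pow_succ, pow_succ]; group
    rw [hcalc p, h.pow v0 hv0, hwp, one_mul, mul_one]
    have h3 : p ∣ p * (p - 1) / 2 := by
      have hodd : Odd p := h.hp.odd_of_ne_two hp2
      obtain ⟨k, hk⟩ := hodd
      rw [hk, Nat.add_sub_cancel]
      exact ⟨k, by rw [show (2 * k + 1) * (2 * k) = (2 * k + 1) * k * 2 by ring, Nat.mul_div_cancel _ (by norm_num)]⟩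
    obtain ⟨k, hk⟩ := h3
    rw [hk, pow_mul, h.pow e heV, one_pow]
  refine ⟨hp2, ?_⟩
  -- `|W| ≤ 2`
  have hWne : W ≠ ⊥ := by
    intro h'
    have : u ^ p ∈ W := ⟨hupV, Subgroup.pow_mem _ huZ p⟩
    rw [h', mem_bot] at this
    exact hv0w this
  obtain ⟨c0, hc0, hc01⟩ := (bot_or_exists_ne_one W).resolve_left hWne
  have hc0Z : c c0 = Z := hZ.2 c0 hc0.2 hc01
  have houtside : ∀ v ∈ V, v ∉ W → v * v0⁻¹ ∈ W := by
    intro v hv hvW
    refine ⟨V.mul_mem hv (V.inv_mem hv0), ?_⟩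
    have h1 : v * w ≠ 1 := by
      intro h'
      apply hvW
      have h2 : w = v⁻¹ := (inv_eq_of_mul_eq_one_right h').symm
      refine ⟨hv, hcentZ v hv (by rw [h2]; group)⟩
    have h2 : v * w ∈ Z := by
      rw [← hc0Z]
      apply h.hc.mem_of_comm hc01 h1
      · rw [← mul_assoc, h.comm c0 hc0.1 v hv, mul_assoc, hWcomm c0 hc0, mul_assoc]
      · rw [orderOf_eq_prime (h.pow c0 hc0.1) hc01]
        intro h'
        apply hvW
        refine ⟨hv, hcentZ v hv ?_⟩
        have h3 : (v * w) ^ 2 = 1 := by rw [← hp2, h', pow_orderOf_eq_one]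
        have h4 : w * w = 1 := by rw [← pow_two, ← hp2]; exact hwp
        have h5 : v * v = 1 := by rw [← pow_two, ← hp2]; exact h.pow v hv
        have hvi : v⁻¹ = v := inv_eq_of_mul_eq_one_right h5
        have hwi : w⁻¹ = w := inv_eq_of_mul_eq_one_right h4
        rw [pow_two] at h3
        have h6 := eq_inv_of_mul_eq_one_left h3
        rw [mul_inv_rev, hvi, hwi] at h6
        exact h6
    have h3 : v * v0⁻¹ = (v * w) * u⁻¹ := by rw [hu]; group
    rw [h3]; exact Z.mul_mem h2 (Z.inv_mem huZ)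
  have hcov : Nat.card V ≤ 2 * Nat.card W := by
    have h1 : Nat.card V ≤ Nat.card (W ⊕ W) := by
      apply Nat.card_le_card_of_injective (fun v : V =>
        if hv : (v : G) ∈ W then (Sum.inl ⟨v, hv⟩ : W ⊕ W) else Sum.inr ⟨(v : G) * v0⁻¹, houtside v v.2 hv⟩)
      intro a b hab
      by_cases ha : (a : G) ∈ W <;> by_cases hb : (b : G) ∈ W
      · simp only [ha, hb, dif_pos] at hab
        exact Subtype.ext (congrArg (fun t : W => (t : G)) (Sum.inl_injective hab))
      · simp [ha, hb] at hab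
      · simp [ha, hb] at hab
      · simp only [ha, hb, dif_neg, not_false_iff] at hab
        have := congrArg (fun t : W => (t : G)) (Sum.inr_injective hab)
        exact Subtype.ext (mul_right_cancel this)
    rw [Nat.card_sum] at h1
    omega
  have h2 : Nat.card W ≤ 2 := by
    rw [hVW] at hcov
    exact Nat.le_of_mul_le_mul_right hcov hWpos
  have h3 : 1 < Nat.card W := by
    rw [← Nat.card_unique (α := (⊥ : Subgroup G))]
    have := Subgroup.one_lt_card_iff_ne_bot W |>.2 hWne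
    simpa using this
  have h4 : Nat.card W = 2 := by omega
  rw [hVW, h4]

end H73.Pt
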