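import Mathlib
import Cfsg.Agent.Lib.H73.Prt7
import Cfsg.Agent.Lib.H98.DicksonIdent

/-!
# Partitions: an abelian normal subgroup not contained in a component, conclusion (H73.Prt8)
-/

set_option autoImplicit false
open Subgroup
open scoped IsMulCommutative

universe u

namespace H73.Pt

variable {G : Type u} [Group G] [Finite G] {c : G → Subgroup G} {p : ℕ} {V : Subgroup G}

/-- conjugation action on the nonidentity elements of a normal subgroup -/
def conjPerm (V : Subgroup G) [hV : V.Normal] : G →* Equiv.Perm {v : G // v ∈ V ∧ v ≠ 1} where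
  toFun g := Equiv.Perm.subtypePerm (MulAut.conj g).toEquiv (by
    intro x
    show g * x * g⁻¹ ∈ V ∧ g * x * g⁻¹ ≠ 1 ↔ x ∈ V ∧ x ≠ 1
    constructor
    · rintro ⟨h1, h2⟩
      have h3 := hV.conj_mem _ h1 g⁻¹
      have h4 : g⁻¹ * (g * x * g⁻¹) * g⁻¹⁻¹ = x := by group
      rw [h4] at h3
      exact ⟨h3, by rintro rfl; apply h2; group⟩
    · rintro ⟨h1, h2⟩
      exact ⟨hV.conj_mem _ h1 g, conj_ne_one h2⟩)
  map_one' := by ext x; simp
  map_mul' g h := by
    ext x
    show g * h * (x : G) * (g * h)⁻¹ = g * (h * (x : G) * h⁻¹) * g⁻¹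
    group

theorem Big.s4 (h : Big c p V) {q : ℕ} (hq : q.Prime) (hqp : q ≠ p) {Q : Subgroup G} (hQ : IsPGroup q Q)
    (hQb : Q ≠ ⊥) {w : G} (hwQ : w ∈ normalizer (Q : Set G)) (hwp : w ^ p = 1) (hw1 : w ≠ 1) :
    Nonempty (G ≃* Equiv.Perm (Fin 4)) := by
  classical
  obtain ⟨hp2, hV4⟩ := h.small hq hqp hQ hQb hwQ hwp hw1
  have := h.normal
  have hQp : ∀ g ∈ Q, ∃ k, g ^ (q ^ k) = 1 := by
    intro g hg
    obtain ⟨k, hk⟩ := hQ ⟨g, hg⟩
    exact ⟨k, by simpa using congrArg Subtype.val hk⟩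
  obtain ⟨y, hyQ, hy1⟩ := (bot_or_exists_ne_one Q).resolve_left hQb
  obtain ⟨k, hk⟩ := hQp y hyQ
  have hyc := coprime_of_pgroup hq h.hp hqp hk
  -- the centralizer of `V` is `V`
  have hCn : (centralizer (V : Set G)).Normal := Subgroup.normal_centralizer
  have hexp : ∀ x ∈ centralizer (V : Set G), x * x = 1 := by
    intro x hx
    have := h.exponent hx
    rwa [hp2, pow_two] at this
  have hC : Big c p (centralizer (V : Set G)) := by
    refine ⟨h.hc, h.hp, hCn, fun h' => h.ne_bot (le_bot_iff.1 (h' ▸ h.le_cent)), fun v hv => h.exponent hv, ?_,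
      fun X hX hle => h.big X hX (h.le_cent.trans hle)⟩
    intro a ha b hb
    have h1 := hexp _ (mul_mem ha hb)
    have h2 := hexp a ha
    have h3 := hexp b hb
    have h4 := eq_inv_of_mul_eq_one_left h1
    rw [mul_inv_rev, inv_eq_of_mul_eq_one_left h2, inv_eq_of_mul_eq_one_left h3] at h4
    exact h4
  obtain ⟨-, hC4⟩ := hC.small hq hqp hQ hQb hwQ hwp hw1
  have hCV : V = centralizer (V : Set G) :=
    Subgroup.eq_of_le_of_card_ge h.le_cent (by rw [hV4, hC4])
  -- the action
  have hker : (conjPerm V).ker = V := by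
    ext g
    rw [MonoidHom.mem_ker]
    constructor
    · intro hg
      rw [hCV, mem_centralizer_iff]
      intro v hv
      by_cases hv1 : v = 1
      · rw [hv1]; simp
      have h1 := congrArg (fun e : Equiv.Perm {v : G // v ∈ V ∧ v ≠ 1} => ((e ⟨v, hv, hv1⟩ : _) : G)) hg
      have h2 : g * v * g⁻¹ = v := h1
      rw [mul_inv_eq_iff_eq_mul] at h2
      exact h2.symm
    · intro hg
      rw [hCV] at hg
      ext v
      show g * (v : G) * g⁻¹ = v
      rw [← mem_centralizer_iff.1 hg v v.2.1, mul_inv_cancel_right]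
  have hVnc : Nat.card {v : G // v ∈ V ∧ v ≠ 1} = 3 := by
    have h1 : Nat.card V = Nat.card {v : G // v ∈ V ∧ v ≠ 1} + 1 := by
      have e : V ≃ Option {v : G // v ∈ V ∧ v ≠ 1} :=
        { toFun := fun v => if hv : (v : G) = 1 then none else some ⟨v, v.2, hv⟩
          invFun := fun o => o.elim 1 (fun v => ⟨v, v.2.1⟩)
          left_inv := by
            intro v
            by_cases hv : (v : G) = 1
            · simp only [hv, dif_pos, Option.elim_none]
              exact Subtype.ext hv.symm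
            · simp [hv]
          right_inv := by
            rintro (_ | ⟨v, hv⟩)
            · simp
            · simp [hv.2] }
      rw [Nat.card_congr e, Finite.card_option]
    omega
  have hidx : V.index ∣ 6 := by
    have h1 := Subgroup.index_ker (conjPerm V)
    rw [hker] at h1
    rw [h1]
    have h2 : Nat.card (Equiv.Perm {v : G // v ∈ V ∧ v ≠ 1}) = 6 := by
      have := Fintype.ofFinite {v : G // v ∈ V ∧ v ≠ 1}
      rw [Nat.card_eq_fintype_card, Fintype.card_perm, ← Nat.card_eq_fintype_card, hVnc]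
      rfl
    rw [← h2]
    exact Subgroup.card_subgroup_dvd_card _
  have hwV : w ∉ V := by
    intro hwV
    -- `[w, Q] ≤ V ⊓ Q`
    have h1 : w * y * w⁻¹ * y⁻¹ ∈ Q := mul_mem ((mem_normalizer_iff.1 hwQ y).1 hyQ) (inv_mem hyQ)
    have h2 : w * y * w⁻¹ * y⁻¹ ∈ V := by
      have h3 : y * w⁻¹ * y⁻¹ ∈ V := h.normal.conj_mem _ (inv_mem hwV) y
      have : w * y * w⁻¹ * y⁻¹ = w * (y * w⁻¹ * y⁻¹) := by group
      rw [this]; exact mul_mem hwV h3
    have h3 : w * y * w⁻¹ * y⁻¹ = 1 := by
      by_contra hne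
      obtain ⟨k, hk⟩ := hQp _ h1
      exact h.fpf hne (coprime_of_pgroup hq h.hp hqp hk) (h.le_cent h2) hne (h.pow _ h2) rfl
    rw [mul_inv_eq_one, mul_inv_eq_iff_eq_mul] at h3
    exact h.no_comm hw1 hwp hy1 hyc h3
  have hyV : y ∉ V := by
    intro hyV
    exact h.fpf hy1 hyc (h.le_cent hyV) hy1 (h.pow _ hyV) rfl
  have h2i : 2 ∣ V.index := by
    have h1 : orderOf (w : G ⧸ V) = 2 := by
      have : Fact (Nat.Prime 2) := ⟨Nat.prime_two⟩
      apply orderOf_eq_prime
      · rw [← QuotientGroup.mk_pow, ← hp2, hwp, QuotientGroup.mk_one]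
      · exact fun h' => hwV ((QuotientGroup.eq_one_iff w).1 h')
    rw [← h1]; exact orderOf_dvd_natCard _
  have h3i : 3 ∣ V.index := by
    have h1 : orderOf (y : G ⧸ V) ≠ 1 := fun h' => hyV ((QuotientGroup.eq_one_iff y).1 (orderOf_eq_one_iff.1 h'))
    have h2 : orderOf (y : G ⧸ V) ∣ q ^ k := by
      apply orderOf_dvd_of_pow_eq_one
      rw [← QuotientGroup.mk_pow, hk, QuotientGroup.mk_one]
    obtain ⟨j, -, hj⟩ := (Nat.dvd_prime_pow hq).1 h2
    have hj0 : j ≠ 0 := by rintro rfl; rw [pow_zero] at hj; exact h1 hj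
    have h3 : q ∣ V.index := (dvd_pow_self q hj0).trans (hj ▸ orderOf_dvd_natCard _)
    have h4 : q ∣ 6 := h3.trans hidx
    have h5 : q ≤ 6 := Nat.le_of_dvd (by norm_num) h4
    have h6 : q = 3 := by
      interval_cases q
      · exact absurd hq (by decide)
      · exact absurd hq (by decide)
      · exact absurd hp2.symm hqp
      · rfl
      · exact absurd hq (by decide)
      · exact absurd h4 (by decide)
      · exact absurd hq (by decide)
    rw [← h6]; exact h3
  have hi6 : V.index = 6 := by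
    have h1 : 2 * 3 ∣ V.index := Nat.Coprime.mul_dvd_of_dvd_of_dvd (by norm_num) h2i h3i
    exact Nat.dvd_antisymm hidx h1
  have h24 : Nat.card G = 24 := by rw [← V.card_mul_index, hV4, hi6]
  apply H98.DicksonIdent.S4_of h24
  intro N hN
  constructor
  · intro hN2
    -- a normal subgroup of order 2 is central
    obtain ⟨n, hn, hn1⟩ := (bot_or_exists_ne_one N).resolve_left (by
      rintro rfl; rw [Subgroup.card_bot] at hN2; exact absurd hN2 (by norm_num))
    have hNel : ∀ x ∈ N, x ≠ 1 → x = n := by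
      intro x hx hx1
      obtain ⟨m, hm, huniq⟩ := (Nat.card_eq_two_iff' (1 : N)).1 hN2
      have h1 := huniq ⟨x, hx⟩ (fun h' => hx1 (congrArg Subtype.val h'))
      have h2 := huniq ⟨n, hn⟩ (fun h' => hn1 (congrArg Subtype.val h'))
      exact congrArg Subtype.val (h1.trans h2.symm)
    have hnn : n ^ 2 = 1 := by
      rw [← hN2]
      exact congrArg (fun t : N => (t : G)) (pow_card_eq_one' (G := N) (x := ⟨n, hn⟩))
    have hny : y * n * y⁻¹ = n := hNel _ (hN.conj_mem n hn y) (conj_ne_one hn1)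
    rw [mul_inv_eq_iff_eq_mul] at hny
    exact h.no_comm hn1 (by rw [hp2]; exact hnn) hy1 hyc hny.symm
  · intro hN3
    have hNV : N ⊓ V = ⊥ := by
      apply H1.Coprime.inf_eq_bot_of_coprime_card
      rw [hN3, hV4]; norm_num
    have hNle : N ≤ V := by
      rw [hCV]
      intro n hn
      rw [mem_centralizer_iff]
      intro v hv
      have h1 : n * v * n⁻¹ * v⁻¹ ∈ N ⊓ V := by
        constructor
        · have h2 := hN.conj_mem _ (inv_mem hn) v
          have : n * v * n⁻¹ * v⁻¹ = n * (v * n⁻¹ * v⁻¹) := by group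
          rw [this]; exact N.mul_mem hn h2
        · exact V.mul_mem (h.normal.conj_mem _ hv n) (V.inv_mem hv)
      rw [hNV, mem_bot, mul_inv_eq_one, mul_inv_eq_iff_eq_mul] at h1
      exact h1.symm
    rw [inf_eq_left.2 hNle] at hNV
    rw [hNV, Subgroup.card_bot] at hN3
    exact absurd hN3 (by norm_num)

/-- **groups with an abelian normal `p`-subgroup of exponent `p` not contained in a component** -/
theorem Big.result (hFT : FT.{u}) (h : Big c p V) :
    Nonempty (G ≃* Equiv.Perm (Fin 4)) ∨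
    (∃ p : ℕ, p.Prime ∧ Subgroup.closure {g : G | g ^ p ≠ 1} ≠ ⊤) ∨
    (∃ H : Subgroup G, Cfsg.IsFrobeniusComplement H) := by
  by_cases hiso : Iso G p
  swap
  · left
    unfold Iso at hiso
    push Not at hiso
    obtain ⟨q, hq, hqp, Q, hQ, hQb, w, hw, hwp, hw1⟩ := hiso
    exact h.s4 hq hqp hQ hQb hw hwp hw1
  right
  have := Fact.mk h.hp
  have hVn := h.normal
  obtain ⟨v, hv, hv1⟩ := (bot_or_exists_ne_one V).resolve_left h.ne_bot
  have hK : ∃ K : Subgroup G, K.Normal ∧ IsPGroup p K ∧ ¬ p ∣ K.index := by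
    by_cases hcase : p = 2 ∨ Group.IsSolvable G
    · exact normal_sylow h.hp hiso hcase
    push Not at hcase
    obtain ⟨hp2, hns⟩ := hcase
    have heven : 2 ∣ Nat.card G := by
      rw [← even_iff_two_dvd, ← Nat.not_odd_iff_even]
      exact fun h => hns (hFT _ h)
    have : Fact (Nat.Prime 2) := ⟨Nat.prime_two⟩
    obtain ⟨t, ht⟩ := exists_prime_orderOf_dvd_card' (G := G) 2 heven
    have hcop2 : Nat.Coprime 2 p := (Nat.coprime_primes Nat.prime_two h.hp).2 hp2.symm
    have hinv : ∀ s : G, orderOf s = 2 → ∀ x ∈ V, s * x * s⁻¹ = x⁻¹ := by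
      intro s hs
      have hs1 : s ≠ 1 := by rintro rfl; rw [orderOf_one] at hs; exact absurd hs (by norm_num)
      apply H69.FrobData.inv_of_fpf (by rw [← pow_two, ← hs, pow_orderOf_eq_one])
      rw [eq_bot_iff]
      intro x hx
      rw [mem_bot]
      by_contra hx1
      exact h.fpf hs1 (by rw [hs]; exact hcop2) (h.le_cent hx.1) hx1 (h.pow x hx.1)
        (mem_centralizer_singleton_iff.1 hx.2).symm
    have hCr : IsPGroup p (centralizer (V : Set G)) := by
      rintro ⟨g, hg⟩
      exact ⟨1, Subtype.ext (by simpa using h.exponent hg)⟩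
    refine ⟨centralizer (V : Set G), Subgroup.normal_centralizer, hCr, ?_⟩
    intro hdvd
    obtain ⟨g0, hg0⟩ := exists_prime_orderOf_dvd_card' (G := G ⧸ centralizer (V : Set G)) p hdvd
    obtain ⟨g, rfl⟩ := QuotientGroup.mk_surjective g0
    set s := g * t * g⁻¹ with hs
    have hso : orderOf s = 2 := by
      rw [hs, ← ht]
      exact (MulAut.conj g).orderOf_eq t |>.symm ▸ rfl
    have hss : s * s = 1 := by rw [← pow_two, ← hso, pow_orderOf_eq_one]
    have htt : t * t = 1 := by rw [← pow_two, ← ht, pow_orderOf_eq_one]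
    have htsC : t * s ∈ centralizer (V : Set G) := by
      rw [mem_centralizer_iff]
      intro x hx
      have h1 := hinv s hso x hx
      have h2 := hinv t ht _ (inv_mem hx)
      rw [inv_inv] at h2
      have h3 : (t * s) * x * (t * s)⁻¹ = x := by
        calc (t * s) * x * (t * s)⁻¹ = t * (s * x * s⁻¹) * t⁻¹ := by group
          _ = x := by rw [h1, h2]
      rw [mul_inv_eq_iff_eq_mul] at h3
      exact h3.symm
    obtain ⟨k, hk⟩ := hCr ⟨_, htsC⟩
    have hodd : Odd (orderOf (t * s)) := odd_of_pgroup h.hp hp2 (k := k) (by simpa using congrArg Subtype.val hk)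
    obtain ⟨b, hb, hbt⟩ := conj_odd htt hss hodd
    have hbC : b ∈ centralizer (V : Set G) := by
      have : zpowers (t * s) ≤ centralizer (V : Set G) := by rw [zpowers_le]; exact htsC
      exact this hb
    set n := b * g with hn
    have hnt : n * t = t * n := by
      have h1 : b * s * b⁻¹ = t := by rw [← hbt]; group
      calc n * t = b * (g * t * g⁻¹) * b⁻¹ * (b * g) := by rw [hn]; group
        _ = t * n := by rw [← hs, h1]
    have hng : (n : G ⧸ centralizer (V : Set G)) = g := by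
      rw [hn, QuotientGroup.mk_mul, (QuotientGroup.eq_one_iff b).2 hbC, one_mul]
    have hnC : n ∉ centralizer (V : Set G) := by
      intro h'
      rw [← hng, (QuotientGroup.eq_one_iff n).2 h', orderOf_one] at hg0
      exact h.hp.one_lt.ne hg0
    have hnr : n ^ p ∈ centralizer (V : Set G) := by
      rw [← QuotientGroup.eq_one_iff, QuotientGroup.mk_pow, hng, ← hg0, pow_orderOf_eq_one]
    obtain ⟨j, hj⟩ := hCr ⟨_, hnr⟩
    have hj' : n ^ (p ^ (j + 1)) = 1 := by
      rw [pow_succ', pow_mul]; simpa using congrArg Subtype.val hj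
    have hn1 : n ≠ 1 := by rintro h'; rw [h'] at hnC; exact hnC (one_mem _)
    obtain ⟨i, hi1, hi2⟩ := exists_pow_order h.hp hn1 hj'
    have ht1 : t ≠ 1 := by rintro rfl; rw [orderOf_one] at ht; exact absurd ht (by norm_num)
    exact h.no_comm hi1 hi2 ht1 (by rw [ht]; exact hcop2) ((show Commute n t from hnt).pow_left i).eq
  obtain ⟨K, hKn, hKp, hKi⟩ := hK
  have hpG : p ∣ Nat.card G := by
    have : orderOf v = p := orderOf_eq_prime (h.pow v hv) hv1
    rw [← this]; exact orderOf_dvd_natCard _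
  by_cases hKt : K = ⊤
  · left
    refine ⟨p, h.hp, ?_⟩
    have hGp : IsPGroup p (⊤ : Subgroup G) := hKt ▸ hKp
    have hGb : (⊤ : Subgroup G) ≠ ⊥ := by
      intro h'
      exact hv1 (by rw [← mem_bot, ← h']; trivial)
    obtain ⟨z, hz, hz1⟩ := (bot_or_exists_ne_one _).resolve_left
      (H65.PBasic.inf_centralizer_ne_bot (⊤ : Subgroup G) ⊤ hGp hGp le_normalizer hGb)
    have hZ := h.hc.isComp hz1
    intro hcl
    apply h.big _ hZ
    have h1 : Subgroup.closure {g : G | g ^ p ≠ 1} ≤ c z := by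
      rw [closure_le]
      intro g hg
      by_contra hgz
      apply hg
      obtain ⟨ℓ, hℓ, h1, h2⟩ := h.hc.comp_prime hZ (h.hc.mem z) hz1 hgz
        (mem_centralizer_iff.1 hz.2 g trivial).symm
      have h3 : ℓ = p := by
        obtain ⟨k, hk⟩ := hGp ⟨g, trivial⟩
        have hk' : g ^ (p ^ k) = 1 := by simpa using congrArg Subtype.val hk
        have h5 := orderOf_dvd_of_pow_eq_one hk'
        rw [h2] at h5
        exact (Nat.prime_dvd_prime_iff_eq hℓ h.hp).1 (hℓ.dvd_of_dvd_pow h5)
      rw [← h3, ← h2, pow_orderOf_eq_one]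
    rw [hcl] at h1
    exact le_top.trans h1
  · right
    have hKb : K ≠ ⊥ := by
      rintro rfl
      rw [Subgroup.index_bot] at hKi
      exact hKi hpG
    apply exists_frobenius K hKb hKt
    intro x hx hx1 g hgx
    by_contra hgK
    have h1 : orderOf (g : G ⧸ K) ≠ 1 := by
      intro h'
      exact hgK ((QuotientGroup.eq_one_iff g).1 (orderOf_eq_one_iff.1 h'))
    obtain ⟨q, hq, hqo⟩ := Nat.exists_prime_and_dvd h1
    have hqr : q ≠ p := by
      rintro rfl
      exact hKi (hqo.trans (orderOf_dvd_natCard _))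
    obtain ⟨a, m, hm, hgm⟩ := Nat.exists_eq_pow_mul_and_not_dvd (orderOf_pos g).ne' q hq.ne_one
    have hg' : g ^ m ∉ K := by
      intro h'
      apply hm
      refine hqo.trans (orderOf_dvd_of_pow_eq_one ?_)
      rw [← QuotientGroup.mk_pow, QuotientGroup.eq_one_iff]; exact h'
    have hg'q : (g ^ m) ^ (q ^ a) = 1 := by rw [← pow_mul, mul_comm, ← hgm, pow_orderOf_eq_one]
    have hg'1 : g ^ m ≠ 1 := fun h' => hg' (by rw [h']; exact one_mem _)
    obtain ⟨k, hk⟩ := hKp ⟨x, hx⟩
    obtain ⟨j, hj1, hj2⟩ := exists_pow_order h.hp hx1 (k := k) (by simpa using congrArg Subtype.val hk)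
    exact h.no_comm hj1 hj2 hg'1 (coprime_of_pgroup hq h.hp hqr hg'q)
      ((show Commute x g from hgx.symm).pow_pow j m).eq

end H73.Pt
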