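import Mathlib
import Cfsg.Agent.Lib.H73.Prt8

/-!
# Partitions: groups without solvable normal subgroups, normalisers of components (H73.Prt9)
-/

set_option autoImplicit false
open Subgroup
open scoped IsMulCommutative Pointwise

universe u

namespace H73.Pt

variable {G : Type u} [Group G] [Finite G] {c : G → Subgroup G}

/-- **Structure of the normaliser of a component** -/
theorem Prt.norm_struct (hFT : FT.{u}) (hc : Prt c) {X : Subgroup G} (hX : IsComp c X)
    (hne : normalizer (X : Set G) ≠ X) :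
    Group.IsNilpotent X ∧
    ((∀ x ∈ X, x ≠ 1 → ∀ g : G, g * x = x * g → g ∈ X) ∨
    ((X.relIndex (normalizer (X : Set G))).Prime ∧
      ∀ g ∈ normalizer (X : Set G), g ∉ X → g ^ (X.relIndex (normalizer (X : Set G))) = 1) ∨
    (∃ r, r.Prime ∧ IsPGroup r X ∧ ∃ A : Subgroup G, A ≤ normalizer (X : Set G) ∧
      normalizer (X : Set G) ≤ normalizer (A : Set G) ∧ IsPGroup r A ∧ X < A ∧
      ¬ r ∣ A.relIndex (normalizer (X : Set G)) ∧
      ∀ x ∈ A, x ≠ 1 → ∀ g ∈ normalizer (X : Set G), g * x = x * g → g ∈ A)) := by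
  set M := normalizer (X : Set G) with hM
  have hXM : X ≤ M := le_normalizer
  have hXM' : X ⊓ M ≠ ⊥ := by rw [inf_eq_left.2 hXM]; exact hX.1
  have hcM := hc.sub M
  have hXc := hX.sub hXM'
  have hXn : (X.subgroupOf M).Normal := by
    rw [Subgroup.normal_subgroupOf_iff_le_normalizer hXM]
  have hXt : X.subgroupOf M ≠ ⊤ := by
    intro h
    rw [subgroupOf_eq_top] at h
    exact hne (le_antisymm h hXM)
  refine ⟨?_, ?_⟩
  · have h1 := hcM.nilpotent_of_normal hXc hXt
    exact Group.nilpotent_of_mulEquiv (_h := h1) (Subgroup.subgroupOfEquivOfLe hXM)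
  · rcases hcM.normal_comp hFT hXc hXt with h1 | h1 | h1
    · left
      intro x hx hx1 g hg
      have hgM : g ∈ M := hc.mem_normalizer_of_comm hX hx hx1 hg
      exact h1 ⟨x, hXM hx⟩ (mem_subgroupOf.2 hx) (fun h' => hx1 (congrArg Subtype.val h')) ⟨g, hgM⟩
        (Subtype.ext hg)
    · right; left
      refine ⟨h1.1, fun g hgM hgX => ?_⟩
      have := h1.2 ⟨g, hgM⟩ (fun h' => hgX (mem_subgroupOf.1 h'))
      exact congrArg Subtype.val this
    · right; right
      obtain ⟨r, hr, hXr, A, hAn, hAr, hXA, hAi, hA⟩ := h1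
      refine ⟨r, hr, ?_, A.map M.subtype, map_subtype_le _, ?_, hAr.map _, ?_, ?_, ?_⟩
      · have := hXr.map M.subtype
        rwa [subgroupOf_map_subtype, inf_eq_left.2 hXM] at this
      · intro g hg
        rw [mem_normalizer_iff]
        intro x
        constructor
        · rintro ⟨a, ha, rfl⟩
          exact ⟨⟨g, hg⟩ * a * (⟨g, hg⟩ : M)⁻¹, hAn.conj_mem a ha _, rfl⟩
        · rintro ⟨a, ha, hax⟩
          have hax' : (a : G) = g * x * g⁻¹ := hax
          refine ⟨(⟨g, hg⟩ : M)⁻¹ * a * ((⟨g, hg⟩ : M)⁻¹)⁻¹, hAn.conj_mem a ha _, ?_⟩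
          show g⁻¹ * (a : G) * (g⁻¹)⁻¹ = x
          rw [hax']; group
      · constructor
        · intro x hx
          exact ⟨⟨x, hXM hx⟩, hXA.1 (mem_subgroupOf.2 hx), rfl⟩
        · intro h
          apply hXA.2
          intro a ha
          exact mem_subgroupOf.2 (h ⟨a, ha, rfl⟩)
      · have : (A.map M.subtype).relIndex M = A.index := by
          show ((A.map M.subtype).subgroupOf M).index = _
          congr 1
          ext x; simp [mem_subgroupOf]
        rwa [this]
      · rintro _ ⟨a, ha, rfl⟩ hx1 g hg hgx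
        exact ⟨⟨g, hg⟩, hA a ha (fun h' => hx1 (by rw [h']; rfl)) ⟨g, hg⟩ (Subtype.ext hgx), rfl⟩

theorem coprime_of_cent (A : Subgroup G) [hA : A.Normal]
    (hcent : ∀ x ∈ A, x ≠ 1 → ∀ g : G, g * x = x * g → g ∈ A) : (Nat.card A).Coprime A.index := by
  rw [Nat.coprime_iff_gcd_eq_one]
  by_contra hne
  obtain ⟨p, hp, hpd⟩ := Nat.exists_prime_and_dvd hne
  have := Fact.mk hp
  have hpA := hpd.trans (Nat.gcd_dvd_left _ _)
  have hpi := hpd.trans (Nat.gcd_dvd_right _ _)
  obtain ⟨x, hx⟩ := exists_prime_orderOf_dvd_card' (G := A) p hpA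
  have hx1 : x ≠ 1 := by rintro rfl; rw [orderOf_one] at hx; exact hp.one_lt.ne hx
  have hxz : IsPGroup p (zpowers (x : G)) := IsPGroup.of_card (n := 1) (by
    rw [Nat.card_zpowers, Subgroup.orderOf_coe, hx, pow_one])
  obtain ⟨P, hP⟩ := hxz.exists_le_sylow
  have hPA : (P : Subgroup G) ⊓ A ≠ ⊥ := by
    intro h
    have : (x : G) ∈ (P : Subgroup G) ⊓ A := ⟨hP (mem_zpowers _), x.2⟩
    rw [h, mem_bot] at this
    exact hx1 (Subtype.ext this)
  have hPn : (P : Subgroup G) ≤ normalizer (((P : Subgroup G) ⊓ A : Subgroup G) : Set G) := by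
    intro g hg
    rw [mem_normalizer_iff]
    intro h
    constructor
    · exact fun hh => ⟨(P : Subgroup G).mul_mem ((P : Subgroup G).mul_mem hg hh.1) ((P : Subgroup G).inv_mem hg), hA.conj_mem h hh.2 g⟩
    · intro hh
      have h1 := (P : Subgroup G).mul_mem ((P : Subgroup G).mul_mem ((P : Subgroup G).inv_mem hg) hh.1) hg
      have h2 := hA.conj_mem _ hh.2 g⁻¹
      have h3 : g⁻¹ * (g * h * g⁻¹) * g = h := by group
      rw [inv_inv] at h2
      rw [h3] at h1 h2
      exact ⟨h1, h2⟩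
  have h1 := H65.PBasic.inf_centralizer_ne_bot (P : Subgroup G) ((P : Subgroup G) ⊓ A) P.2
    (P.2.to_le inf_le_left) hPn hPA
  obtain ⟨z, hz, hz1⟩ := (bot_or_exists_ne_one _).resolve_left h1
  have hPA' : (P : Subgroup G) ≤ A := by
    intro g hg
    exact hcent z hz.1.2 hz1 g (mem_centralizer_iff.1 hz.2 g hg)
  exact P.not_dvd_index (hpi.trans (Subgroup.index_dvd_of_le hPA'))

/-- a group with a nontrivial normal partition, without solvable normal subgroups, not Frobenius -/
structure SS (c : G → Subgroup G) : Prop where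
  hc : Prt c
  ss : ∀ N : Subgroup G, N.Normal → Group.IsSolvable N → N = ⊥
  nt : ∀ g : G, g ≠ 1 → c g ≠ ⊤
  nf : ¬ ∃ H : Subgroup G, Cfsg.IsFrobeniusComplement H
  ne : ∃ g : G, g ≠ 1
  ft : FT.{u}

variable {X : Subgroup G}

theorem SS.ne_top (h : SS c) (hX : IsComp c X) : X ≠ ⊤ := by
  obtain ⟨x, hx, hx1⟩ := hX.exists_ne
  rw [← hX.2 x hx hx1]
  exact h.nt x hx1

theorem SS.not_normal (h : SS c) (hX : IsComp c X) : normalizer (X : Set G) ≠ ⊤ := by
  intro hn
  have : X.Normal := normalizer_eq_top_iff.1 hn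
  have h1 := h.hc.nilpotent_of_normal hX (h.ne_top hX)
  have h2 : Group.IsSolvable X := by
    have := h1
    infer_instance
  exact hX.1 (h.ss X this h2)

theorem SS.norm_ne (h : SS c) (hX : IsComp c X) : normalizer (X : Set G) ≠ X := by
  intro hn
  apply h.nf
  refine ⟨X, hX.1, h.ne_top hX, ?_⟩
  intro g hg
  rw [eq_bot_iff]
  rintro z ⟨hz, hz'⟩
  rw [mem_bot]
  by_contra hz1
  obtain ⟨y, hy, rfl⟩ := hz'
  apply hg
  rw [← hn]
  have hy1 : y ≠ 1 := by rintro rfl; exact hz1 (map_one _)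
  exact h.hc.mem_normalizer hX hy hy1 hz

theorem SS.even (h : SS c) : 2 ∣ Nat.card G := by
  rw [← even_iff_two_dvd, ← Nat.not_odd_iff_even]
  intro ho
  have hs := h.ft G ho
  have h1 : Group.IsSolvable (⊤ : Subgroup G) := by
    have := hs
    infer_instance
  have h2 := h.ss ⊤ inferInstance h1
  obtain ⟨g, hg⟩ := h.ne
  apply hg
  rw [← mem_bot, ← h2]; trivial

theorem SS.odd_normal (h : SS c) (N : Subgroup G) [hN : N.Normal] (ho : Odd (Nat.card N)) : N = ⊥ :=
  h.ss N hN (h.ft N ho)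

end H73.Pt
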