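import Mathlib
import Cfsg.Agent.Lib.H73.Prt9
import Cfsg.Agent.Lib.H25.StrEmb

/-!
# Partitions: a 2-central involution with centralizer in its component (H73.Prt10)
-/

set_option autoImplicit false
open Subgroup
open scoped IsMulCommutative Pointwise

universe u

namespace H73.Pt

variable {G : Type u} [Group G] [Finite G] {c : G → Subgroup G}

theorem self_inv {u : G} (hu : orderOf u = 2) : u⁻¹ = u := by
  have h1 : u * u = 1 := by rw [← pow_two, ← hu, pow_orderOf_eq_one]
  exact inv_eq_of_mul_eq_one_left h1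

theorem mul_self {u : G} (hu : orderOf u = 2) : u * u = 1 := by
  rw [← pow_two, ← hu, pow_orderOf_eq_one]

theorem ne_one_of_two {u : G} (hu : orderOf u = 2) : u ≠ 1 := by
  rintro rfl; rw [orderOf_one] at hu; exact absurd hu (by norm_num)

theorem orderOf_two {u : G} (h1 : u * u = 1) (h2 : u ≠ 1) : orderOf u = 2 :=
  orderOf_eq_prime (by rw [pow_two]; exact h1) h2

/-- the situation of case E -/
structure CE (c : G → Subgroup G) (T : Subgroup G) (P : Sylow 2 G) : Prop where
  ss : SS c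
  comp : IsComp c T
  le : (P : Subgroup G) ≤ T
  cent : ∀ u ∈ T, orderOf u = 2 → ∀ g : G, g * u = u * g → g ∈ T

theorem SS.ce (h : SS c) (P : Sylow 2 G) {t : G} (htP : t ∈ (P : Subgroup G)) (ht : orderOf t = 2)
    (htZ : ∀ x ∈ (P : Subgroup G), x * t = t * x) (hE : ∀ g, g * t = t * g → g ∈ c t) : CE c (c t) P := by
  have ht1 := ne_one_of_two ht
  have hT := h.hc.isComp ht1
  have hPT : (P : Subgroup G) ≤ c t := fun x hx => hE x (htZ x hx)
  refine ⟨h, hT, hPT, ?_⟩
  -- involutions of `P`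
  have key : ∀ u ∈ (P : Subgroup G), orderOf u = 2 → ∀ g : G, g * u = u * g → g ∈ c t := by
    intro u hu hu2 g hg
    by_contra hgT
    have hu1 := ne_one_of_two hu2
    obtain ⟨ℓ, hℓ, h1, h2⟩ := h.hc.comp_prime hT (hPT hu) hu1 hgT hg.symm
    have hg2 : orderOf g = 2 := by rw [h2, ← h1, hu2]
    have hgt : g * t ∉ c t := fun h' => hgT ((Subgroup.mul_mem_cancel_right _ (h.hc.mem t)).1 h')
    have hut : u * t = t * u := htZ u hu
    have hcm : u * (g * t) = (g * t) * u := by
      rw [← mul_assoc, ← hg, mul_assoc, hut, mul_assoc]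
    obtain ⟨ℓ', hℓ', h3, h4⟩ := h.hc.comp_prime hT (hPT hu) hu1 hgt hcm
    have hgt2 : orderOf (g * t) = 2 := by rw [h4, ← h3, hu2]
    apply hgT
    apply hE
    have h5 := mul_self hgt2
    have h6 := eq_inv_of_mul_eq_one_left h5
    rw [mul_inv_rev, self_inv ht, self_inv hg2] at h6
    exact h6
  intro u hu hu2 g hg
  have hPi : ¬ 2 ∣ (P : Subgroup G).relIndex (c t) := by
    intro h'
    exact P.not_dvd_index (h'.trans (Subgroup.relIndex_dvd_index_of_le hPT))
  have hz : IsPGroup 2 (zpowers u) := IsPGroup.of_card (n := 1) (by rw [Nat.card_zpowers, hu2, pow_one])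
  obtain ⟨y, hy, hyu⟩ := H51.SylowAmb.exists_conj_le hPT P.2 hPi (Q := zpowers u)
    (by rw [zpowers_le]; exact hu) hz
  have h1 : y * u * y⁻¹ ∈ (P : Subgroup G) := hyu ⟨u, mem_zpowers u, rfl⟩
  have h2 : orderOf (y * u * y⁻¹) = 2 := by
    rw [← hu2]; exact (MulAut.conj y).orderOf_eq u
  have h3 := key _ h1 h2 (y * g * y⁻¹) (by
    calc y * g * y⁻¹ * (y * u * y⁻¹) = y * (g * u) * y⁻¹ := by group
      _ = y * u * y⁻¹ * (y * g * y⁻¹) := by rw [hg]; group)
  have h4 : g = y⁻¹ * (y * g * y⁻¹) * y := by group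
  rw [h4]
  exact mul_mem (mul_mem (inv_mem hy) h3) hy

variable {T : Subgroup G} {P : Sylow 2 G}

theorem CE.two_dvd (h : CE c T P) : 2 ∣ Nat.card (P : Subgroup G) := by
  have h1 := h.ss.even
  have h2 := (P : Subgroup G).card_mul_index
  rw [← h2] at h1
  exact (Nat.Prime.dvd_mul Nat.prime_two).1 h1 |>.resolve_right P.not_dvd_index

theorem CE.exists_t (h : CE c T P) : ∃ t ∈ T, orderOf t = 2 := by
  have : Fact (Nat.Prime 2) := ⟨Nat.prime_two⟩
  obtain ⟨t, ht⟩ := exists_prime_orderOf_dvd_card' (G := (P : Subgroup G)) 2 h.two_dvd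
  exact ⟨t, h.le t.2, by rw [Subgroup.orderOf_coe]; exact ht⟩

/-- the involutions of the normaliser lie in `T` -/
theorem CE.invol_mem (h : CE c T P) {u : G} (hu : u ∈ normalizer (T : Set G)) (hu2 : orderOf u = 2) : u ∈ T := by
  have hPM : (P : Subgroup G) ≤ normalizer (T : Set G) := h.le.trans le_normalizer
  have hPi : ¬ 2 ∣ (P : Subgroup G).relIndex (normalizer (T : Set G)) := by
    intro h'
    exact P.not_dvd_index (h'.trans (Subgroup.relIndex_dvd_index_of_le hPM))
  have hz : IsPGroup 2 (zpowers u) := IsPGroup.of_card (n := 1) (by rw [Nat.card_zpowers, hu2, pow_one])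
  obtain ⟨y, hy, hyu⟩ := H51.SylowAmb.exists_conj_le hPM P.2 hPi (Q := zpowers u)
    (by rw [zpowers_le]; exact hu) hz
  have h1 : y * u * y⁻¹ ∈ T := h.le (hyu ⟨u, mem_zpowers u, rfl⟩)
  exact (mem_normalizer_iff.1 hy u).2 h1

theorem CE.ti (h : CE c T P) {g u : G} (hu : u ∈ T) (hu1 : u ≠ 1) (hg : g⁻¹ * u * g ∈ T) :
    g ∈ normalizer (T : Set G) := by
  have h1 : g⁻¹ ∈ normalizer (T : Set G) := by
    apply h.ss.hc.mem_normalizer h.comp hu hu1
    rw [inv_inv]; exact hg
  have := inv_mem h1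
  rwa [inv_inv] at this

theorem CE.emb (h : CE c T P) : Cfsg.IsStronglyEmbedded (normalizer (T : Set G)) := by
  have : Fact (Nat.Prime 2) := ⟨Nat.prime_two⟩
  refine ⟨h.ss.not_normal h.comp, ?_, ?_⟩
  · rw [even_iff_two_dvd]
    exact h.two_dvd.trans (Subgroup.card_dvd_of_le (h.le.trans le_normalizer))
  · intro g hg
    rw [← Nat.not_even_iff_odd, even_iff_two_dvd]
    intro hd
    obtain ⟨u, hu⟩ := exists_prime_orderOf_dvd_card' 2 hd
    have hu2 : orderOf (u : G) = 2 := by rw [Subgroup.orderOf_coe]; exact hu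
    have h1 : (u : G) ∈ T := h.invol_mem u.2.1 hu2
    have h2 : g⁻¹ * u * g ∈ normalizer (T : Set G) := by
      rw [← H25.StrEmb.mem_map_conj]; exact u.2.2
    have h3 : orderOf (g⁻¹ * (u : G) * g) = 2 := by
      rw [← hu2]
      have := (MulAut.conj g⁻¹).orderOf_eq (u : G)
      simpa using this
    exact hg (h.ti h1 (ne_one_of_two hu2) (h.invol_mem h2 h3))

/-- exclusion of the Hughes–Thompson case -/
theorem CE.no_hughes (h : CE c T P) {x0 g0 : G} (hx0 : x0 ∈ T) (hx01 : x0 ≠ 1) (hg0 : g0 ∉ T)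
    (hcomm : g0 * x0 = x0 * g0) {r : ℕ} (hr : r.Prime)
    (hpow : ∀ g ∈ normalizer (T : Set G), g ∉ T → g ^ r = 1) : False := by
  classical
  have := Fact.mk hr
  have hT := h.comp
  have hc := h.ss.hc
  have hr2 : r ≠ 2 := by
    rintro rfl
    obtain ⟨x, hxM, hxT⟩ : ∃ x ∈ normalizer (T : Set G), x ∉ T := by
      by_contra hcon
      push Not at hcon
      exact h.ss.norm_ne hT (le_antisymm hcon le_normalizer)
    have h1 := hpow x hxM hxT
    have hx1 : x ≠ 1 := by rintro rfl; exact hxT (one_mem _)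
    exact hxT (h.invol_mem hxM (orderOf_eq_prime h1 hx1))
  -- `r` divides the order of `T`
  have hg0M : g0 ∈ normalizer (T : Set G) := hc.mem_normalizer_of_comm hT hx0 hx01 hcomm
  obtain ⟨ℓ, hℓ, hx0o, hg0o⟩ := hc.comp_prime hT hx0 hx01 hg0 hcomm.symm
  have hg01 : g0 ≠ 1 := by rintro rfl; exact hg0 (one_mem _)
  have hℓr : ℓ = r := by rw [← hg0o]; exact orderOf_eq_prime (hpow g0 hg0M hg0) hg01
  have hrT : r ∣ Nat.card T := by
    rw [← hℓr, ← hx0o, ← Subgroup.orderOf_mk x0 hx0]; exact orderOf_dvd_natCard _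
  obtain ⟨hnil, -⟩ := hc.norm_struct h.ss.ft hT (h.ss.norm_ne hT)
  -- an involution outside `M`
  obtain ⟨t, htT, ht2⟩ := h.exists_t
  have ht1 := ne_one_of_two ht2
  obtain ⟨a, ha⟩ : ∃ a, a ∉ normalizer (T : Set G) := by
    by_contra hcon
    push Not at hcon
    exact h.ss.not_normal hT (top_le_iff.1 (fun x _ => hcon x))
  obtain ⟨u, hu2, huM⟩ : ∃ u, orderOf u = 2 ∧ u ∉ normalizer (T : Set G) := by
    have hu2 : orderOf (a * t * a⁻¹) = 2 := by rw [← ht2]; exact (MulAut.conj a).orderOf_eq t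
    refine ⟨_, hu2, ?_⟩
    intro h'
    have h1 := h.invol_mem h' hu2
    exact ha (hc.mem_normalizer hT htT ht1 h1)
  -- an involution `i ≠ u` in the coset `u M`
  have hex : ∃ i, orderOf i = 2 ∧ u⁻¹ * i ∈ normalizer (T : Set G) ∧ i ≠ u := by
    by_contra hcon
    push Not at hcon
    have h1 := H25.StrEmb.card_swap h.emb (QuotientGroup.mk 1) (QuotientGroup.mk u) (by
      intro h'
      rw [QuotientGroup.eq, inv_one, one_mul] at h'
      exact huM h')
    have h2 : Nat.card {i : G // orderOf i = 2 ∧ i • (QuotientGroup.mk 1 : G ⧸ normalizer (T : Set G)) =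
        QuotientGroup.mk u} ≤ 1 := by
      rw [Finite.card_le_one_iff_subsingleton]
      constructor
      rintro ⟨i, hi, hi'⟩ ⟨j, hj, hj'⟩
      rw [H25.StrEmb.smul_mk_eq_iff, mul_one] at hi' hj'
      apply Subtype.ext
      show i = j
      rw [hcon i hi hi', hcon j hj hj']
    rw [h1, Finite.card_le_one_iff_subsingleton] at h2
    -- then `t` is the unique involution of `M`
    apply h.ss.norm_ne hT
    refine le_antisymm ?_ le_normalizer
    intro g hg
    have h3 : g * t * g⁻¹ ∈ T := (mem_normalizer_iff.1 hg t).1 htT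
    have h4 : orderOf (g * t * g⁻¹) = 2 := by rw [← ht2]; exact (MulAut.conj g).orderOf_eq t
    have h5 := h2.elim ⟨g * t * g⁻¹, h4, le_normalizer h3⟩ ⟨t, ht2, le_normalizer htT⟩
    have h6 : g * t * g⁻¹ = t := congrArg Subtype.val h5
    rw [mul_inv_eq_iff_eq_mul] at h6
    exact h.cent t htT ht2 g h6
  obtain ⟨i, hi2, hiM, hiu⟩ := hex
  set m := u⁻¹ * i with hm
  have hm1 : m ≠ 1 := by
    intro h'
    rw [hm, inv_mul_eq_one] at h'
    exact hiu h'.symm
  have hum : u * m * u⁻¹ = m⁻¹ := by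
    rw [hm, mul_inv_rev, inv_inv, mul_inv_cancel_left, self_inv hu2, self_inv hi2]
  have hmT : m ∉ T := by
    intro h'
    apply huM
    apply hc.mem_normalizer hT h' hm1
    rw [hum]; exact inv_mem h'
  have hmr : m ^ r = 1 := hpow m hiM hmT
  have hmo : orderOf m = r := orderOf_eq_prime hmr hm1
  -- an element `z ∈ T` of order `r` commuting with `m`
  obtain ⟨z, hzT, hz1, hzr, hzm⟩ : ∃ z ∈ T, z ≠ 1 ∧ z ^ r = 1 ∧ z * m = m * z := by
    set M := normalizer (T : Set G) with hM
    have hTM : T ≤ M := le_normalizer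
    have hTn : (T.subgroupOf M).Normal := by
      rw [Subgroup.normal_subgroupOf_iff_le_normalizer hTM]
    have hTnil : Group.IsNilpotent (T.subgroupOf M) :=
      Group.nilpotent_of_mulEquiv (_h := hnil) (Subgroup.subgroupOfEquivOfLe hTM).symm
    obtain ⟨V, hVn, hVT, hVb, hVr, hVc⟩ := exists_V hTnil hr (by
      rwa [Nat.card_congr (Subgroup.subgroupOfEquivOfLe hTM).toEquiv])
    have hV : IsPGroup r V := by
      intro v
      exact ⟨1, Subtype.ext (by simpa using hVr v v.2)⟩
    set m' : M := ⟨m, hiM⟩ with hm'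
    have hz : IsPGroup r (zpowers m') := IsPGroup.of_card (n := 1) (by
      rw [Nat.card_zpowers, pow_one, ← Subgroup.orderOf_coe]; exact hmo)
    have h1 := H65.PBasic.inf_centralizer_ne_bot (zpowers m') V hz hV
      (by rw [normalizer_eq_top]; exact le_top) hVb
    obtain ⟨v, hv, hv1⟩ := (bot_or_exists_ne_one _).resolve_left h1
    refine ⟨v, mem_subgroupOf.1 (hVT hv.1), fun h' => hv1 (Subtype.ext h'), ?_, ?_⟩
    · exact congrArg Subtype.val (hVr v hv.1)
    · exact (congrArg Subtype.val ((mem_centralizer_iff.1 hv.2) m' (mem_zpowers m'))).symm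
  have hzo : orderOf z = r := orderOf_eq_prime hzr hz1
  -- the component `Y` of `m`
  have hY := hc.isComp hm1
  set Y := c m with hYdef
  have hmY : m ∈ Y := hc.mem m
  have huY : u ∈ normalizer (Y : Set G) := by
    apply hc.mem_normalizer hY hmY hm1
    rw [hum]; exact inv_mem hmY
  have hzY' : z ∈ normalizer (Y : Set G) := hc.mem_normalizer_of_comm hY hmY hm1 hzm
  have hzY : z ∉ Y := by
    intro h'
    have := hY.eq hT hz1 h' hzT
    exact hmT (this ▸ hmY)
  obtain ⟨hYnil, hYs⟩ := hc.norm_struct h.ss.ft hY (h.ss.norm_ne hY)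
  have hrodd : Odd r := hr.odd_of_ne_two hr2
  by_cases huY2 : u ∈ Y
  · -- `u` and `m` commute
    have := hYnil
    have : Fact (Nat.Prime 2) := ⟨Nat.prime_two⟩
    have h1 := H73.Nilp.commute_of_coprime (M := Y) (p := 2) (a := ⟨u, huY2⟩) (b := ⟨m, hmY⟩)
      ⟨1, by rw [Subgroup.orderOf_mk, hu2, pow_one]⟩ (by
        rw [Subgroup.orderOf_mk, hmo]; exact (Nat.coprime_primes hr Nat.prime_two).2 hr2)
    have h2 : u * m = m * u := congrArg Subtype.val h1.eq
    rw [h2, mul_inv_cancel_right] at hum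
    have h3 : m ^ 2 = 1 := by rw [pow_two]; nth_rw 1 [hum]; rw [inv_mul_cancel]
    have h4 := orderOf_dvd_of_pow_eq_one h3
    rw [hmo] at h4
    exact hr2 ((Nat.prime_dvd_prime_iff_eq hr Nat.prime_two).1 h4)
  · rcases hYs with h1 | h1 | h1
    · exact hzY (h1 m hmY hm1 z hzm)
    · obtain ⟨hp, h2⟩ := h1
      have h3 := h2 z hzY' hzY
      have h4 := h2 u huY huY2
      have h5 := orderOf_dvd_of_pow_eq_one h3
      have h6 := orderOf_dvd_of_pow_eq_one h4
      rw [hzo] at h5
      rw [hu2] at h6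
      have h7 := (Nat.prime_dvd_prime_iff_eq hr hp).1 h5
      have h8 := (Nat.prime_dvd_prime_iff_eq Nat.prime_two hp).1 h6
      exact hr2 (h7.trans h8.symm)
    · obtain ⟨ℓ', hℓ', hYℓ, A, hAM, hMA, hA, hYA, hAi, hAc⟩ := h1
      have hzA : z ∈ A := hAc m (hYA.1 hmY) hm1 z hzY' hzm
      have hℓr' : ℓ' = r := by
        obtain ⟨k, hk⟩ := hA ⟨z, hzA⟩
        have h3 := orderOf_dvd_of_pow_eq_one (x := z) (n := ℓ' ^ k) (by simpa using congrArg Subtype.val hk)
        rw [hzo] at h3
        exact ((Nat.prime_dvd_prime_iff_eq hr hℓ').1 (hr.dvd_of_dvd_pow h3)).symm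
      have hodd : ∀ x ∈ A, Odd (orderOf x) := by
        intro x hx
        obtain ⟨k, hk⟩ := hA ⟨x, hx⟩
        exact odd_of_pgroup hℓ' (by rw [hℓr']; exact hr2) (k := k) (by simpa using congrArg Subtype.val hk)
      -- `u` inverts `A`
      have huA : u ∈ normalizer (A : Set G) := hMA huY
      have hinv : ∀ x ∈ A, u * x * u⁻¹ = x⁻¹ := by
        set N := normalizer (A : Set G) with hN
        have hAN : A ≤ N := le_normalizer
        have hAn : (A.subgroupOf N).Normal := by
          rw [Subgroup.normal_subgroupOf_iff_le_normalizer hAN]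
        have h5 := H69.FrobData.inv_of_fpf (N := A.subgroupOf N) (t := (⟨u, huA⟩ : N))
          (Subtype.ext (mul_self hu2)) (by
            rw [eq_bot_iff]
            intro x hx
            rw [mem_bot]
            by_contra hx1
            have hx1' : (x : G) ≠ 1 := fun h' => hx1 (Subtype.ext h')
            have h6 : (x : G) * u = u * x := congrArg Subtype.val (mem_centralizer_singleton_iff.1 hx.2)
            have h7 : u ∈ A := hAc x (mem_subgroupOf.1 hx.1) hx1' u huY h6.symm
            have h8 := hodd u h7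
            rw [hu2] at h8
            exact absurd h8 (by decide))
        intro x hx
        have := h5 ⟨x, hAN hx⟩ (mem_subgroupOf.2 hx)
        exact congrArg Subtype.val this
      apply huM
      apply hc.mem_normalizer hT hzT hz1
      rw [hinv z hzA]; exact inv_mem hzT

end H73.Pt
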