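import Mathlib
import Cfsg.Agent.Lib.H73.Prt10

/-!
# Partitions: a 2-central involution whose centralizer is not in its component (H73.Prt11)
-/

set_option autoImplicit false
open Subgroup
open scoped IsMulCommutative Pointwise

universe u

namespace H73.Pt

variable {G : Type u} [Group G] [Finite G] {c : G → Subgroup G}

/-- an abelian component of exponent `> 2`, inverted by the elements of its normaliser outside it -/
structure DAb (c : G → Subgroup G) (T : Subgroup G) : Prop where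
  comp : IsComp c T
  inv : ∀ g ∈ normalizer (T : Set G), g ∉ T → (g * g = 1 ∧ ∀ x ∈ T, g * x * g⁻¹ = x⁻¹)
  two : ∀ g ∈ normalizer (T : Set G), g ∉ T → ∀ g' ∈ normalizer (T : Set G), g' ∉ T → g * g' ∈ T
  ab : ∀ x ∈ T, ∀ y ∈ T, x * y = y * x
  sq : ∃ x ∈ T, x * x ≠ 1
  ex : ∃ y ∈ normalizer (T : Set G), y ∉ T

theorem DAb.comm {T : Subgroup G} (h : DAb c T) {t g : G} (htT : t ∈ T) (ht : t * t = 1)
    (hg : g ∈ normalizer (T : Set G)) : g * t = t * g := by
  by_cases hgT : g ∈ T
  · exact h.ab g hgT t htT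
  · have h1 := (h.inv g hg hgT).2 t htT
    have h2 : t⁻¹ = t := inv_eq_of_mul_eq_one_right ht
    rw [h2, mul_inv_eq_iff_eq_mul] at h1
    exact h1

/-- inversion from orders -/
theorem inv_of_invol {T : Subgroup G} {y : G} (hy : y * y = 1)
    (hyx : ∀ x ∈ T, (y * x) * (y * x) = 1) : (∀ x ∈ T, y * x * y⁻¹ = x⁻¹) ∧ (∀ x ∈ T, ∀ x' ∈ T, x * x' = x' * x) := by
  have hyi : y⁻¹ = y := inv_eq_of_mul_eq_one_right hy
  have h1 : ∀ x ∈ T, y * x * y⁻¹ = x⁻¹ := by
    intro x hx
    rw [hyi]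
    have := hyx x hx
    rw [← mul_assoc] at this
    exact eq_inv_of_mul_eq_one_left this
  refine ⟨h1, fun x hx x' hx' => ?_⟩
  have h2 := h1 _ (mul_mem hx hx')
  have h3 : y * (x * x') * y⁻¹ = (y * x * y⁻¹) * (y * x' * y⁻¹) := by group
  rw [h3, h1 x hx, h1 x' hx', ← mul_inv_rev] at h2
  exact (inv_injective h2).symm

theorem SS.dicho (h : SS c) (P : Sylow 2 G) {t : G} (htP : t ∈ (P : Subgroup G)) (ht2 : orderOf t = 2)
    (htZ : ∀ x ∈ (P : Subgroup G), x * t = t * x) {y : G} (hyT : y ∉ c t) (hyt : y * t = t * y) :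
    DAb c (c t) ∨ ((∀ x ∈ (P : Subgroup G), x * x = 1) ∧ (∀ g : G, g * t = t * g → g ∈ (P : Subgroup G)) ∧
      ∃ y ∈ (P : Subgroup G), y ∉ c t) := by
  classical
  have hc := h.hc
  have ht1 := ne_one_of_two ht2
  have hT := hc.isComp ht1
  set T := c t with hTdef
  have htT : t ∈ T := hc.mem t
  have hcN : ∀ g : G, g * t = t * g → g ∈ normalizer (T : Set G) := fun g hg =>
    hc.mem_normalizer_of_comm hT htT ht1 hg
  have hyN := hcN y hyt
  have hyo : orderOf y = 2 := by
    obtain ⟨ℓ, hℓ, h1, h2⟩ := hc.comp_prime hT htT ht1 hyT hyt.symm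
    rw [h2, ← h1, ht2]
  obtain ⟨-, hs⟩ := hc.norm_struct h.ft hT (h.norm_ne hT)
  rcases hs with h1 | h1 | h1
  · exact absurd (h1 t htT ht1 y hyt) hyT
  · -- index two
    obtain ⟨hp, h2⟩ := h1
    have h3 := orderOf_dvd_of_pow_eq_one (h2 y hyN hyT)
    rw [hyo] at h3
    have h4 := (Nat.prime_dvd_prime_iff_eq Nat.prime_two hp).1 h3
    rw [← h4] at h2
    have hinvol : ∀ g ∈ normalizer (T : Set G), g ∉ T → g * g = 1 := by
      intro g hg hgT; rw [← pow_two]; exact h2 g hg hgT
    have hTN : T ≤ normalizer (T : Set G) := le_normalizer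
    have hinv : ∀ g ∈ normalizer (T : Set G), g ∉ T →
        (∀ x ∈ T, g * x * g⁻¹ = x⁻¹) ∧ (∀ x ∈ T, ∀ x' ∈ T, x * x' = x' * x) := by
      intro g hg hgT
      apply inv_of_invol (hinvol g hg hgT)
      intro x hx
      apply hinvol _ (mul_mem hg (hTN hx))
      exact fun h' => hgT ((Subgroup.mul_mem_cancel_right T hx).1 h')
    have hab := (hinv y hyN hyT).2
    have htwo : ∀ g ∈ normalizer (T : Set G), g ∉ T → ∀ g' ∈ normalizer (T : Set G), g' ∉ T → g * g' ∈ T := by
      intro g hg hgT g' hg' hgT'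
      have h5 : (T.subgroupOf (normalizer (T : Set G))).index = 2 := h4.symm
      have h6 := Subgroup.mul_mem_iff_of_index_two h5 (a := ⟨g, hg⟩) (b := ⟨g', hg'⟩)
      rw [mem_subgroupOf, mem_subgroupOf, mem_subgroupOf] at h6
      exact h6.2 (iff_of_false hgT hgT')
    by_cases hsq : ∃ x ∈ T, x * x ≠ 1
    · left
      exact ⟨hT, fun g hg hgT => ⟨hinvol g hg hgT, (hinv g hg hgT).1⟩, htwo, hab, hsq, y, hyN, hyT⟩
    · push Not at hsq
      right
      have hall : ∀ x ∈ normalizer (T : Set G), x * x = 1 := by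
        intro x hx
        by_cases hxT : x ∈ T
        · exact hsq x hxT
        · exact hinvol x hx hxT
      have hN2 : IsPGroup 2 (normalizer (T : Set G)) := by
        rintro ⟨x, hx⟩
        exact ⟨1, Subtype.ext (by rw [pow_one, pow_two]; exact hall x hx)⟩
      have hPN : (P : Subgroup G) ≤ normalizer (T : Set G) := fun x hx => hcN x (htZ x hx)
      have hPe : normalizer (T : Set G) = P := P.3 hN2 hPN
      refine ⟨fun x hx => hall x (hPN hx), fun g hg => by rw [← hPe]; exact hcN g hg, y, by rw [← hPe]; exact hyN, hyT⟩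
  · -- `2`-group
    obtain ⟨r, hr, hTr, A, hAM, hMA, hA, hTA, hAi, hAc⟩ := h1
    have hr2 : r = 2 := by
      obtain ⟨k, hk⟩ := hTr ⟨t, htT⟩
      have h3 := orderOf_dvd_of_pow_eq_one (x := t) (n := r ^ k) (by simpa using congrArg Subtype.val hk)
      rw [ht2] at h3
      exact ((Nat.prime_dvd_prime_iff_eq Nat.prime_two hr).1 (Nat.prime_two.dvd_of_dvd_pow h3)).symm
    subst hr2
    have : Fact (Nat.Prime 2) := ⟨Nat.prime_two⟩
    have hPN : (P : Subgroup G) ≤ normalizer (T : Set G) := fun x hx => hcN x (htZ x hx)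
    -- `P = A`
    have hPA : A = P := by
      have h3 : IsPGroup 2 ((P : Subgroup G) ⊔ A : Subgroup G) :=
        P.2.to_sup_of_normal_right' hA (hPN.trans hMA)
      have h4 : (P : Subgroup G) ⊔ A = P := P.3 h3 le_sup_left
      have h5 : A ≤ P := by rw [← h4]; exact le_sup_right
      -- `P ≤ A` by the index
      refine le_antisymm h5 ?_
      intro x hx
      have hxN := hPN hx
      have hAn : (A.subgroupOf (normalizer (T : Set G))).Normal := by
        rw [Subgroup.normal_subgroupOf_iff_le_normalizer hAM]; exact hMA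
      have h6 := Subgroup.pow_index_mem (A.subgroupOf (normalizer (T : Set G))) ⟨x, hxN⟩
      rw [mem_subgroupOf] at h6
      have h7 : x ^ (A.relIndex (normalizer (T : Set G))) ∈ A := h6
      obtain ⟨k, hk⟩ := P.2 ⟨x, hx⟩
      have hk' : x ^ (2 ^ k) = 1 := by simpa using congrArg Subtype.val hk
      exact mem_of_coprime A (a := 2 ^ k) (((Nat.Prime.coprime_iff_not_dvd Nat.prime_two).2 hAi).pow_left k)
        (by rw [hk']; exact one_mem _) h7
    have htA : t ∈ A := hTA.1 htT
    have hcA : ∀ g : G, g * t = t * g → g ∈ A := fun g hg => hAc t htA ht1 g (hcN g hg) hg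
    have hinvol : ∀ g ∈ A, g ∉ T → g * g = 1 := by
      intro g hg hgT
      have h3 : g * t = t * g := htZ g (hPA ▸ hg)
      obtain ⟨ℓ, hℓ, h4, h5⟩ := hc.comp_prime hT htT ht1 hgT h3.symm
      exact mul_self (by rw [h5, ← h4, ht2])
    have hyA : y ∈ A := hcA y hyt
    have hinv : ∀ g ∈ A, g ∉ T →
        (∀ x ∈ T, g * x * g⁻¹ = x⁻¹) ∧ (∀ x ∈ T, ∀ x' ∈ T, x * x' = x' * x) := by
      intro g hg hgT
      apply inv_of_invol (hinvol g hg hgT)
      intro x hx
      apply hinvol _ (mul_mem hg (hTA.1 hx))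
      exact fun h' => hgT ((Subgroup.mul_mem_cancel_right T hx).1 h')
    have hab := (hinv y hyA hyT).2
    by_cases hsq : ∃ x ∈ T, x * x ≠ 1
    · left
      have htwo : ∀ g ∈ A, g ∉ T → ∀ g' ∈ A, g' ∉ T → g * g' ∈ T := by
        intro g hg hgT g' hg' hgT'
        by_contra hcon
        obtain ⟨x, hx, hxx⟩ := hsq
        apply hxx
        have h3 := (hinv _ (mul_mem hg hg') hcon).1 x hx
        have h4 : g * g' * x * (g * g')⁻¹ = g * (g' * x * g'⁻¹) * g⁻¹ := by group
        rw [h4, (hinv g' hg' hgT').1 x hx, (hinv g hg hgT).1 _ (inv_mem hx), inv_inv] at h3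
        nth_rw 1 [h3]
        exact inv_mul_cancel x
      have hMA' : ∀ m ∈ normalizer (T : Set G), m ∈ A := by
        intro m hm
        by_contra hmA
        have hAn : (A.subgroupOf (normalizer (T : Set G))).Normal := by
          rw [Subgroup.normal_subgroupOf_iff_le_normalizer hAM]; exact hMA
        have h6 := Subgroup.pow_index_mem (A.subgroupOf (normalizer (T : Set G))) ⟨m, hm⟩
        rw [mem_subgroupOf] at h6
        have h7 : m ^ (A.relIndex (normalizer (T : Set G))) ∈ A := h6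
        obtain ⟨k, hk⟩ := IsPGroup.iff_card.1 hA
        set m' := m ^ (2 ^ k) with hm'
        have hm'A : m' ∉ A := fun h' => hmA (mem_of_coprime A (a := 2 ^ k)
          (((Nat.Prime.coprime_iff_not_dvd Nat.prime_two).2 hAi).pow_left k) h' h7)
        have hm'N : m' ∈ normalizer (T : Set G) := Subgroup.pow_mem _ hm _
        have hfpf : ∀ x ∈ A, m' * x * m'⁻¹ = x → x = 1 := by
          intro x hx hxm
          by_contra hx1
          rw [mul_inv_eq_iff_eq_mul] at hxm
          exact hm'A (hAc x hx hx1 m' hm'N hxm)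
        have hm'T : ∀ x ∈ T, m' * x * m'⁻¹ ∈ T := fun x hx => (mem_normalizer_iff.1 hm'N x).1 hx
        have hy'A : m' * y * m'⁻¹ ∈ A := (mem_normalizer_iff.1 (hMA hm'N) y).1 hyA
        have hy'T : m' * y * m'⁻¹ ∉ T := fun h' => hyT ((mem_normalizer_iff.1 hm'N y).2 h')
        have hx0 : y⁻¹ * (m' * y * m'⁻¹) ∈ T := by
          rw [self_inv hyo]; exact htwo y hyA hyT _ hy'A hy'T
        let φ : T → T := fun a => ⟨(a : G) * (m' * (a : G) * m'⁻¹)⁻¹, mul_mem a.2 (inv_mem (hm'T a a.2))⟩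
        have hφ : Function.Injective φ := by
          intro a b hab'
          have h8 : (a : G) * (m' * (a : G) * m'⁻¹)⁻¹ = (b : G) * (m' * (b : G) * m'⁻¹)⁻¹ :=
            congrArg Subtype.val hab'
          have h9 : m' * ((b : G)⁻¹ * (a : G)) * m'⁻¹ = (b : G)⁻¹ * (a : G) := by
            have e3 : (b : G)⁻¹ * (a : G) * (m' * (a : G) * m'⁻¹)⁻¹ = (m' * (b : G) * m'⁻¹)⁻¹ := by
              rw [mul_assoc, h8, inv_mul_cancel_left]
            calc m' * ((b : G)⁻¹ * (a : G)) * m'⁻¹ = (m' * (b : G) * m'⁻¹)⁻¹ * (m' * (a : G) * m'⁻¹) := by group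
              _ = (b : G)⁻¹ * (a : G) := by rw [← e3, inv_mul_cancel_right]
          have h10 := hfpf _ (hTA.1 (mul_mem (inv_mem b.2) a.2)) h9
          exact (Subtype.ext (inv_mul_eq_one.1 h10)).symm
        obtain ⟨a, ha⟩ := (Finite.injective_iff_surjective.1 hφ) ⟨_, hx0⟩
        have ha' : (a : G) * (m' * (a : G) * m'⁻¹)⁻¹ = y⁻¹ * (m' * y * m'⁻¹) := congrArg Subtype.val ha
        have h11 : m' * (y * a) * m'⁻¹ = y * a := by
          have e1 : (a : G) = y⁻¹ * (m' * y * m'⁻¹) * (m' * (a : G) * m'⁻¹) := by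
            rw [← ha', inv_mul_cancel_right]
          calc m' * (y * a) * m'⁻¹ = y * (y⁻¹ * (m' * y * m'⁻¹) * (m' * (a : G) * m'⁻¹)) := by group
            _ = y * a := by rw [← e1]
        have h12 := hfpf _ (mul_mem hyA (hTA.1 a.2)) h11
        apply hyT
        have : y = (a : G)⁻¹ := eq_inv_of_mul_eq_one_left h12
        rw [this]; exact inv_mem a.2
      exact ⟨hT, fun g hg hgT => ⟨hinvol g (hMA' g hg) hgT, (hinv g (hMA' g hg) hgT).1⟩,
        fun g hg hgT g' hg' hgT' => htwo g (hMA' g hg) hgT g' (hMA' g' hg') hgT', hab, hsq, y, hyN, hyT⟩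
    · push Not at hsq
      right
      refine ⟨fun x hx => ?_, fun g hg => hPA ▸ hcA g hg, y, hPA ▸ hyA, hyT⟩
      by_cases hxT : x ∈ T
      · exact hsq x hxT
      · exact hinvol x (by rw [hPA]; exact hx) hxT

end H73.Pt
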