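import Mathlib
import Cfsg.Agent.Lib.H50.PSLCount
import Cfsg.Agent.Lib.H6.SLCard

/-!
# Recognition of `PGL(2,q)` inside the automorphism group of `PSL(2,q)` (H73.Prt13)
-/

set_option autoImplicit false

universe u

namespace H73.Pt

open Matrix H50.PSLBasic H50.PSLUniq H50.PSLField H50.PSLCount H50.H90

theorem pgl_of {F : Type} [Field F] [Fintype F] (hF : Odd (Fintype.card F)) {G : Type u} [Group G] [Finite G]
    (G0 : Subgroup G) [hN : G0.Normal] (hidx : G0.index = 2)
    (e : G0 ≃* ProjectiveSpecialLinearGroup (Fin 2) F)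
    (hcent : ∀ g : G, (∀ x ∈ G0, g * x * g⁻¹ = x) → g = 1)
    {u : G} (hu : u ∉ G0) (huu : u * u = 1)
    (hcomm : ∀ x ∈ G0, ∀ z ∈ G0, Odd (orderOf x) → Odd (orderOf z) → u * x * u⁻¹ = x → u * z * u⁻¹ = z →
      x * z = z * x) :
    Nonempty (G ≃* (GL (Fin 2) F ⧸ Subgroup.center (GL (Fin 2) F))) := by
  classical
  have hnt : Nontrivial (Fin 2) := inferInstance
  obtain ⟨p, hp⟩ := CharP.exists F
  have : Fact p.Prime := ⟨CharP.char_is_prime F p⟩
  have hpodd : Odd p := by
    obtain ⟨n, hp', hn⟩ := FiniteField.card F p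
    rw [hn] at hF
    exact hF.of_dvd_nat (dvd_pow_self p n.ne_zero)
  let f : G →* MulAut (ProjectiveSpecialLinearGroup (Fin 2) F) :=
    (MulAut.congr e).toMonoidHom.comp MulAut.conjNormal
  have hf : ∀ (g : G) (x : G0), f g (e x) = e (MulAut.conjNormal g x) := by
    intro g x
    change e (MulAut.conjNormal g (e.symm (e x))) = _
    rw [e.symm_apply_apply]
  have hinj : Function.Injective f := by
    rw [injective_iff_map_eq_one]
    intro g hg
    apply hcent
    intro x hx
    have h1 := hf g ⟨x, hx⟩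
    rw [hg, MulAut.one_apply] at h1
    have h2 := e.injective h1
    have h3 := congrArg Subtype.val h2
    rw [MulAut.conjNormal_apply] at h3
    exact h3.symm
  obtain ⟨a, σ, ha⟩ := H50.AutPSL2.aut_two (p := p) (f u)
  have hfu : (f u) ^ 2 = 1 := by rw [← map_pow, pow_two, huu, map_one]
  have hσ : σ = 1 := by
    by_contra hσ1
    have hσ2 : orderOf σ = 2 := by
      rw [ha, psi_pow, psi_eq_one_iff] at hfu
      exact orderOf_eq_prime hfu.1 hσ1
    obtain ⟨h, hh⟩ := field_coset hσ2 two_pos (g := a) (by rw [← ha]; exact hfu)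
    have hA1 : (!![1, 1; 0, 1] : Matrix (Fin 2) (Fin 2) F).det = 1 := by simp [Matrix.det_fin_two]
    have hA2 : (!![1, 0; 1, 1] : Matrix (Fin 2) (Fin 2) F).det = 1 := by simp [Matrix.det_fin_two]
    let A1 : SpecialLinearGroup (Fin 2) F := ⟨_, hA1⟩
    let A2 : SpecialLinearGroup (Fin 2) F := ⟨_, hA2⟩
    have hfix : ∀ A : SpecialLinearGroup (Fin 2) F, (A : Matrix (Fin 2) (Fin 2) F).map σ = A →
        f u (psi h 1 (QuotientGroup.mk A)) = psi h 1 (QuotientGroup.mk A) := by
      intro A hA
      rw [ha, hh]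
      have h1 : (psi h 1)⁻¹ (psi h 1 (QuotientGroup.mk A : ProjectiveSpecialLinearGroup (Fin 2) F)) =
          QuotientGroup.mk A := by
        rw [← MulAut.mul_apply, inv_mul_cancel, MulAut.one_apply]
      rw [MulAut.mul_apply, MulAut.mul_apply, h1, psi_mk]
      congr 2
      apply Subtype.ext
      rw [semiSL_coe, hA, Units.val_one, one_mul, inv_one, Units.val_one, mul_one]
    have hfix' : ∀ A : SpecialLinearGroup (Fin 2) F, (A : Matrix (Fin 2) (Fin 2) F).map σ = A →
        u * (e.symm (psi h 1 (QuotientGroup.mk A)) : G) * u⁻¹ = e.symm (psi h 1 (QuotientGroup.mk A)) := by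
      intro A hA
      have h1 := hf u (e.symm (psi h 1 (QuotientGroup.mk A)))
      rw [e.apply_symm_apply, hfix A hA] at h1
      have h2 := congrArg e.symm h1
      rw [e.symm_apply_apply] at h2
      have h3 := congrArg Subtype.val h2
      rw [MulAut.conjNormal_apply] at h3
      exact h3.symm
    have hodd : ∀ A : SpecialLinearGroup (Fin 2) F, A ^ p = 1 →
        Odd (orderOf (e.symm (psi h 1 (QuotientGroup.mk A)) : G)) := by
      intro A hA
      have h1 : (e.symm (psi h 1 (QuotientGroup.mk A)) : G) ^ p = 1 := by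
        rw [← Subgroup.coe_pow, ← map_pow, ← map_pow, ← QuotientGroup.mk_pow, hA, QuotientGroup.mk_one, map_one,
          map_one, Subgroup.coe_one]
      exact hpodd.of_dvd_nat (orderOf_dvd_of_pow_eq_one h1)
    have hA1p : A1 ^ p = 1 := by
      have h1 : ∀ n : ℕ, ((A1 ^ n : SpecialLinearGroup (Fin 2) F) : Matrix (Fin 2) (Fin 2) F) = !![1, (n : F); 0, 1] := by
        intro n
        induction n with
        | zero => rw [pow_zero, Matrix.SpecialLinearGroup.coe_one, Nat.cast_zero]; exact Matrix.one_fin_two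
        | succ n ih =>
          rw [pow_succ, Matrix.SpecialLinearGroup.coe_mul, ih]
          change !![1, (n : F); 0, 1] * !![1, 1; 0, 1] = _
          rw [Matrix.mul_fin_two]
          simp [add_comm]
      apply Subtype.ext
      rw [h1, CharP.cast_eq_zero]
      exact Matrix.one_fin_two.symm
    have hA2p : A2 ^ p = 1 := by
      have h1 : ∀ n : ℕ, ((A2 ^ n : SpecialLinearGroup (Fin 2) F) : Matrix (Fin 2) (Fin 2) F) = !![1, 0; (n : F), 1] := by
        intro n
        induction n with
        | zero => rw [pow_zero, Matrix.SpecialLinearGroup.coe_one, Nat.cast_zero]; exact Matrix.one_fin_two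
        | succ n ih =>
          rw [pow_succ, Matrix.SpecialLinearGroup.coe_mul, ih]
          change !![1, 0; (n : F), 1] * !![1, 0; 1, 1] = _
          rw [Matrix.mul_fin_two]
          simp
      apply Subtype.ext
      rw [h1, CharP.cast_eq_zero]
      exact Matrix.one_fin_two.symm
    have hA1m : (A1 : Matrix (Fin 2) (Fin 2) F).map σ = A1 := by
      change (!![1, 1; 0, 1] : Matrix (Fin 2) (Fin 2) F).map σ = !![1, 1; 0, 1]
      ext i j; fin_cases i <;> fin_cases j <;> simp
    have hA2m : (A2 : Matrix (Fin 2) (Fin 2) F).map σ = A2 := by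
      change (!![1, 0; 1, 1] : Matrix (Fin 2) (Fin 2) F).map σ = !![1, 0; 1, 1]
      ext i j; fin_cases i <;> fin_cases j <;> simp
    have key := hcomm _ (e.symm (psi h 1 (QuotientGroup.mk A1))).2 _ (e.symm (psi h 1 (QuotientGroup.mk A2))).2
      (hodd A1 hA1p) (hodd A2 hA2p) (hfix' A1 hA1m) (hfix' A2 hA2m)
    have key2 : (QuotientGroup.mk A1 : ProjectiveSpecialLinearGroup (Fin 2) F) * QuotientGroup.mk A2 =
        QuotientGroup.mk A2 * QuotientGroup.mk A1 := by
      have h1 : e.symm (psi h 1 (QuotientGroup.mk A1)) * e.symm (psi h 1 (QuotientGroup.mk A2)) =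
          e.symm (psi h 1 (QuotientGroup.mk A2)) * e.symm (psi h 1 (QuotientGroup.mk A1)) := Subtype.ext key
      rw [← map_mul, ← map_mul, ← map_mul, ← map_mul] at h1
      exact (psi h 1).injective (e.symm.injective h1)
    rw [← QuotientGroup.mk_mul, ← QuotientGroup.mk_mul, QuotientGroup.eq, Matrix.SpecialLinearGroup.mem_center_iff] at key2
    obtain ⟨r, -, hr⟩ := key2
    have h1 := congrFun (congrFun hr 1) 0
    have h2 : (((A1 * A2)⁻¹ * (A2 * A1) : SpecialLinearGroup (Fin 2) F) : Matrix (Fin 2) (Fin 2) F) 1 0 = 1 := by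
      rw [Matrix.SpecialLinearGroup.coe_mul, Matrix.SpecialLinearGroup.coe_inv, Matrix.SpecialLinearGroup.coe_mul,
        Matrix.SpecialLinearGroup.coe_mul]
      change ((!![1, 1; 0, 1] * !![1, 0; 1, 1] : Matrix (Fin 2) (Fin 2) F).adjugate *
        (!![1, 0; 1, 1] * !![1, 1; 0, 1] : Matrix (Fin 2) (Fin 2) F) : Matrix (Fin 2) (Fin 2) F) 1 0 = 1
      rw [Matrix.mul_fin_two, Matrix.mul_fin_two, Matrix.adjugate_fin_two_of, Matrix.mul_fin_two]
      simp
    rw [h2] at h1
    simp at h1
  -- the image lies in the inner-diagonal group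
  have hrange : ∀ g : G, f g ∈ (psiHom : GL (Fin 2) F →* _).range := by
    have h0 : ∀ g ∈ G0, f g ∈ (psiHom : GL (Fin 2) F →* _).range := by
      intro g hg
      obtain ⟨s, hs⟩ := QuotientGroup.mk_surjective (e ⟨g, hg⟩)
      refine ⟨Matrix.SpecialLinearGroup.toGL s, ?_⟩
      change psi _ _ = _
      have h1 := H50.PSLPure.conj_eq_psi s
      have h2 : f g = MulAut.conj (e ⟨g, hg⟩) := by
        ext x : 1
        obtain ⟨x, rfl⟩ := e.surjective x
        rw [hf, MulAut.conj_apply, ← map_inv, ← map_mul, ← map_mul]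
        congr 1
      rw [h2, ← hs]
      exact h1.symm
    intro g
    by_cases hg : g ∈ G0
    · exact h0 g hg
    · have h1 : g * u⁻¹ ∈ G0 := by
        rw [Subgroup.mul_mem_iff_of_index_two hidx]
        exact ⟨fun h => absurd h hg, fun h => absurd (by simpa using h) hu⟩
      have h2 : g = g * u⁻¹ * u := by group
      rw [h2, map_mul]
      refine mul_mem (h0 _ h1) ⟨a, ?_⟩
      change psi a 1 = f u
      rw [ha, hσ]
  have hker : (psiHom : GL (Fin 2) F →* _).ker = Subgroup.center (GL (Fin 2) F) := by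
    ext g
    rw [mem_center_GL_iff, MonoidHom.mem_ker]
    change psi g 1 = 1 ↔ _
    rw [psi_eq_one_iff]
    exact ⟨fun h => h.2, fun h => ⟨rfl, h⟩⟩
  let f' : G →* (psiHom : GL (Fin 2) F →* _).range := f.codRestrict _ hrange
  have hf'inj : Function.Injective f' := fun x y hxy => hinj (congrArg Subtype.val hxy)
  let E1 := QuotientGroup.quotientKerEquivRange (psiHom : GL (Fin 2) F →* MulAut (ProjectiveSpecialLinearGroup (Fin 2) F))
  let E2 := QuotientGroup.quotientMulEquivOfEq hker
  have hcard : Nat.card (psiHom : GL (Fin 2) F →* MulAut (ProjectiveSpecialLinearGroup (Fin 2) F)).range = Nat.card G := by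
    rw [← Nat.card_congr E1.toEquiv, Nat.card_congr E2.toEquiv]
    have h1 : Nat.card (GL (Fin 2) F ⧸ Subgroup.center (GL (Fin 2) F)) = Nat.card (SpecialLinearGroup (Fin 2) F) :=
      H6.SLCard.card_pgl (F := F) (ι := Fin 2)
    rw [h1, Subgroup.card_eq_card_quotient_mul_card_subgroup (Subgroup.center (SpecialLinearGroup (Fin 2) F)),
      H6.SLCard.card_center_sl, Fintype.card_fin]
    have h2 : Nat.gcd 2 (Fintype.card F - 1) = 2 := by
      apply Nat.gcd_eq_left
      obtain ⟨k, hk⟩ := hF
      exact ⟨k, by omega⟩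
    rw [h2, ← Subgroup.card_mul_index G0, hidx, Nat.card_congr e.toEquiv]
  have hbij : Function.Bijective f' := by
    have : Finite (psiHom : GL (Fin 2) F →* MulAut (ProjectiveSpecialLinearGroup (Fin 2) F)).range := by
      apply Nat.finite_of_card_ne_zero
      rw [hcard]
      exact Nat.card_pos.ne'
    exact (Nat.bijective_iff_injective_and_card f').2 ⟨hf'inj, hcard.symm⟩
  exact ⟨(MulEquiv.ofBijective f' hbij).trans (E1.symm.trans E2)⟩

end H73.Pt
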