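import Mathlib
import Cfsg.Agent.Lib.H73.Prt6
import Cfsg.Agent.Lib.H3.UniqueSub
import Cfsg.Agent.Lib.H13.SylowN

/-!
# Groups with an abelian TI subgroup inverted by an involution (H73.Prt12)
-/

set_option autoImplicit false
open Subgroup
open scoped IsMulCommutative Pointwise commutatorElement

universe u

namespace H73.Pt

variable {G : Type u} [Group G] [Finite G]

/-- no solvable normal subgroups -/
def Semi (G : Type u) [Group G] : Prop := ∀ N : Subgroup G, N.Normal → Group.IsSolvable N → N = ⊥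

theorem Semi.sub (h : Semi G) (N : Subgroup G) [hN : N.Normal] : Semi N := by
  intro S hS hsol
  by_contra hne
  have : Nontrivial S := (Subgroup.nontrivial_iff_ne_bot S).2 hne
  obtain ⟨r, hr, R, hRn, hRb, hRr⟩ := H24.ReeSolv.exists_normal_pgroup hsol
  have h1 : Cfsg.pCore r S ≠ ⊥ := fun h' => hRb (le_bot_iff.1 (h' ▸ H13.Cores.le_pCore hRn hRr))
  have h2 : Cfsg.pCore r N ≠ ⊥ := by
    intro h'
    apply h1
    have h3 := H13.Cores.map_pCore_le_of_normal (p := r) S
    rw [h', le_bot_iff, map_eq_bot_iff_of_injective _ S.subtype_injective] at h3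
    exact h3
  have h4 : (Cfsg.pCore r N).map N.subtype ≠ ⊥ := by
    intro h'
    rw [map_eq_bot_iff_of_injective _ N.subtype_injective] at h'
    exact h2 h'
  apply h4
  apply h _ inferInstance
  have h5 : IsPGroup r ((Cfsg.pCore r N).map N.subtype) := H13.Cores.isPGroup_pCore.map _
  have := h5.isNilpotent
  infer_instance

theorem Semi.odd (h : Semi G) (hft : FT.{u}) (N : Subgroup G) [hN : N.Normal] (ho : ¬ 2 ∣ Nat.card N) : N = ⊥ := by
  apply h N hN
  apply hft
  rw [← Nat.not_even_iff_odd, even_iff_two_dvd]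
  exact ho

theorem Semi.pgroup (h : Semi G) {p : ℕ} [Fact p.Prime] {N : Subgroup G} [hN : N.Normal] (hp : IsPGroup p N) :
    N = ⊥ := by
  apply h N hN
  have := hp.isNilpotent
  infer_instance

/-- a group without solvable normal subgroups is not `2`-nilpotent -/
theorem Semi.npc (h : Semi G) (hft : FT.{u}) (hn : Cfsg.HasNormalPComplement 2 G) : (⊤ : Subgroup G) = ⊥ := by
  have : Fact (Nat.Prime 2) := ⟨Nat.prime_two⟩
  obtain ⟨N, hNn, hcop, k, hk⟩ := H39.PNilp.iff_exists.1 hn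
  have h1 : N = ⊥ := h.odd hft N (fun h' => (Nat.Prime.coprime_iff_not_dvd Nat.prime_two).1 hcop.symm h')
  rw [h1, Subgroup.index_bot] at hk
  exact h.pgroup (p := 2) ((IsPGroup.of_card hk).to_subgroup ⊤)

/-- the dihedral situation -/
structure DS (T : Subgroup G) (P : Sylow 2 G) (t y : G) : Prop where
  ss : Semi G
  ft : FT.{u}
  t2 : orderOf t = 2
  tT : t ∈ T
  tP : t ∈ (P : Subgroup G)
  ab : ∀ x ∈ T, ∀ x' ∈ T, x * x' = x' * x
  yP : y ∈ (P : Subgroup G)
  yT : y ∉ T
  y2 : y * y = 1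
  yinv : ∀ x ∈ T, y * x * y⁻¹ = x⁻¹
  ti : ∀ x ∈ T, x ≠ 1 → ∀ g : G, g * x * g⁻¹ ∈ T → g ∈ T ∨ y * g ∈ T
  PD : ∀ g ∈ (P : Subgroup G), g ∈ T ∨ y * g ∈ T

variable {T : Subgroup G} {P : Sylow 2 G} {t y : G}

theorem DS.yi (h : DS T P t y) : y⁻¹ = y := inv_eq_of_mul_eq_one_right h.y2

theorem DS.tt (h : DS T P t y) : t * t = 1 := by rw [← pow_two, ← h.t2, pow_orderOf_eq_one]

theorem DS.ti' (h : DS T P t y) : t⁻¹ = t := inv_eq_of_mul_eq_one_right h.tt

theorem DS.t1 (h : DS T P t y) : t ≠ 1 := by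
  intro h'; have := h.t2; rw [h', orderOf_one] at this; exact absurd this (by norm_num)

/-- elements outside -/
theorem DS.out (h : DS T P t y) {g : G} (hg : y * g ∈ T) :
    g * g = 1 ∧ (∀ x ∈ T, g * x * g⁻¹ = x⁻¹) ∧ g ∉ T := by
  obtain ⟨s, hs, rfl⟩ : ∃ s ∈ T, g = y * s := ⟨y * g, hg, by rw [← mul_assoc, h.y2, one_mul]⟩
  have hinv : ∀ x ∈ T, (y * s) * x * (y * s)⁻¹ = x⁻¹ := by
    intro x hx
    have : (y * s) * x * (y * s)⁻¹ = y * (s * x * s⁻¹) * y⁻¹ := by group
    rw [this, h.ab s hs x hx, mul_inv_cancel_right, h.yinv x hx]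
  refine ⟨?_, hinv, ?_⟩
  · have h1 := h.yinv s hs
    rw [h.yi] at h1
    calc y * s * (y * s) = (y * s * y) * s := by group
      _ = 1 := by rw [h1, inv_mul_cancel]
  · intro h'
    exact h.yT ((Subgroup.mul_mem_cancel_right T hs).1 h')

theorem DS.out_mul (h : DS T P t y) {g g' : G} (hg : y * g ∈ T) (hg' : y * g' ∈ T) : g * g' ∈ T := by
  have h1 := h.yinv _ hg
  have h2 : g * g' = (y * (y * g) * y⁻¹) * (y * g') := by
    rw [h.yi, ← mul_assoc y y g, h.y2, one_mul]
    calc g * g' = g * (y * y) * g' := by rw [h.y2]; group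
      _ = g * y * (y * g') := by group
  rw [h2, h1]
  exact mul_mem (inv_mem hg) hg'

theorem DS.norm (h : DS T P t y) {g : G} (hg : g ∈ T ∨ y * g ∈ T) {x : G} (hx : x ∈ T) : g * x * g⁻¹ ∈ T := by
  rcases hg with hg | hg
  · exact mul_mem (mul_mem hg hx) (inv_mem hg)
  · rw [(h.out hg).2.1 x hx]; exact inv_mem hx

theorem DS.norm' (h : DS T P t y) {g : G} (hg : g ∈ T ∨ y * g ∈ T) {x : G} (hx : g * x * g⁻¹ ∈ T) : x ∈ T := by
  have h1 : g⁻¹ ∈ T ∨ y * g⁻¹ ∈ T := by
    rcases hg with hg | hg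
    · exact Or.inl (inv_mem hg)
    · right
      have : g⁻¹ = g := inv_eq_of_mul_eq_one_right (h.out hg).1
      rw [this]; exact hg
  have h2 := h.norm h1 hx
  have h3 : g⁻¹ * (g * x * g⁻¹) * g⁻¹⁻¹ = x := by group
  rwa [h3] at h2

theorem DS.comm_t (h : DS T P t y) {g : G} (hg : g ∈ T ∨ y * g ∈ T) : g * t = t * g := by
  rcases hg with hg | hg
  · exact h.ab g hg t h.tT
  · have h1 := (h.out hg).2.1 t h.tT
    rw [h.ti', mul_inv_eq_iff_eq_mul] at h1
    exact h1

theorem DS.cent (h : DS T P t y) {g : G} (hg : g * t = t * g) : g ∈ T ∨ y * g ∈ T := by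
  apply h.ti t h.tT h.t1
  rw [hg, mul_inv_cancel_right]; exact h.tT

/-- if nothing in `P \ T` is conjugate into `T` then `G' ∩ P ≤ T` -/
theorem DS.focal (h : DS T P t y) (hNF : ∀ u ∈ (P : Subgroup G), u ∉ T → ∀ g : G, g * u * g⁻¹ ∉ T) :
    _root_.commutator G ⊓ (P : Subgroup G) ≤ T := by
  have : Fact (Nat.Prime 2) := ⟨Nat.prime_two⟩
  rw [commutator_inf_eq_focalSubgroup, focalSubgroup_def, closure_le]
  rintro _ ⟨hgP, x, hx, g, rfl⟩
  have hw : g * x⁻¹ * g⁻¹ ∈ (P : Subgroup G) := by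
    have h1 : g * x⁻¹ * g⁻¹ = x⁻¹ * ⁅x, g⁆ := by rw [commutatorElement_def]; group
    rw [h1]; exact mul_mem (inv_mem hx) hgP
  have hc : ⁅x, g⁆ = x * (g * x⁻¹ * g⁻¹) := by rw [commutatorElement_def]; group
  rw [hc]
  by_cases hxT : x ∈ T
  · have hwT : g * x⁻¹ * g⁻¹ ∈ T := by
      by_contra hcon
      apply hNF _ hw hcon g⁻¹
      have : g⁻¹ * (g * x⁻¹ * g⁻¹) * g⁻¹⁻¹ = x⁻¹ := by group
      rw [this]; exact inv_mem hxT
    exact mul_mem hxT hwT
  · have hwT : g * x⁻¹ * g⁻¹ ∉ T := by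
      intro hcon
      exact hNF x⁻¹ (inv_mem hx) (fun h' => hxT (by have := inv_mem h'; rwa [inv_inv] at this)) g hcon
    exact h.out_mul ((h.PD x hx).resolve_left hxT) ((h.PD _ hw).resolve_left hwT)

/-- **some element of `P \ T` is conjugate into `T`** -/
theorem DS.fusion (h : DS T P t y) : ∃ u ∈ (P : Subgroup G), u ∉ T ∧ ∃ g : G, g * u * g⁻¹ ∈ T := by
  by_contra hcon
  push Not at hcon
  have : Fact (Nat.Prime 2) := ⟨Nat.prime_two⟩
  have hfoc := h.focal hcon
  set K := _root_.commutator G with hK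
  have hss := h.ss.sub K
  have hKb : K ≠ ⊥ := by
    intro h'
    have h1 : Group.IsSolvable (⊤ : Subgroup G) := by
      have h2 : ∀ a b : G, a * b = b * a := by
        intro a b
        have h3 : ⁅a, b⁆ ∈ K := commutator_mem_commutator (mem_top a) (mem_top b)
        rw [h', mem_bot, commutatorElement_eq_one_iff_mul_comm] at h3
        exact h3
      have : Group.IsSolvable G := by
        let _ : CommGroup G := { (inferInstance : Group G) with mul_comm := h2 }
        infer_instance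
      infer_instance
    have h2 := h.ss ⊤ inferInstance h1
    exact h.t1 (by rw [← mem_bot, ← h2]; trivial)
  obtain ⟨PK, hPK⟩ := H13.SylowN.exists_sylow_inf P K
  have hPKb : (PK : Subgroup K) ≠ ⊥ := by
    intro h'
    apply hKb
    apply h.ss.odd h.ft
    have := PK.not_dvd_index
    rwa [h', Subgroup.index_bot] at this
  obtain ⟨x, hx, hx1⟩ := (bot_or_exists_ne_one _).resolve_left hPKb
  have hxT : ∀ z ∈ (PK : Subgroup K), (z : G) ∈ T := by
    intro z hz
    rw [hPK] at hz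
    exact hfoc ⟨z.2, mem_subgroupOf.1 hz⟩
  have hNC : normalizer ((PK : Subgroup K) : Set K) ≤ centralizer ((PK : Subgroup K) : Set K) := by
    intro n hn
    have hnT : (n : G) ∈ T := by
      have h1 : n * x * n⁻¹ ∈ (PK : Subgroup K) := (mem_normalizer_iff.1 hn x).1 hx
      have h2 : (n : G) * (x : G) * (n : G)⁻¹ ∈ T := hxT _ h1
      rcases h.ti x (hxT x hx) (fun h' => hx1 (Subtype.ext h')) n h2 with h3 | h3
      · exact h3
      · -- `n` is an involution normalising `PK`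
        exfalso
        obtain ⟨hnn, -, hnT⟩ := h.out h3
        have h4 : IsPGroup 2 (zpowers n) := by
          have h5 : n ^ 2 = 1 := by rw [pow_two]; exact Subtype.ext hnn
          have h6 : orderOf n ∣ 2 ^ 1 := by rw [pow_one]; exact orderOf_dvd_of_pow_eq_one h5
          obtain ⟨j, -, hj⟩ := (Nat.dvd_prime_pow Nat.prime_two).1 h6
          exact IsPGroup.of_card (n := j) (by rw [Nat.card_zpowers, hj])
        have h5 : IsPGroup 2 ((zpowers n ⊔ (PK : Subgroup K) : Subgroup K)) :=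
          h4.to_sup_of_normal_right' PK.2 (by rw [zpowers_le]; exact hn)
        have h6 : n ∈ (PK : Subgroup K) := by
          rw [← PK.3 h5 le_sup_right]
          exact mem_sup_left (mem_zpowers n)
        exact hnT (hxT n h6)
    rw [mem_centralizer_iff]
    intro z hz
    apply Subtype.ext
    exact h.ab z (hxT z hz) n hnT
  have h1 := hss.npc h.ft (H72.TpCount.hasNormalPComplement_of_normalizer_le PK hNC)
  exact hx1 (by rw [← mem_bot, ← h1]; trivial)

/-- the unique involution of `T` -/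
theorem DS.uniq (h : DS T P t y) {v : G} (hv : v ∈ T) (hvv : v * v = 1) : v = 1 ∨ v = t := by
  obtain ⟨u, hu, huT, g, hg⟩ := h.fusion
  by_contra hcon
  push Not at hcon
  have hu' := (h.PD u hu).resolve_left huT
  obtain ⟨huu, hinv, -⟩ := h.out hu'
  have hu1 : u ≠ 1 := by rintro rfl; exact huT (one_mem _)
  have hgD : ¬ (g ∈ T ∨ y * g ∈ T) := fun h' => huT (h.norm' h' hg)
  have key : ∀ v ∈ T, v * v = 1 → v ≠ 1 → y * (g * v * g⁻¹) ∈ T := by
    intro v hv hvv hv1
    have hvi : v⁻¹ = v := inv_eq_of_mul_eq_one_right hvv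
    have huv : u * v = v * u := by
      have := hinv v hv
      rw [hvi, mul_inv_eq_iff_eq_mul] at this
      exact this
    have h1 : (g * v * g⁻¹) * (g * u * g⁻¹) * (g * v * g⁻¹)⁻¹ = g * u * g⁻¹ := by
      calc (g * v * g⁻¹) * (g * u * g⁻¹) * (g * v * g⁻¹)⁻¹ = g * (v * u) * v⁻¹ * g⁻¹ := by group
        _ = g * u * g⁻¹ := by rw [← huv]; group
    rcases h.ti _ hg (fun h' => hu1 (by
      have : u = g⁻¹ * (g * u * g⁻¹) * g := by group
      rw [this, h']; group)) (g * v * g⁻¹) (by rw [h1]; exact hg) with h2 | h2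
    · exact absurd (h.ti v hv hv1 g h2) hgD
    · exact h2
  have h1 := key v hv hvv hcon.1
  have h2 := key t h.tT h.tt h.t1
  have h3 := h.out_mul h1 h2
  have h4 : g * v * g⁻¹ * (g * t * g⁻¹) = g * (v * t) * g⁻¹ := by group
  rw [h4] at h3
  by_cases hvt : v * t = 1
  · apply hcon.2
    rw [eq_inv_of_mul_eq_one_left hvt, h.ti']
  · exact hgD (h.ti _ (mul_mem hv h.tT) hvt g h3)

theorem DS.invol (h : DS T P t y) {v : G} (hv : v ∈ T) (hv2 : orderOf v = 2) : v = t := by
  have hvv : v * v = 1 := by rw [← pow_two, ← hv2, pow_orderOf_eq_one]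
  rcases h.uniq hv hvv with h1 | h1
  · rw [h1, orderOf_one] at hv2; exact absurd hv2 (by norm_num)
  · exact h1

theorem DS.out_order (h : DS T P t y) {g : G} (hg : y * g ∈ T) : orderOf g = 2 := by
  obtain ⟨h1, -, h2⟩ := h.out hg
  exact orderOf_eq_prime (by rw [pow_two]; exact h1) (fun h' => h2 (h' ▸ one_mem _))

/-- some involution of `P` outside `T` is conjugate to `t` -/
theorem DS.fusion_t (h : DS T P t y) : ∃ u ∈ (P : Subgroup G), u ∉ T ∧ ∃ g : G, g * u * g⁻¹ = t := by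
  obtain ⟨u, hu, huT, g, hg⟩ := h.fusion
  refine ⟨u, hu, huT, g, h.invol hg ?_⟩
  rw [← h.out_order ((h.PD u hu).resolve_left huT)]
  exact (MulAut.conj g).orderOf_eq u

/-- `P ∩ T` is cyclic -/
theorem DS.cyclic (h : DS T P t y) : IsCyclic ((P : Subgroup G) ⊓ T : Subgroup G) := by
  have : Fact (Nat.Prime 2) := ⟨Nat.prime_two⟩
  have hz : zpowers (⟨t, h.tP, h.tT⟩ : ((P : Subgroup G) ⊓ T : Subgroup G)) ≤ ⊤ := le_top
  refine H3.UniqueSub.isCyclic_of_comm (p := 2) (P.2.to_le inf_le_left) ?_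
    (zpowers (⟨t, h.tP, h.tT⟩ : ((P : Subgroup G) ⊓ T : Subgroup G))) ?_ ?_
  · intro a b
    exact Subtype.ext (h.ab a a.2.2 b b.2.2)
  · rw [Nat.card_zpowers, ← Subgroup.orderOf_coe]
    exact h.t2.le
  · intro x hx
    have hxx : (x : G) * x = 1 := by
      have := congrArg Subtype.val hx
      rw [pow_two] at this
      exact this
    rcases h.uniq x.2.2 hxx with h1 | h1
    · have : x = 1 := Subtype.ext h1
      rw [this]; exact one_mem _
    · have : x = ⟨t, h.tP, h.tT⟩ := Subtype.ext h1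
      rw [this]; exact mem_zpowers _

end H73.Pt
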