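import Mathlib
import Cfsg.Agent.Lib.H73.Prt12
import Cfsg.Agent.Lib.H76.MaxClass
import Cfsg.Agent.Lib.H13.Cores
import Cfsg.Agent.S0508

/-!
# Groups with an abelian TI subgroup inverted by an involution: the simple case (H73.Prt14)
-/

set_option autoImplicit false
open Subgroup
open scoped IsMulCommutative Pointwise

universe u

namespace H73.Pt

variable {G : Type u} [Group G] [Finite G]

/-- in a cyclic group a product of two nonsquares is a square -/
theorem cyc_sq {C : Type*} [Group C] [IsCyclic C] (x z : C) :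
    (∃ b, x = b * b) ∨ (∃ b, z = b * b) ∨ (∃ b, x * z = b * b) := by
  obtain ⟨g, hg⟩ := IsCyclic.exists_generator (α := C)
  obtain ⟨i, rfl⟩ := mem_zpowers_iff.1 (hg x)
  obtain ⟨j, rfl⟩ := mem_zpowers_iff.1 (hg z)
  rcases Int.even_or_odd i with ⟨k, hk⟩ | hi
  · exact Or.inl ⟨g ^ k, by rw [hk, zpow_add]⟩
  rcases Int.even_or_odd j with ⟨k, hk⟩ | hj
  · exact Or.inr (Or.inl ⟨g ^ k, by rw [hk, zpow_add]⟩)
  obtain ⟨k, hk⟩ := hi.add_odd hj
  exact Or.inr (Or.inr ⟨g ^ k, by rw [← zpow_add, hk, zpow_add]⟩)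

theorem conj_into_sylow {p : ℕ} [Fact p.Prime] (P : Sylow p G) {v : G} (hv : v ^ p = 1) :
    ∃ g : G, g * v * g⁻¹ ∈ (P : Subgroup G) := by
  have h4 : IsPGroup p (zpowers v) := by
    have h6 : orderOf v ∣ p ^ 1 := by rw [pow_one]; exact orderOf_dvd_of_pow_eq_one hv
    obtain ⟨j, -, hj⟩ := (Nat.dvd_prime_pow Fact.out).1 h6
    exact IsPGroup.of_card (n := j) (by rw [Nat.card_zpowers, hj])
  obtain ⟨Q, hQ⟩ := h4.exists_le_sylow
  obtain ⟨g, hg⟩ := MulAction.exists_smul_eq G Q P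
  refine ⟨g, ?_⟩
  rw [← hg]
  change g * v * g⁻¹ ∈ ((g • Q : Sylow p G) : Subgroup G)
  rw [Sylow.coe_subgroup_smul, mem_smul_pointwise_iff_exists]
  exact ⟨v, hQ (mem_zpowers v), rfl⟩

variable {T : Subgroup G} {P : Sylow 2 G} {t y : G}

theorem DS.change (h : DS T P t y) {u : G} (hu : u ∈ (P : Subgroup G)) (huT : y * u ∈ T) : DS T P t u where
  ss := h.ss
  ft := h.ft
  t2 := h.t2
  tT := h.tT
  tP := h.tP
  ab := h.ab
  yP := hu
  yT := (h.out huT).2.2
  y2 := (h.out huT).1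
  yinv := (h.out huT).2.1
  ti x hx hx1 g hg := by
    rcases h.ti x hx hx1 g hg with h1 | h1
    · exact Or.inl h1
    · exact Or.inr (h.out_mul huT h1)
  PD g hg := by
    rcases h.PD g hg with h1 | h1
    · exact Or.inl h1
    · exact Or.inr (h.out_mul huT h1)

theorem DS.sub (h : DS T P t y) (N : Subgroup G) [hN : N.Normal] (ht : t ∈ N) (hy : y ∈ N) :
    ∃ PN : Sylow 2 N, (PN : Subgroup N) = (P : Subgroup G).subgroupOf N ∧
      DS (T.subgroupOf N) PN ⟨t, ht⟩ ⟨y, hy⟩ := by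
  have : Fact (Nat.Prime 2) := ⟨Nat.prime_two⟩
  obtain ⟨PN, hPN⟩ := H13.SylowN.exists_sylow_inf P N
  refine ⟨PN, hPN, ?_⟩
  exact {
    ss := h.ss.sub N
    ft := h.ft
    t2 := by rw [Subgroup.orderOf_mk]; exact h.t2
    tT := mem_subgroupOf.2 h.tT
    tP := by rw [hPN]; exact mem_subgroupOf.2 h.tP
    ab := fun x hx x' hx' => Subtype.ext (h.ab x hx x' hx')
    yP := by rw [hPN]; exact mem_subgroupOf.2 h.yP
    yT := fun h' => h.yT (mem_subgroupOf.1 h')
    y2 := Subtype.ext h.y2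
    yinv := fun x hx => Subtype.ext (h.yinv x hx)
    ti := fun x hx hx1 g hg => by
      have := h.ti x hx (fun h' => hx1 (Subtype.ext h')) g (mem_subgroupOf.1 hg)
      exact this
    PD := fun g hg => by
      rw [hPN] at hg
      exact h.PD g (mem_subgroupOf.1 hg) }

theorem DS.conj_of_sq (h : DS T P t y) {u v b : G} (hv : y * v ∈ T) (hb : b ∈ T) (he : u * v⁻¹ = b * b) :
    b * v * b⁻¹ = u := by
  have h1 := (h.out hv).2.1 b⁻¹ (inv_mem hb)
  rw [inv_inv] at h1
  calc b * v * b⁻¹ = b * (v * b⁻¹ * v⁻¹) * v := by group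
    _ = (b * b) * v := by rw [h1]
    _ = u := by rw [← he, inv_mul_cancel_right]

/-- among three elements of `P \ T` two are conjugate under `P ∩ T` -/
theorem DS.three (h : DS T P t y) {u v w : G} (hu : u ∈ (P : Subgroup G)) (huT : y * u ∈ T)
    (hv : v ∈ (P : Subgroup G)) (hvT : y * v ∈ T) (hw : w ∈ (P : Subgroup G)) (hwT : y * w ∈ T) :
    (∃ b ∈ (P : Subgroup G) ⊓ T, b * u * b⁻¹ = v) ∨ (∃ b ∈ (P : Subgroup G) ⊓ T, b * u * b⁻¹ = w) ∨
      (∃ b ∈ (P : Subgroup G) ⊓ T, b * v * b⁻¹ = w) := by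
  have hcyc := h.cyclic
  have hinv : ∀ g, y * g ∈ T → g⁻¹ = g := fun g hg => inv_eq_of_mul_eq_one_right (h.out hg).1
  have h1 : v * u⁻¹ ∈ (P : Subgroup G) ⊓ T := mem_inf.2 ⟨mul_mem hv (inv_mem hu), by rw [hinv u huT]; exact h.out_mul hvT huT⟩
  have h2 : u * w⁻¹ ∈ (P : Subgroup G) ⊓ T := mem_inf.2 ⟨mul_mem hu (inv_mem hw), by rw [hinv w hwT]; exact h.out_mul huT hwT⟩
  have flip : ∀ {a b c : G}, b * a * b⁻¹ = c → b⁻¹ * c * b⁻¹⁻¹ = a := by
    rintro a b c rfl; group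
  rcases cyc_sq (⟨_, h1⟩ : ((P : Subgroup G) ⊓ T : Subgroup G)) ⟨_, h2⟩ with ⟨b, hb⟩ | ⟨b, hb⟩ | ⟨b, hb⟩
  · exact Or.inl ⟨b, b.2, h.conj_of_sq huT b.2.2 (congrArg Subtype.val hb)⟩
  · right; left
    exact ⟨b⁻¹, inv_mem b.2, flip (h.conj_of_sq hwT b.2.2 (congrArg Subtype.val hb))⟩
  · right; right
    have h3 : v * w⁻¹ = b * b := by
      have := congrArg Subtype.val hb
      rw [← Subgroup.coe_mul, ← this]
      change v * w⁻¹ = v * u⁻¹ * (u * w⁻¹)
      group
    exact ⟨b⁻¹, inv_mem b.2, flip (h.conj_of_sq hwT b.2.2 h3)⟩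

theorem exists_invol_of_even (h : Semi G) (hft : FT.{u}) (N : Subgroup G) [N.Normal] (hN : N ≠ ⊥) :
    ∃ v ∈ N, orderOf v = 2 := by
  have : Fact (Nat.Prime 2) := ⟨Nat.prime_two⟩
  have h1 : 2 ∣ Nat.card N := by
    by_contra h'; exact hN (h.odd hft N h')
  obtain ⟨v, hv⟩ := exists_prime_orderOf_dvd_card' 2 h1
  exact ⟨v, v.2, by rw [Subgroup.orderOf_coe]; exact hv⟩

/-- if all involutions are conjugate then the group is simple -/
theorem DS.simple (h : DS T P t y) (hall : ∀ v : G, orderOf v = 2 → ∃ g : G, g * v * g⁻¹ = t) :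
    IsSimpleGroup G := by
  have : Fact (Nat.Prime 2) := ⟨Nat.prime_two⟩
  set N0 := normalClosure ({t} : Set G) with hN0
  have htN : t ∈ N0 := subset_normalClosure rfl
  have hinvN : ∀ v : G, orderOf v = 2 → v ∈ N0 := by
    intro v hv
    obtain ⟨g, hg⟩ := hall v hv
    have h1 : v = g⁻¹ * t * g⁻¹⁻¹ := by rw [← hg]; group
    rw [h1]
    exact normalClosure_normal.conj_mem t htN g⁻¹
  have hy2 : orderOf y = 2 := h.out_order (by rw [h.y2]; exact one_mem _)
  have hyN : y ∈ N0 := hinvN y hy2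
  have hDN : ∀ g : G, g ∈ T ∨ y * g ∈ T → g ∈ N0 := by
    rintro g (hg | hg)
    · have h1 : orderOf (y * g) = 2 := h.out_order (by rw [← mul_assoc, h.y2, one_mul]; exact hg)
      exact (Subgroup.mul_mem_cancel_left N0 hyN).1 (hinvN _ h1)
    · exact hinvN g (h.out_order hg)
  have hcN : ∀ g : G, g * t = t * g → g ∈ N0 := fun g hg => hDN g (h.cent hg)
  have htop : N0 = ⊤ := by
    by_contra hne
    obtain ⟨g, hg⟩ : ∃ g, g ∉ N0 := by
      by_contra hcon
      push Not at hcon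
      exact hne (eq_top_iff.2 fun g _ => hcon g)
    obtain ⟨PN, hPN, hD⟩ := h.sub N0 htN hyN
    obtain ⟨u, hu, huT, n, hn⟩ := hD.fusion_t
    have hPN0 : (P : Subgroup G) ≤ N0 := fun x hx => hDN x (h.PD x hx)
    have hodd : ¬ 2 ∣ N0.index := fun h' => P.not_dvd_index (h'.trans (Subgroup.index_dvd_of_le hPN0))
    have hgg : g * g ∉ N0 := by
      intro hgg
      have h1 : ((g : G) : G ⧸ N0) ^ 2 = 1 := by
        rw [← QuotientGroup.mk_pow, QuotientGroup.eq_one_iff, pow_two]; exact hgg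
      have h2 : orderOf ((g : G) : G ⧸ N0) = 2 :=
        orderOf_eq_prime h1 (fun h' => hg ((QuotientGroup.eq_one_iff g).1 h'))
      apply hodd
      rw [← h2]
      exact orderOf_dvd_natCard _
    rw [hPN] at hu
    have huP : (u : G) ∈ (P : Subgroup G) := mem_subgroupOf.1 hu
    have huT' : y * (u : G) ∈ T := (h.PD _ huP).resolve_left (fun h' => huT (mem_subgroupOf.2 h'))
    have hn' : (n : G) * u * (n : G)⁻¹ = t := congrArg Subtype.val hn
    have key : ∀ g : G, g ∉ N0 → ∃ n ∈ N0, n * (g * t * g⁻¹) * n⁻¹ ∈ (P : Subgroup G) ∧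
        y * (n * (g * t * g⁻¹) * n⁻¹) ∈ T := by
      intro g hg
      have h1 : g * t * g⁻¹ ∈ N0 := normalClosure_normal.conj_mem t htN g
      have h2 : (⟨_, h1⟩ : N0) ^ 2 = 1 := by
        apply Subtype.ext
        change (g * t * g⁻¹) ^ 2 = 1
        rw [pow_two]
        calc g * t * g⁻¹ * (g * t * g⁻¹) = g * (t * t) * g⁻¹ := by group
          _ = 1 := by rw [h.tt]; group
      obtain ⟨n, hn⟩ := conj_into_sylow PN h2
      rw [hPN] at hn
      have h3 : (n : G) * (g * t * g⁻¹) * (n : G)⁻¹ ∈ (P : Subgroup G) := mem_subgroupOf.1 hn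
      refine ⟨n, n.2, h3, (h.PD _ h3).resolve_left ?_⟩
      intro h4
      have h5 : (n : G) * (g * t * g⁻¹) * (n : G)⁻¹ = t := by
        apply h.invol h4
        have h6 : (n : G) * (g * t * g⁻¹) * (n : G)⁻¹ = MulAut.conj ((n : G) * g) t := by
          rw [MulAut.conj_apply]; group
        rw [h6, MulEquiv.orderOf_eq, h.t2]
      have h6 : (n : G) * g ∈ N0 := by
        apply hcN
        rw [← mul_inv_eq_iff_eq_mul]
        rw [← h5] 
        conv_rhs => rw [← h5]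
        group
      exact hg ((Subgroup.mul_mem_cancel_left N0 n.2).1 h6)
    obtain ⟨n1, hn1, hP1, hT1⟩ := key g hg
    obtain ⟨n2, hn2, hP2, hT2⟩ := key (g * g) hgg
    have hcase : ∀ (g n' b : G), n' ∈ N0 → b ∈ (P : Subgroup G) ⊓ T →
        b * (u : G) * b⁻¹ = n' * (g * t * g⁻¹) * n'⁻¹ → g ∈ N0 := by
      intro g n' b hn' hb he
      have h1 : ((n : G) * b⁻¹ * n' * g) ∈ N0 := by
        apply hcN
        have h2 : ((n : G) * b⁻¹ * n' * g) * t * ((n : G) * b⁻¹ * n' * g)⁻¹ = t := by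
          have h3 : ((n : G) * b⁻¹ * n' * g) * t * ((n : G) * b⁻¹ * n' * g)⁻¹ =
              (n : G) * b⁻¹ * (n' * (g * t * g⁻¹) * n'⁻¹) * b * (n : G)⁻¹ := by group
          rw [h3, ← he]
          calc (n : G) * b⁻¹ * (b * (u : G) * b⁻¹) * b * (n : G)⁻¹ = (n : G) * u * (n : G)⁻¹ := by group
            _ = t := by assumption
        exact mul_inv_eq_iff_eq_mul.1 h2
      have hbN : b ∈ N0 := hPN0 hb.1
      exact (Subgroup.mul_mem_cancel_left N0 (mul_mem (mul_mem n.2 (inv_mem hbN)) hn')).1 h1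
    rcases h.three huP huT' hP1 hT1 hP2 hT2 with ⟨b, hb, he⟩ | ⟨b, hb, he⟩ | ⟨b, hb, he⟩
    · exact hg (hcase g n1 b hn1 hb he)
    · exact hgg (hcase (g * g) n2 b hn2 hb he)
    · have hbN : b ∈ N0 := hPN0 hb.1
      have h1 : (g * g)⁻¹ * (n2⁻¹ * b * n1) * g ∈ N0 := by
        apply hcN
        have h2 : ((g * g)⁻¹ * (n2⁻¹ * b * n1) * g) * t * ((g * g)⁻¹ * (n2⁻¹ * b * n1) * g)⁻¹ = t := by
          have h3 : ((g * g)⁻¹ * (n2⁻¹ * b * n1) * g) * t * ((g * g)⁻¹ * (n2⁻¹ * b * n1) * g)⁻¹ =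
              (g * g)⁻¹ * n2⁻¹ * (b * (n1 * (g * t * g⁻¹) * n1⁻¹) * b⁻¹) * n2 * (g * g) := by
            generalize g * g = k
            group
          rw [h3, he]
          group
        exact mul_inv_eq_iff_eq_mul.1 h2
      have h2 : (g * g)⁻¹ * (n2⁻¹ * b * n1) * g = g⁻¹ * (g⁻¹ * (n2⁻¹ * b * n1) * g⁻¹⁻¹) := by group
      rw [h2] at h1
      have h3 : g⁻¹ * (n2⁻¹ * b * n1) * g⁻¹⁻¹ ∈ N0 :=
        normalClosure_normal.conj_mem _ (mul_mem (mul_mem (inv_mem hn2) hbN) hn1) g⁻¹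
      have h4 := (Subgroup.mul_mem_cancel_right N0 h3).1 h1
      exact hg (by have := inv_mem h4; rwa [inv_inv] at this)
  refine { exists_pair_ne := ⟨t, 1, h.t1⟩, eq_bot_or_eq_top_of_normal := ?_ }
  intro N hN
  by_cases hNb : N = ⊥
  · exact Or.inl hNb
  · right
    obtain ⟨v, hv, hv2⟩ := exists_invol_of_even h.ss h.ft N hNb
    obtain ⟨g, hg⟩ := hall v hv2
    have h1 : t ∈ N := by rw [← hg]; exact hN.conj_mem v hv g
    rw [eq_top_iff, ← htop]
    exact normalClosure_le_normal (by simpa using h1)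

/-- the simple case: `PSL(2,q)` -/
theorem DS.psl (h : DS T P t y) (hall : ∀ v : G, orderOf v = 2 → ∃ g : G, g * v * g⁻¹ = t) :
    ∃ (F : Type) (_ : Field F) (_ : Fintype F), Odd (Fintype.card F) ∧
      Nonempty (G ≃* Matrix.ProjectiveSpecialLinearGroup (Fin 2) F) := by
  have : Fact (Nat.Prime 2) := ⟨Nat.prime_two⟩
  have hsimple := h.simple hall
  have hcyc := h.cyclic
  obtain ⟨g, hg⟩ := IsCyclic.exists_generator (α := ((P : Subgroup G) ⊓ T : Subgroup G))
  let a : (P : Subgroup G) := ⟨g, g.2.1⟩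
  have hza : zpowers a = T.subgroupOf P := by
    ext x
    rw [mem_subgroupOf]
    constructor
    · intro hx
      obtain ⟨k, rfl⟩ := mem_zpowers_iff.1 hx
      rw [Subgroup.coe_zpow]
      exact zpow_mem (mem_inf.1 g.2).2 k
    · intro hx
      obtain ⟨k, hk⟩ := mem_zpowers_iff.1 (hg ⟨x, mem_inf.2 ⟨x.2, hx⟩⟩)
      refine mem_zpowers_iff.2 ⟨k, ?_⟩
      apply Subtype.ext
      rw [Subgroup.coe_zpow]
      have := congrArg Subtype.val hk
      rw [Subgroup.coe_zpow] at this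
      exact this
  have hidx : (zpowers a).index = 2 := by
    rw [Subgroup.index_eq_two_iff]
    refine ⟨⟨y, h.yP⟩, ?_⟩
    intro b
    rw [hza, mem_subgroupOf, mem_subgroupOf, Subgroup.coe_mul]
    change Xor ((b : G) * y ∈ T) ((b : G) ∈ T)
    by_cases hb : (b : G) ∈ T
    · right
      exact ⟨hb, fun h' => h.yT ((Subgroup.mul_mem_cancel_left T hb).1 h')⟩
    · left
      refine ⟨?_, hb⟩
      exact h.out_mul ((h.PD _ b.2).resolve_left hb) (by rw [h.y2]; exact one_mem _)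
  have hta : (⟨t, h.tP⟩ : (P : Subgroup G)) ∈ zpowers a := by rw [hza]; exact mem_subgroupOf.2 h.tT
  have hn : 2 ≤ orderOf a := by
    by_contra hcon
    have h1 : orderOf a = 1 := by
      have := orderOf_pos a
      omega
    rw [orderOf_eq_one_iff] at h1
    rw [h1, zpowers_one_eq_bot, mem_bot] at hta
    exact h.t1 (congrArg Subtype.val hta)
  have : NeZero (orderOf a) := ⟨(orderOf_pos a).ne'⟩
  have hdih : Nonempty ((P : Subgroup G) ≃* DihedralGroup (orderOf a)) := by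
    refine H76.MaxClass.dihedral_of a (⟨y, h.yP⟩ : (P : Subgroup G)) rfl ?_ ?_ ?_ hidx
    · exact Subtype.ext (h.yinv _ g.2.2)
    · rw [pow_two]; exact Subtype.ext h.y2
    · rw [hza]; exact fun h' => h.yT (mem_subgroupOf.1 h')
  have hcent : ∀ x : G, x ∈ centralizer ({t} : Set G) → x ∈ T ∨ y * x ∈ T := by
    intro x hx
    rw [mem_centralizer_singleton_iff] at hx
    exact h.cent hx
  set O := (Cfsg.oddCore (Subgroup.centralizer ({t} : Set G))).map (Subgroup.centralizer ({t} : Set G)).subtype with hO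
  have hodd : (Nat.card O).Coprime 2 := by
    rw [hO, card_map_of_injective (Subgroup.subtype_injective _)]
    exact H13.Cores.coprime_card_pPrimeCore
  have hOodd : ∀ x ∈ O, ¬ 2 ∣ orderOf x := by
    intro x hx h2
    have h3 : orderOf x ∣ Nat.card O := by
      have := orderOf_dvd_natCard (⟨x, hx⟩ : O)
      rwa [Subgroup.orderOf_mk] at this
    have h4 : 2 ∣ Nat.gcd (Nat.card O) 2 := Nat.dvd_gcd (h2.trans h3) dvd_rfl
    rw [Nat.coprime_iff_gcd_eq_one.1 hodd] at h4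
    omega
  have hOT : O ≤ T := by
    intro x hx
    obtain ⟨x', hx', rfl⟩ := hx
    rcases hcent _ x'.2 with h1 | h1
    · exact h1
    · exfalso
      apply hOodd _ ⟨x', hx', rfl⟩
      rw [show ((centralizer ({t} : Set G)).subtype x') = (x' : G) from rfl, h.out_order h1]
  have hinvO : ∀ x ∈ O, x⁻¹ = x → x = 1 := by
    intro x hx hxi
    by_contra hx1
    have hxx : x ^ 2 = 1 := by
      rw [pow_two]
      nth_rewrite 1 [← hxi]
      exact inv_mul_cancel x
    apply hOodd x hx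
    rw [orderOf_eq_prime hxx hx1]
  have hPO : O ≠ ⊥ → ∀ s ∈ (P : Subgroup G), s ∈ centralizer (O : Set G) → s ∈ T := by
    intro hOb s hs hsC
    by_contra hsT
    obtain ⟨x, hx, hx1⟩ := (bot_or_exists_ne_one O).resolve_left hOb
    have h1 := (h.out ((h.PD s hs).resolve_left hsT)).2.1 x (hOT hx)
    have h2 := (mem_centralizer_iff.1 hsC) x hx
    rw [← h2, mul_inv_cancel_right] at h1
    exact hx1 (hinvO x hx h1.symm)
  have hTC : T ≤ centralizer (O : Set G) := by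
    intro s hs
    rw [mem_centralizer_iff]
    intro x hx
    exact h.ab x (hOT hx) s hs
  refine Cfsg.Agent.S0508.result P (orderOf a) hn hdih t h.t2 h.tP (fun s hs => h.comm_t (h.PD s hs)) O hO ?_ ?_ ?_
  · intro hOb
    have h1 : (P : Subgroup G) ⊓ centralizer (O : Set G) = (P : Subgroup G) ⊓ T := by
      apply le_antisymm
      · intro s hs
        exact mem_inf.2 ⟨hs.1, hPO hOb s hs.1 hs.2⟩
      · exact inf_le_inf_left _ hTC
    rw [h1]
    refine ⟨hcyc, ?_⟩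
    have h2 : ((P : Subgroup G) ⊓ T).relIndex (P : Subgroup G) = T.relIndex P := by
      rw [inf_comm]; exact inf_relIndex_right _ _
    rw [h2, Subgroup.relIndex, ← hza]
    exact hidx
  · intro s hs hsC x hx
    have hsT : s ∉ T := fun h' => hsC (hTC h')
    exact (h.out ((h.PD s hs).resolve_left hsT)).2.1 x (hOT hx)
  · intro Y hYO hYb g hg
    obtain ⟨x, hx, hx1⟩ := (bot_or_exists_ne_one Y).resolve_left hYb
    have h1 : g * x * g⁻¹ ∈ Y := (mem_normalizer_iff.1 hg x).1 hx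
    rw [mem_centralizer_singleton_iff]
    exact h.comm_t (h.ti x (hOT (hYO hx)) hx1 g (hOT (hYO h1)))

end H73.Pt
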