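import Mathlib
import Cfsg.Agent.Lib.H73.Prt13
import Cfsg.Agent.Lib.H73.Prt14
import Cfsg.Agent.Lib.H3.ThompsonTransfer
import Cfsg.Agent.Lib.H4.Burnside

/-!
# Groups with an abelian TI subgroup inverted by an involution: conclusion (H73.Prt15)
-/

set_option autoImplicit false
open Subgroup
open scoped IsMulCommutative Pointwise

universe u

namespace H73.Pt

theorem card_ge_five {F : Type} [Field F] [Fintype F] (hF : Odd (Fintype.card F))
    (hsol : ¬ Group.IsSolvable (Matrix.ProjectiveSpecialLinearGroup (Fin 2) F)) : 5 ≤ Fintype.card F := by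
  by_contra hcon
  have h1 : 1 < Fintype.card F := Fintype.one_lt_card
  have h3 : Fintype.card F = 3 := by
    obtain ⟨k, hk⟩ := hF
    omega
  have h4 := H6.SLCard.card_psl (F := F) (n := 2) (by norm_num)
  rw [h3] at h4
  have h5 : Nat.card (Matrix.ProjectiveSpecialLinearGroup (Fin 2) F) = 12 := by
    simp [Fin.prod_univ_two] at h4
    omega
  exact hsol (H4.Burnside.isSolvable_of_card_eq 2 3 Nat.prime_two Nat.prime_three _ _ h5 ⟨2, 1, by norm_num⟩)

theorem Semi.not_solvable {G : Type u} [Group G] (h : Semi G) {g : G} (hg : g ≠ 1) : ¬ Group.IsSolvable G := by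
  intro hs
  have h1 := h ⊤ inferInstance inferInstance
  exact hg (by rw [← mem_bot, ← h1]; trivial)

variable {G : Type u} [Group G] [Finite G] {T : Subgroup G} {P : Sylow 2 G} {t y : G}

/-- the squares of `P ∩ T` -/
def Sq (h : DS T P t y) : Subgroup G where
  carrier := {x | ∃ b ∈ (P : Subgroup G) ⊓ T, x = b * b}
  one_mem' := ⟨1, one_mem _, by group⟩
  mul_mem' := by
    rintro _ _ ⟨b, hb, rfl⟩ ⟨d, hd, rfl⟩
    refine ⟨b * d, mul_mem hb hd, ?_⟩
    have := h.ab b hb.2 d hd.2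
    calc b * b * (d * d) = b * (b * d) * d := by group
      _ = b * (d * b) * d := by rw [this]
      _ = b * d * (b * d) := by group
  inv_mem' := by
    rintro _ ⟨b, hb, rfl⟩
    exact ⟨b⁻¹, inv_mem hb, by group⟩

theorem mem_Sq (h : DS T P t y) {x : G} : x ∈ Sq h ↔ ∃ b ∈ (P : Subgroup G) ⊓ T, x = b * b := Iff.rfl

theorem Sq_le (h : DS T P t y) : Sq h ≤ (P : Subgroup G) ⊓ T := by
  rintro _ ⟨b, hb, rfl⟩
  exact mul_mem hb hb

/-- the subgroup of index two of `P` containing `y` and the squares of `P ∩ T` -/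
def P0 (h : DS T P t y) : Subgroup G where
  carrier := {x | x ∈ Sq h ∨ x * y ∈ Sq h}
  one_mem' := Or.inl (one_mem _)
  mul_mem' := by
    rintro a b (ha | ha) (hb | hb)
    · exact Or.inl (mul_mem ha hb)
    · right
      rw [mul_assoc]; exact mul_mem ha hb
    · right
      have h1 := h.yinv b ((Sq_le h hb).2)
      have h2 : a * b * y = (a * y) * (y⁻¹ * b * y) := by group
      have h3 : y⁻¹ * b * y = b⁻¹ := by
        have h4 := h.yinv b ((Sq_le h hb).2)
        rw [h.yi] at h4 ⊢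
        exact h4
      rw [h2, h3]
      exact mul_mem ha (inv_mem hb)
    · left
      have h1 : a * b = (a * y) * (y * (b * y) * y⁻¹) := by
        have : y * y = 1 := h.y2
        calc a * b = a * (y * y) * b := by rw [this]; group
          _ = _ := by group
      rw [h1, h.yinv _ ((Sq_le h hb).2)]
      exact mul_mem ha (inv_mem hb)
  inv_mem' := by
    rintro a (ha | ha)
    · exact Or.inl (inv_mem ha)
    · right
      have h1 : y * a ∈ T := by
        have h2 : y * a = y * (a * y) * y⁻¹ := by group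
        rw [h2, h.yinv _ ((Sq_le h ha).2)]
        exact inv_mem (Sq_le h ha).2
      have h2 : a⁻¹ = a := inv_eq_of_mul_eq_one_right (h.out h1).1
      rw [h2]; exact ha

theorem mem_P0 (h : DS T P t y) {x : G} : x ∈ P0 h ↔ x ∈ Sq h ∨ x * y ∈ Sq h := Iff.rfl

theorem P0_le (h : DS T P t y) : P0 h ≤ P := by
  rintro x (hx | hx)
  · exact (Sq_le h hx).1
  · exact (Subgroup.mul_mem_cancel_right _ h.yP).1 (Sq_le h hx).1

theorem DS.xor_sq (h : DS T P t y) {d : G} (hd : d ∈ (P : Subgroup G) ⊓ T) (hdS : d ∉ Sq h) {c : G}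
    (hc : c ∈ (P : Subgroup G) ⊓ T) : Xor (c * d ∈ Sq h) (c ∈ Sq h) := by
  by_cases hcS : c ∈ Sq h
  · right
    exact ⟨hcS, fun h' => hdS ((Subgroup.mul_mem_cancel_left _ hcS).1 h')⟩
  · left
    refine ⟨?_, hcS⟩
    have hcyc := h.cyclic
    rcases cyc_sq (⟨c, hc⟩ : ((P : Subgroup G) ⊓ T : Subgroup G)) ⟨d, hd⟩ with ⟨b, hb⟩ | ⟨b, hb⟩ | ⟨b, hb⟩
    · exact absurd ⟨b, b.2, congrArg Subtype.val hb⟩ hcS
    · exact absurd ⟨b, b.2, congrArg Subtype.val hb⟩ hdS
    · exact ⟨b, b.2, congrArg Subtype.val hb⟩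

/-- **the case of two classes of involutions**: `PGL(2,q)` -/
theorem DS.pgl (h : DS T P t y) (hy : ∃ g : G, g * y * g⁻¹ = t) {u : G} (hu : u ∈ (P : Subgroup G))
    (huT : y * u ∈ T) (hnc : ∀ g : G, g * u * g⁻¹ ≠ t)
    (hcc : ∀ x z : G, Odd (orderOf x) → Odd (orderOf z) → u * x * u⁻¹ = x → u * z * u⁻¹ = z → x * z = z * x) :
    ∃ (F : Type) (_ : Field F) (_ : Fintype F), 5 ≤ Fintype.card F ∧ Odd (Fintype.card F) ∧
        Nonempty (G ≃* (GL (Fin 2) F ⧸ Subgroup.center (GL (Fin 2) F))) := by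
  have : Fact (Nat.Prime 2) := ⟨Nat.prime_two⟩
  obtain ⟨k0, hk0⟩ := hy
  have huu : u * u = 1 := (h.out huT).1
  have huinv : u⁻¹ = u := inv_eq_of_mul_eq_one_right huu
  have hyy : y * y ∈ T := by rw [h.y2]; exact one_mem _
  -- the difference of `u` and `y`
  set d := u * y with hd
  have hdC : d ∈ (P : Subgroup G) ⊓ T := mem_inf.2 ⟨mul_mem hu h.yP, h.out_mul huT hyy⟩
  have hncy : ∀ g : G, g * y * g⁻¹ ≠ u := by
    intro g hg
    apply hnc (k0 * g⁻¹)
    rw [← hg, ← hk0]; group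
  have hdS : d ∉ Sq h := by
    rintro ⟨b, hb, he⟩
    apply hncy b
    apply h.conj_of_sq hyy hb.2
    rw [h.yi]; exact he
  -- an index two subgroup
  have hQi : (P0 h).relIndex (P : Subgroup G) = 2 := by
    rw [Subgroup.relIndex, Subgroup.index_eq_two_iff]
    refine ⟨⟨u, hu⟩, ?_⟩
    intro b
    rw [mem_subgroupOf, mem_subgroupOf, Subgroup.coe_mul]
    change Xor ((b : G) * u ∈ P0 h) ((b : G) ∈ P0 h)
    rw [mem_P0, mem_P0]
    by_cases hb : (b : G) ∈ T
    · have h1 : (b : G) * u ∉ Sq h := by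
        intro h'
        exact (h.out huT).2.2 ((Subgroup.mul_mem_cancel_left T hb).1 (Sq_le h h').2)
      have h2 : (b : G) * y ∉ Sq h := by
        intro h'
        exact h.yT ((Subgroup.mul_mem_cancel_left T hb).1 (Sq_le h h').2)
      have h3 := h.xor_sq hdC hdS (mem_inf.2 ⟨b.2, hb⟩)
      rw [hd, ← mul_assoc] at h3
      simpa [h1, h2] using h3
    · have hbT := (h.PD _ b.2).resolve_left hb
      have h1 : (b : G) ∉ Sq h := fun h' => hb (Sq_le h h').2
      have h2 : (b : G) * u * y ∉ Sq h := by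
        intro h'
        have h3 : (b : G) * u ∈ T := h.out_mul hbT huT
        exact h.yT ((Subgroup.mul_mem_cancel_left T h3).1 (Sq_le h h').2)
      have h3 : (b : G) * y ∈ (P : Subgroup G) ⊓ T := mem_inf.2 ⟨mul_mem b.2 h.yP, h.out_mul hbT hyy⟩
      have hdi : d⁻¹ ∉ Sq h := fun h' => hdS (by have := inv_mem h'; rwa [inv_inv] at this)
      have h4 := h.xor_sq (inv_mem hdC) hdi h3
      have h5 : (b : G) * y * d⁻¹ = (b : G) * u := by
        rw [hd, mul_inv_rev, huinv]; group
      rw [h5] at h4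
      simpa [h1, h2] using h4
  have hPodd : Odd (P : Subgroup G).index := by
    rw [← Nat.not_even_iff_odd, even_iff_two_dvd]
    exact P.not_dvd_index
  have hu2 : orderOf u = 2 := h.out_order huT
  obtain ⟨G0, hG0n, hG0i, huG0⟩ := H3.ThompsonTransfer.exists_index_two (P : Subgroup G) (P0 h) (P0_le h) hPodd hQi u
    (by rw [pow_two]; exact huu) (by
      rintro g (hg | hg)
      · apply hnc g
        apply h.invol (Sq_le h hg).2
        rw [← hu2]
        exact (MulAut.conj g).orderOf_eq u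
      · obtain ⟨b, hb, he⟩ := hg
        have h1 : b * y * b⁻¹ = g * u * g⁻¹ := h.conj_of_sq hyy hb.2 (by rw [h.yi]; exact he)
        apply hncy (g⁻¹ * b)
        calc g⁻¹ * b * y * (g⁻¹ * b)⁻¹ = g⁻¹ * (b * y * b⁻¹) * g := by group
          _ = u := by rw [h1]; group)
  -- `t` is a power of `d`
  have htd : t ∈ zpowers d := by
    have hd1 : d ≠ 1 := by
      intro h'
      exact hdS (h' ▸ one_mem _)
    obtain ⟨j, hj⟩ := (IsPGroup.iff_orderOf.1 P.2) ⟨d, hdC.1⟩
    rw [Subgroup.orderOf_mk] at hj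
    have hj0 : j ≠ 0 := by
      rintro rfl
      exact hd1 (orderOf_eq_one_iff.1 (by simpa using hj))
    have h1 : orderOf (d ^ (2 ^ (j - 1))) = 2 := by
      rw [orderOf_pow' _ (by positivity), hj]
      have h2 : 2 ^ j = 2 * 2 ^ (j - 1) := by
        rw [← pow_succ']; congr 1; omega
      rw [h2, Nat.gcd_eq_right (Dvd.intro_left _ rfl), Nat.mul_div_cancel _ (by positivity)]
    rw [← h.invol (pow_mem hdC.2 _) h1]
    exact pow_mem (mem_zpowers d) _
  have hkey : t ∈ G0 ↔ y ∈ G0 := by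
    rw [← hk0]
    constructor
    · intro h'
      have := hG0n.conj_mem _ h' k0⁻¹
      have h2 : k0⁻¹ * (k0 * y * k0⁻¹) * k0⁻¹⁻¹ = y := by group
      rwa [h2] at this
    · intro h'
      exact hG0n.conj_mem _ h' k0
  have hdG0 : d ∉ G0 := by
    intro h'
    have h1 : t ∈ G0 := (zpowers_le.2 h') htd
    exact huG0 ((Subgroup.mul_mem_cancel_right G0 (hkey.1 h1)).1 h')
  have hyG0 : y ∈ G0 := by
    by_contra h'
    apply hdG0
    rw [hd, Subgroup.mul_mem_iff_of_index_two hG0i]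
    exact ⟨fun h1 => absurd h1 huG0, fun h1 => absurd h1 h'⟩
  have htG0 : t ∈ G0 := hkey.2 hyG0
  obtain ⟨P', hP', hD⟩ := h.sub G0 htG0 hyG0
  have hall : ∀ v : G0, orderOf v = 2 → ∃ g : G0, g * v * g⁻¹ = ⟨t, htG0⟩ := by
    intro v hv
    have hv2 : orderOf (v : G) = 2 := by rw [Subgroup.orderOf_coe]; exact hv
    obtain ⟨g, hg⟩ := conj_into_sylow P (v := (v : G)) (by rw [← hv2]; exact pow_orderOf_eq_one _)
    have hgv : g * (v : G) * g⁻¹ ∈ G0 := hG0n.conj_mem _ v.2 g
    have hgv2 : orderOf (g * (v : G) * g⁻¹) = 2 := by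
      rw [← hv2]; exact (MulAut.conj g).orderOf_eq _
    have h1 : ∃ g : G, g * (v : G) * g⁻¹ = t := by
      rcases h.PD _ hg with h1 | h1
      · exact ⟨g, h.invol h1 hgv2⟩
      · rcases h.three h.yP hyy hu huT hg h1 with ⟨b, hb, he⟩ | ⟨b, hb, he⟩ | ⟨b, hb, he⟩
        · exact absurd he (hncy b)
        · refine ⟨k0 * b⁻¹ * g, ?_⟩
          calc k0 * b⁻¹ * g * (v : G) * (k0 * b⁻¹ * g)⁻¹ = k0 * (b⁻¹ * (g * (v : G) * g⁻¹) * b) * k0⁻¹ := by group
            _ = k0 * y * k0⁻¹ := by rw [← he]; group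
            _ = t := hk0
        · exfalso
          apply huG0
          rw [← he] at hgv
          have := hG0n.conj_mem _ hgv b⁻¹
          have h2 : b⁻¹ * (b * u * b⁻¹) * b⁻¹⁻¹ = u := by group
          rwa [h2] at this
    obtain ⟨g, hg⟩ := h1
    by_cases hgG : g ∈ G0
    · exact ⟨⟨g, hgG⟩, Subtype.ext hg⟩
    · have h2 : d * g ∈ G0 := by
        rw [Subgroup.mul_mem_iff_of_index_two hG0i]
        exact ⟨fun h1 => absurd h1 hdG0, fun h1 => absurd h1 hgG⟩
      refine ⟨⟨_, h2⟩, Subtype.ext ?_⟩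
      change d * g * (v : G) * (d * g)⁻¹ = t
      calc d * g * (v : G) * (d * g)⁻¹ = d * (g * v * g⁻¹) * d⁻¹ := by group
        _ = t := by rw [hg, h.ab d hdC.2 t h.tT, mul_inv_cancel_right]
  obtain ⟨F, fF, ftF, hFodd, ⟨e⟩⟩ := hD.psl hall
  have hF5 : 5 ≤ Fintype.card F := by
    apply card_ge_five hFodd
    intro hs
    have : Group.IsSolvable G0 := Group.isSolvable_of_isSolvable_injective (f := e.toMonoidHom) e.injective
    exact hD.ss.not_solvable hD.t1 this
  refine ⟨F, fF, ftF, hF5, hFodd, ?_⟩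
  refine pgl_of hFodd G0 hG0i e ?_ huG0 huu (fun x _ z _ => hcc x z)
  -- the centralizer of `G0` is trivial
  set K := centralizer (G0 : Set G) with hK
  have hKG : ∀ a ∈ K, a ∈ G0 → a = 1 := by
    have hb : K ⊓ G0 = ⊥ := by
      have : Group.IsSolvable (K ⊓ G0 : Subgroup G) := by
        let _ : CommGroup (K ⊓ G0 : Subgroup G) :=
          { (inferInstance : Group (K ⊓ G0 : Subgroup G)) with
            mul_comm := fun a b => Subtype.ext ((mem_centralizer_iff.1 (mem_inf.1 b.2).1) a (mem_inf.1 a.2).2) }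
        infer_instance
      exact h.ss _ inferInstance this
    intro a ha ha'
    rw [← mem_bot, ← hb]; exact mem_inf.2 ⟨ha, ha'⟩
  have hKb : K = ⊥ := by
    have : Group.IsSolvable K := by
      have hc : ∀ a b : K, a * b = b * a := by
        intro a b
        by_cases haG : (a : G) ∈ G0
        · have h1 : a = 1 := Subtype.ext (hKG a a.2 haG)
          rw [h1]; group
        by_cases hbG : (b : G) ∈ G0
        · have h1 : b = 1 := Subtype.ext (hKG b b.2 hbG)
          rw [h1]; group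
        have h1 : (a : G) * (b : G)⁻¹ ∈ G0 := by
          rw [Subgroup.mul_mem_iff_of_index_two hG0i]
          exact ⟨fun h1 => absurd h1 haG, fun h1 => absurd (by have := inv_mem h1; rwa [inv_inv] at this) hbG⟩
        have h2 := hKG _ (mul_mem a.2 (inv_mem b.2)) h1
        have h3 : a = b := Subtype.ext (mul_inv_eq_one.1 h2)
        rw [h3]
      let _ : CommGroup K := { (inferInstance : Group K) with mul_comm := hc }
      infer_instance
    exact h.ss K inferInstance this
  intro g hg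
  rw [← mem_bot, ← hKb, hK, mem_centralizer_iff]
  intro x hx
  have := hg x hx
  rw [mul_inv_eq_iff_eq_mul] at this
  exact this.symm

end H73.Pt
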