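import Mathlib
import Cfsg.Agent.Lib.H73.Prt11
import Cfsg.Agent.Lib.H73.Prt15

/-!
# Partitions: the dihedral case (H73.Prt16)
-/

set_option autoImplicit false
open Subgroup
open scoped IsMulCommutative Pointwise

universe u

namespace H73.Pt

variable {G : Type u} [Group G] [Finite G] {c : G → Subgroup G}

theorem SS.semi (h : SS c) : Semi G := h.ss

theorem SS.ds (h : SS c) (P : Sylow 2 G) {t : G} (htP : t ∈ (P : Subgroup G)) (ht2 : orderOf t = 2)
    (htZ : ∀ x ∈ (P : Subgroup G), x * t = t * x) (hD : DAb c (c t)) : ∃ y, DS (c t) P t y := by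
  have hf2 : Fact (Nat.Prime 2) := ⟨Nat.prime_two⟩
  have hc := h.hc
  have ht1 := ne_one_of_two ht2
  have hT := hc.isComp ht1
  set T := c t with hTdef
  have htT : t ∈ T := hc.mem t
  have hPN : (P : Subgroup G) ≤ normalizer (T : Set G) := fun x hx =>
    hc.mem_normalizer_of_comm hT htT ht1 (htZ x hx)
  obtain ⟨y0, hy0N, hy0T⟩ := hD.ex
  have hy00 := (hD.inv y0 hy0N hy0T).1
  have hy02 : orderOf y0 = 2 := orderOf_two hy00 (fun h' => hy0T (h' ▸ one_mem _))
  have hPi : ¬ 2 ∣ (P : Subgroup G).relIndex (normalizer (T : Set G)) := by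
    intro h'
    exact P.not_dvd_index (h'.trans (Subgroup.relIndex_dvd_index_of_le hPN))
  have hz : IsPGroup 2 (zpowers y0) := IsPGroup.of_card (n := 1) (by rw [Nat.card_zpowers, hy02, pow_one])
  obtain ⟨k, hk, hkP⟩ := H51.SylowAmb.exists_conj_le hPN P.2 hPi (Q := zpowers y0)
    (by rw [zpowers_le]; exact hy0N) hz
  have hyP : k * y0 * k⁻¹ ∈ (P : Subgroup G) := hkP ⟨y0, mem_zpowers y0, rfl⟩
  have hyT : k * y0 * k⁻¹ ∉ T := fun h' => hy0T ((mem_normalizer_iff.1 hk y0).2 h')
  have hyN := hPN hyP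
  refine ⟨k * y0 * k⁻¹, h.ss, h.ft, ht2, htT, htP, hD.ab, hyP, hyT, (hD.inv _ hyN hyT).1, (hD.inv _ hyN hyT).2, ?_, ?_⟩
  · intro x hx hx1 g hg
    have hgN := hc.mem_normalizer hT hx hx1 hg
    by_cases hgT : g ∈ T
    · exact Or.inl hgT
    · exact Or.inr (hD.two _ hyN hyT g hgN hgT)
  · intro g hg
    by_cases hgT : g ∈ T
    · exact Or.inl hgT
    · exact Or.inr (hD.two _ hyN hyT g (hPN hg) hgT)

theorem SS.dihedral (h : SS c) (P : Sylow 2 G) {t : G} (htP : t ∈ (P : Subgroup G)) (ht2 : orderOf t = 2)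
    (htZ : ∀ x ∈ (P : Subgroup G), x * t = t * x) (hD : DAb c (c t)) :
    (∃ (F : Type) (_ : Field F) (_ : Fintype F), 4 ≤ Fintype.card F ∧
        Nonempty (G ≃* Matrix.ProjectiveSpecialLinearGroup (Fin 2) F)) ∨
    (∃ (F : Type) (_ : Field F) (_ : Fintype F), 5 ≤ Fintype.card F ∧ Odd (Fintype.card F) ∧
        Nonempty (G ≃* (GL (Fin 2) F ⧸ Subgroup.center (GL (Fin 2) F)))) := by
  have hf2 : Fact (Nat.Prime 2) := ⟨Nat.prime_two⟩
  obtain ⟨y, hy⟩ := h.ds P htP ht2 htZ hD
  have hc := h.hc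
  by_cases hall : ∀ v : G, orderOf v = 2 → ∃ g : G, g * v * g⁻¹ = t
  · left
    obtain ⟨F, fF, ftF, hFodd, ⟨e⟩⟩ := hy.psl hall
    have hF5 : 5 ≤ Fintype.card F := by
      apply card_ge_five hFodd
      intro hs
      have : Group.IsSolvable G := Group.isSolvable_of_isSolvable_injective (f := e.toMonoidHom) e.injective
      exact hy.ss.not_solvable hy.t1 this
    exact ⟨F, fF, ftF, by omega, ⟨e⟩⟩
  · right
    push Not at hall
    obtain ⟨v, hv2, hv⟩ := hall
    obtain ⟨g0, hg0⟩ := conj_into_sylow P (v := v) (by rw [← hv2]; exact pow_orderOf_eq_one _)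
    set u := g0 * v * g0⁻¹ with hu
    have hu2 : orderOf u = 2 := by rw [← hv2]; exact (MulAut.conj g0).orderOf_eq v
    have huc : ∀ g : G, g * u * g⁻¹ ≠ t := by
      intro g hg
      apply hv (g * g0)
      rw [← hg, hu]; group
    have huT : u ∉ c t := by
      intro h'
      apply huc 1
      rw [hy.invol h' hu2]; group
    obtain ⟨u1, hu1, hu1T, k0, hk0⟩ := hy.fusion_t
    have hy1 := hy.change hu1 ((hy.PD _ hu1).resolve_left hu1T)
    refine hy1.pgl ⟨k0, hk0⟩ hg0 ((hy1.PD _ hg0).resolve_left huT) huc ?_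
    have hu1' := ne_one_of_two hu2
    have htu : t ∉ c u := by
      intro h'
      exact huT (hc.symm hu1' hy.t1 h')
    have hcu := hc.isComp hu1'
    have hmem : ∀ x : G, Odd (orderOf x) → u * x * u⁻¹ = x → x ∈ c u ⊓ centralizer ({u} : Set G) := by
      intro x hx hux
      rw [mul_inv_eq_iff_eq_mul] at hux
      refine mem_inf.2 ⟨?_, mem_centralizer_singleton_iff.2 hux.symm⟩
      by_cases hx1 : x = 1
      · rw [hx1]; exact one_mem _
      · apply hc.mem_of_comm hu1' hx1 hux
        intro h'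
        rw [← h', hu2] at hx
        exact absurd hx (by decide)
    have hut : u * t = t * u := htZ u hg0
    have hab := (inv_of_invol (T := c u ⊓ centralizer ({u} : Set G)) (y := t) hy.tt (by
      intro x hx
      have hx1 := (mem_inf.1 hx).1
      have hx2 := mem_centralizer_singleton_iff.1 (mem_inf.1 hx).2
      have h1 : t * x ∉ c u := fun h' => htu ((Subgroup.mul_mem_cancel_right _ hx1).1 h')
      have h2 : u * (t * x) = (t * x) * u := by
        calc u * (t * x) = (u * t) * x := by group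
          _ = t * (u * x) := by rw [hut]; group
          _ = t * x * u := by rw [← hx2]; group
      obtain ⟨r, -, h3, h4⟩ := hc.comp_prime hcu (hc.mem u) hu1' h1 h2
      exact mul_self (by rw [h4, ← h3, hu2]))).2
    intro x z hx hz hux huz
    exact hab x (hmem x hx hux) z (hmem z hz huz)

end H73.Pt
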