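import Mathlib
import Cfsg.Agent.Lib.H73.Prt16
import Cfsg.Agent.Lib.H74.ZDat2
import Cfsg.Agent.Lib.H12.Basic

/-!
# Partitions: the strongly embedded cases, and the semisimple case (H73.Prt17)
-/

set_option autoImplicit false
open Subgroup
open scoped IsMulCommutative Pointwise

universe u

namespace H73.Pt

variable {G : Type u} [Group G] [Finite G] {c : G → Subgroup G}

/-- strongly embedded from TI -/
theorem emb_of_ti {T : Subgroup G} {P : Sylow 2 G} (hPT : (P : Subgroup G) ≤ T) (hev : 2 ∣ Nat.card (P : Subgroup G))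
    (hne : normalizer (T : Set G) ≠ ⊤)
    (hti : ∀ g : G, ∀ u ∈ T, u ≠ 1 → g⁻¹ * u * g ∈ T → g ∈ normalizer (T : Set G)) :
    Cfsg.IsStronglyEmbedded (normalizer (T : Set G)) := by
  have : Fact (Nat.Prime 2) := ⟨Nat.prime_two⟩
  have hPM : (P : Subgroup G) ≤ normalizer (T : Set G) := hPT.trans le_normalizer
  have hinv : ∀ u ∈ normalizer (T : Set G), orderOf u = 2 → u ∈ T := by
    intro u hu hu2
    have hPi : ¬ 2 ∣ (P : Subgroup G).relIndex (normalizer (T : Set G)) := by
      intro h'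
      exact P.not_dvd_index (h'.trans (Subgroup.relIndex_dvd_index_of_le hPM))
    have hz : IsPGroup 2 (zpowers u) := IsPGroup.of_card (n := 1) (by rw [Nat.card_zpowers, hu2, pow_one])
    obtain ⟨y, hy, hyu⟩ := H51.SylowAmb.exists_conj_le hPM P.2 hPi (Q := zpowers u)
      (by rw [zpowers_le]; exact hu) hz
    have h1 : y * u * y⁻¹ ∈ T := hPT (hyu ⟨u, mem_zpowers u, rfl⟩)
    exact (mem_normalizer_iff.1 hy u).2 h1
  refine ⟨hne, ?_, ?_⟩
  · rw [even_iff_two_dvd]
    exact hev.trans (Subgroup.card_dvd_of_le hPM)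
  · intro g hg
    rw [← Nat.not_even_iff_odd, even_iff_two_dvd]
    intro hd
    obtain ⟨u, hu⟩ := exists_prime_orderOf_dvd_card' 2 hd
    have hu2 : orderOf (u : G) = 2 := by rw [Subgroup.orderOf_coe]; exact hu
    have h1 : (u : G) ∈ T := hinv u u.2.1 hu2
    have h2 : g⁻¹ * u * g ∈ normalizer (T : Set G) := by
      rw [← H25.StrEmb.mem_map_conj]; exact u.2.2
    have h3 : orderOf (g⁻¹ * (u : G) * g) = 2 := by
      rw [← hu2]
      have := (MulAut.conj g⁻¹).orderOf_eq (u : G)
      simpa using this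
    exact hg (hti g u h1 (ne_one_of_two hu2) (hinv _ h2 h3))

theorem dat_of {T : Subgroup G} {P : Sylow 2 G} (hPT : (P : Subgroup G) ≤ T) (hev : 2 ∣ Nat.card (P : Subgroup G))
    (hne : normalizer (T : Set G) ≠ ⊤) (hne' : normalizer (T : Set G) ≠ T)
    (hcent : ∀ x ∈ T, x ≠ 1 → ∀ g : G, g * x = x * g → g ∈ T)
    (hti : ∀ g : G, ∀ u ∈ T, u ≠ 1 → g⁻¹ * u * g ∈ T → g ∈ normalizer (T : Set G)) :
    H74.ZDat.Dat T (normalizer (T : Set G)) (T.relIndex (normalizer (T : Set G))) where
  emb := emb_of_ti hPT hev hne hti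
  even := hev.trans (Subgroup.card_dvd_of_le hPT)
  le := le_normalizer
  nor := le_rfl
  cardM := by rw [mul_comm]; exact (H28.RelSyl.relIndex_mul_card le_normalizer).symm
  cop := by
    have h1 := coprime_of_cent (T.subgroupOf (normalizer (T : Set G))) (by
      intro x hx hx1 g hg
      exact hcent x hx (fun h' => hx1 (Subtype.ext h')) g (congrArg Subtype.val hg))
    rwa [Nat.card_congr (Subgroup.subgroupOfEquivOfLe le_normalizer).toEquiv] at h1
  one := by
    have h1 : T.relIndex (normalizer (T : Set G)) ≠ 1 := by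
      intro h'
      exact hne' (le_antisymm (Subgroup.relIndex_eq_one.1 h') le_normalizer)
    have h2 : T.relIndex (normalizer (T : Set G)) ≠ 0 := Subgroup.index_ne_zero_of_finite
    omega
  cent u hu hu1 x hx := hcent u hu hu1 x hx
  ti := hti

/-- conclusion -/
def Con (G : Type u) [Group G] : Prop :=
  (∃ (F : Type) (_ : Field F) (_ : Fintype F), 4 ≤ Fintype.card F ∧
        Nonempty (G ≃* Matrix.ProjectiveSpecialLinearGroup (Fin 2) F)) ∨
    (∃ (F : Type) (_ : Field F) (_ : Fintype F), 5 ≤ Fintype.card F ∧ Odd (Fintype.card F) ∧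
        Nonempty (G ≃* (GL (Fin 2) F ⧸ Subgroup.center (GL (Fin 2) F)))) ∨
    Cfsg.Lie.IsoSuzuki G

theorem con_of_dat {T M : Subgroup G} {m : ℕ} (hd : H74.ZDat.Dat T M m) : Con G := by
  rcases H74.ZDat.main hd with ⟨F, fF, ftF, n, hn, hc, -, he⟩ | ⟨h, -⟩
  · left
    refine ⟨F, fF, ftF, ?_, he⟩
    rw [hc]
    calc 4 = 2 ^ 2 := by norm_num
      _ ≤ 2 ^ n := Nat.pow_le_pow_right (by norm_num) hn
  · exact Or.inr (Or.inr h)

theorem CE.con {T : Subgroup G} {P : Sylow 2 G} (h : CE c T P) : Con G := by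
  have hc := h.ss.hc
  by_cases hcent : ∀ x ∈ T, x ≠ 1 → ∀ g : G, g * x = x * g → g ∈ T
  · exact con_of_dat (dat_of h.le h.two_dvd (h.ss.not_normal h.comp) (h.ss.norm_ne h.comp) hcent
      (fun g u hu hu1 hg => h.ti hu hu1 hg))
  · exfalso
    push Not at hcent
    obtain ⟨x0, hx0, hx01, g0, hcomm, hg0⟩ := hcent
    obtain ⟨-, hs⟩ := hc.norm_struct h.ss.ft h.comp (h.ss.norm_ne h.comp)
    rcases hs with h1 | ⟨hp, h1⟩ | ⟨r, hr, hTr, A, hAM, hMA, hA, hTA, hAi, hAc⟩
    · exact hg0 (h1 x0 hx0 hx01 g0 hcomm)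
    · exact h.no_hughes hx0 hx01 hg0 hcomm hp h1
    · obtain ⟨t, htT, ht2⟩ := h.exists_t
      have hr2 : r = 2 := by
        obtain ⟨k, hk⟩ := hTr ⟨t, htT⟩
        have h3 := orderOf_dvd_of_pow_eq_one (x := t) (n := r ^ k) (by simpa using congrArg Subtype.val hk)
        rw [ht2] at h3
        exact ((Nat.prime_dvd_prime_iff_eq Nat.prime_two hr).1 (Nat.prime_two.dvd_of_dvd_pow h3)).symm
      subst hr2
      have h3 : A = P := P.3 hA (h.le.trans hTA.le)
      rw [h3] at hTA
      exact absurd h.le hTA.not_ge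

/-- the case of an elementary abelian Sylow subgroup containing the centralizer of one of its involutions -/
theorem SS.con_elem (h : SS c) (P : Sylow 2 G) {t : G} (htP : t ∈ (P : Subgroup G)) (ht2 : orderOf t = 2)
    (hP2 : ∀ x ∈ (P : Subgroup G), x * x = 1) (hCt : ∀ g : G, g * t = t * g → g ∈ (P : Subgroup G))
    {y : G} (hyP : y ∈ (P : Subgroup G)) (hyt : y ∉ c t) : Con G := by
  have hf2 : Fact (Nat.Prime 2) := ⟨Nat.prime_two⟩
  have hc := h.hc
  have ht1 := ne_one_of_two ht2
  have hab : ∀ a ∈ (P : Subgroup G), ∀ b ∈ (P : Subgroup G), a * b = b * a := by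
    intro a ha b hb
    have h1 := hP2 _ (mul_mem ha hb)
    have h2 : a⁻¹ = a := inv_eq_of_mul_eq_one_right (hP2 a ha)
    have h3 : b⁻¹ = b := inv_eq_of_mul_eq_one_right (hP2 b hb)
    have h4 : (a * b)⁻¹ = a * b := inv_eq_of_mul_eq_one_right h1
    rw [mul_inv_rev, h2, h3] at h4
    exact h4.symm
  have hPC : (P : Subgroup G) ≤ centralizer ((P : Subgroup G) : Set G) := by
    intro a ha
    rw [mem_centralizer_iff]
    intro b hb
    exact hab b hb a ha
  have hnN : ¬ (normalizer ((P : Subgroup G) : Set G) ≤ P) := by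
    intro hle
    have h1 := Semi.npc (G := G) h.ss h.ft (H72.TpCount.hasNormalPComplement_of_normalizer_le P (hle.trans hPC))
    exact ht1 (by rw [← mem_bot, ← h1]; trivial)
  -- all centralizers lie in `P`
  have hcent : ∀ z ∈ (P : Subgroup G), z ≠ 1 → ∀ g : G, g * z = z * g → g ∈ (P : Subgroup G) := by
    intro z hzP hz1
    have hz2 := orderOf_two (hP2 z hzP) hz1
    have hzZ : ∀ x ∈ (P : Subgroup G), x * z = z * x := fun x hx => hab x hx z hzP
    by_cases hzE : ∀ g, g * z = z * g → g ∈ c z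
    · exfalso
      have h1 : t ∈ c z := hzE t (hab t htP z hzP)
      have h2 : y ∈ c z := hzE y (hab y hyP z hzP)
      rw [hc.eq z t hz1 ht1 h1] at hyt
      exact hyt h2
    push Not at hzE
    obtain ⟨y1, hy1z, hy1⟩ := hzE
    rcases h.dicho P hzP hz2 hzZ hy1 hy1z with hD | ⟨-, h2, -⟩
    · exfalso
      obtain ⟨y', hy'⟩ := h.ds P hzP hz2 hzZ hD
      obtain ⟨x, hx, hxx⟩ := hD.sq
      have hxz : x * z = z * x := hD.ab x hx z (hc.mem z)
      have hnt : ∀ g : G, g * t * g⁻¹ ≠ z := by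
        intro g hg
        have h1 : (g⁻¹ * x * g) * t = t * (g⁻¹ * x * g) := by
          have h2 : t = g⁻¹ * z * g := by rw [← hg]; group
          rw [h2]
          calc g⁻¹ * x * g * (g⁻¹ * z * g) = g⁻¹ * (x * z) * g := by group
            _ = g⁻¹ * z * g * (g⁻¹ * x * g) := by rw [hxz]; group
        have h3 := hP2 _ (hCt _ h1)
        apply hxx
        have h4 : x * x = g * (g⁻¹ * x * g * (g⁻¹ * x * g)) * g⁻¹ := by group
        rw [h4, h3]; group
      have htT : t ∉ c z := by
        intro h'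
        exact hnt 1 (by rw [← hy'.invol h' ht2]; group)
      obtain ⟨u, huP, huT, g0, hg0⟩ := hy'.fusion_t
      have hui : u⁻¹ = u := inv_eq_of_mul_eq_one_right (hP2 u huP)
      have hsmall : ∀ w ∈ (P : Subgroup G), w ∉ c z → (∀ g : G, g * w * g⁻¹ ≠ z) → w = z * u := by
        intro w hw hwT hwz
        have h1 : w * u ∈ c z := hy'.out_mul ((hy'.PD w hw).resolve_left hwT) ((hy'.PD u huP).resolve_left huT)
        rcases hy'.uniq h1 (hP2 _ (mul_mem hw huP)) with h2 | h2
        · exfalso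
          have h3 : w = u := by rw [mul_eq_one_iff_eq_inv.1 h2, hui]
          exact hwz g0 (by rw [h3]; exact hg0)
        · rw [← hui]; exact eq_mul_inv_of_mul_eq h2
      have htw := hsmall t htP htT hnt
      apply hnN
      intro g hg
      have h1 : g * t * g⁻¹ ∈ (P : Subgroup G) := (mem_normalizer_iff.1 hg t).1 htP
      have h1o : orderOf (g * t * g⁻¹) = 2 := by rw [← ht2]; exact (MulAut.conj g).orderOf_eq t
      have h2 : g * t * g⁻¹ ∉ c z := by
        intro h'
        exact hnt g (hy'.invol h' h1o)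
      have h3 : g * t * g⁻¹ = z * u := by
        apply hsmall _ h1 h2
        intro k hk
        apply hnt (k * g)
        rw [← hk]; group
      apply hCt
      rw [← htw] at h3
      exact mul_inv_eq_iff_eq_mul.1 h3
    · exact h2
  have hev : 2 ∣ Nat.card (P : Subgroup G) := by
    have h1 := h.even
    have h2 := (P : Subgroup G).card_mul_index
    rw [← h2] at h1
    exact (Nat.Prime.dvd_mul Nat.prime_two).1 h1 |>.resolve_right P.not_dvd_index
  refine con_of_dat (T := (P : Subgroup G)) (dat_of (P := P) le_rfl hev ?_ ?_ hcent ?_)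
  · intro hn
    have hPn : (P : Subgroup G).Normal := normalizer_eq_top_iff.1 hn
    have hsol : Group.IsSolvable (P : Subgroup G) := by
      have := P.2.isNilpotent
      infer_instance
    have h1 := h.ss _ hPn hsol
    rw [h1, mem_bot] at htP
    exact ht1 htP
  · intro h'
    exact hnN h'.le
  · intro g u hu hu1 hgu
    have h1 : g⁻¹ ∈ normalizer ((P : Subgroup G) : Set G) := by
      apply H12.Basic.mem_normalizer_of_conj
      intro x hx
      apply hcent _ hgu (by
        have := conj_ne_one (k := g⁻¹) hu1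
        rwa [inv_inv] at this)
      have h2 := hab x hx u hu
      calc g⁻¹ * x * g⁻¹⁻¹ * (g⁻¹ * u * g) = g⁻¹ * (x * u) * g := by group
        _ = g⁻¹ * u * g * (g⁻¹ * x * g⁻¹⁻¹) := by rw [h2]; group
    have := inv_mem h1
    rwa [inv_inv] at this

/-- **the semisimple case** -/
theorem SS.con (h : SS c) : Con G := by
  have hf2 : Fact (Nat.Prime 2) := ⟨Nat.prime_two⟩
  have hc := h.hc
  obtain ⟨P⟩ := (inferInstance : Nonempty (Sylow 2 G))
  have hev : 2 ∣ Nat.card (P : Subgroup G) := by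
    have h1 := h.even
    have h2 := (P : Subgroup G).card_mul_index
    rw [← h2] at h1
    exact (Nat.Prime.dvd_mul Nat.prime_two).1 h1 |>.resolve_right P.not_dvd_index
  -- a central involution
  obtain ⟨t, htP, ht2, htZ⟩ : ∃ t ∈ (P : Subgroup G), orderOf t = 2 ∧ ∀ x ∈ (P : Subgroup G), x * t = t * x := by
    have hnt : Nontrivial (P : Subgroup G) := by
      rw [← Finite.one_lt_card_iff_nontrivial]
      exact lt_of_lt_of_le (by norm_num) (Nat.le_of_dvd Nat.card_pos hev)
    have h1 := P.2.center_nontrivial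
    have h2 : 2 ∣ Nat.card (center (P : Subgroup G)) := by
      have h3 : IsPGroup 2 (center (P : Subgroup G)) := P.2.to_subgroup _
      obtain ⟨n, hn, hn'⟩ := h3.nontrivial_iff_card.1 h1
      rw [hn']; exact dvd_pow_self 2 hn.ne'
    obtain ⟨t, ht⟩ := exists_prime_orderOf_dvd_card' (G := center (P : Subgroup G)) 2 h2
    refine ⟨(t : (P : Subgroup G)), t.1.2, by rw [Subgroup.orderOf_coe, Subgroup.orderOf_coe]; exact ht, ?_⟩
    intro x hx
    have := mem_center_iff.1 t.2 ⟨x, hx⟩
    exact congrArg Subtype.val this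
  by_cases hE : ∀ g, g * t = t * g → g ∈ c t
  · exact (h.ce P htP ht2 htZ hE).con
  push Not at hE
  obtain ⟨y, hyt, hyT⟩ := hE
  rcases h.dicho P htP ht2 htZ hyT hyt with hD | ⟨h1, h2, y', hy'P, hy'T⟩
  · rcases h.dihedral P htP ht2 htZ hD with h1 | h1
    · exact Or.inl h1
    · exact Or.inr (Or.inl h1)
  · exact h.con_elem P htP ht2 h1 h2 hy'P hy'T

end H73.Pt
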