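import Mathlib
import Cfsg.Agent.Lib.H73.Prt8
import Cfsg.Agent.Lib.H73.Prt17
import Cfsg.Agent.Lib.H72.PGroupCenter

/-!
# Finite groups with a nontrivial partition: the classification (H73.Prt18)
-/

set_option autoImplicit false
open Subgroup
open scoped IsMulCommutative Pointwise

universe u

namespace H73.Pt

variable {G : Type u} [Group G] [Finite G]

/-- the classification of groups with a nontrivial normal partition -/
theorem Prt.main (hFT : FT.{u}) {c : G → Subgroup G} (hc : Prt c) (hnt : ∀ g : G, g ≠ 1 → c g ≠ ⊤)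
    (hne : ∃ g : G, g ≠ 1) :
    Nonempty (G ≃* Equiv.Perm (Fin 4)) ∨
    (∃ p : ℕ, p.Prime ∧ Subgroup.closure {g : G | g ^ p ≠ 1} ≠ ⊤) ∨
    (∃ H : Subgroup G, Cfsg.IsFrobeniusComplement H) ∨ Con G := by
  by_cases hfrob : ∃ H : Subgroup G, Cfsg.IsFrobeniusComplement H
  · exact Or.inr (Or.inr (Or.inl hfrob))
  by_cases hss : ∀ N : Subgroup G, N.Normal → Group.IsSolvable N → N = ⊥
  · exact Or.inr (Or.inr (Or.inr (SS.con ⟨hc, hss, hnt, hfrob, hne, hFT⟩)))
  push Not at hss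
  obtain ⟨N, hN, hNs, hNb⟩ := hss
  obtain ⟨r, hr, V, hV, hVb, hVr, hVc⟩ : ∃ r : ℕ, r.Prime ∧ ∃ V : Subgroup G, V.Normal ∧ V ≠ ⊥ ∧
      (∀ v ∈ V, v ^ r = 1) ∧ (∀ u ∈ V, ∀ v ∈ V, u * v = v * u) := by
    have : Nontrivial N := (Subgroup.nontrivial_iff_ne_bot N).2 hNb
    obtain ⟨r, hr, R, hRn, hRb, hRr⟩ := H24.ReeSolv.exists_normal_pgroup hNs
    have h1 : Cfsg.pCore r N ≠ ⊥ := fun h' => hRb (le_bot_iff.1 (h' ▸ H13.Cores.le_pCore hRn hRr))
    have h4 : (Cfsg.pCore r N).map N.subtype ≠ ⊥ := by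
      intro h'
      rw [map_eq_bot_iff_of_injective _ N.subtype_injective] at h'
      exact h1 h'
    have h5 : IsPGroup r ((Cfsg.pCore r N).map N.subtype) := H13.Cores.isPGroup_pCore.map _
    obtain ⟨V, hV, -, hVb, hVr, hVc, -⟩ := exists_V_of_pgroup (R := (Cfsg.pCore r N).map N.subtype) hr.out h5 h4
    exact ⟨r, hr.out, V, hV, hVb, hVr, hVc⟩
  by_cases hbig : ∀ X, IsComp c X → ¬ V ≤ X
  · rcases Big.result hFT (⟨hc, hr, hV, hVb, hVr, hVc, hbig⟩ : Big c r V) with h | h | h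
    · exact Or.inl h
    · exact Or.inr (Or.inl h)
    · exact Or.inr (Or.inr (Or.inl h))
  push Not at hbig
  obtain ⟨X, hX, hVX⟩ := hbig
  have hXn : X.Normal := by
    rw [← normalizer_eq_top_iff, eq_top_iff]
    intro g _
    obtain ⟨v, hv, hv1⟩ := (bot_or_exists_ne_one V).resolve_left hVb
    exact hc.mem_normalizer hX (hVX hv) hv1 (hVX (hV.conj_mem v hv g))
  have hXt : X ≠ ⊤ := by
    obtain ⟨x, hx, hx1⟩ := hX.exists_ne
    rw [← hX.2 x hx hx1]
    exact hnt x hx1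
  rcases hc.normal_comp hFT hX hXt with h | ⟨hp, h⟩ | ⟨r', hr', hXr, A, hAn, hAr, hXA, -, hAc⟩
  · exact absurd (exists_frobenius X hX.1 hXt h) hfrob
  · right; left
    refine ⟨X.index, hp, fun h' => hXt ?_⟩
    rw [eq_top_iff, ← h', closure_le]
    intro g hg
    by_contra hgX
    exact hg (h g hgX)
  · by_cases hAt : A = ⊤
    · right; left
      refine ⟨r', hr', fun h' => hXt ?_⟩
      rw [eq_top_iff, ← h', closure_le]
      intro g hg
      by_contra hgX
      apply hg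
      have := Fact.mk hr'
      have hGr : IsPGroup r' G := by
        have h1 : IsPGroup r' (⊤ : Subgroup G) := hAt ▸ hAr
        exact h1.of_equiv Subgroup.topEquiv
      have h2 := H72.PGroupCenter.normal_inf_center_ne_bot hGr X hX.1
      obtain ⟨z, hz, hz1⟩ := (bot_or_exists_ne_one _).resolve_left h2
      obtain ⟨hz2, hz3⟩ := mem_inf.1 hz
      obtain ⟨q, hq, h3, h4⟩ := hc.comp_prime hX hz2 hz1 hgX (mem_center_iff.1 hz3 g).symm
      have h5 : q = r' := by
        obtain ⟨k, hk⟩ := hGr z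
        have h6 := orderOf_dvd_of_pow_eq_one hk
        rw [h3] at h6
        exact (Nat.prime_dvd_prime_iff_eq hq hr').1 (hq.dvd_of_dvd_pow h6)
      rw [← h5, ← h4]
      exact pow_orderOf_eq_one g
    · exfalso
      apply hfrob
      refine exists_frobenius A ?_ hAt hAc
      intro hAb
      rw [hAb] at hXA
      exact not_lt_bot hXA

/-- from a partition to a normal partition -/
theorem main (hFT : FT.{u}) (S : Set (Subgroup G)) (hS2 : ∃ H ∈ S, ∃ K ∈ S, H ≠ K)
    (hS1 : ∀ H ∈ S, H ≠ ⊥) (hpart : ∀ g : G, g ≠ 1 → ∃! H : Subgroup G, H ∈ S ∧ g ∈ H) :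
    Nonempty (G ≃* Equiv.Perm (Fin 4)) ∨
    (∃ p : ℕ, p.Prime ∧ Subgroup.closure {g : G | g ^ p ≠ 1} ≠ ⊤) ∨
    (∃ H : Subgroup G, Cfsg.IsFrobeniusComplement H) ∨ Con G := by
  classical
  let c0 : G → Subgroup G := fun g => if h : g ≠ 1 then (hpart g h).choose else ⊥
  have hc0 : ∀ g, g ≠ 1 → c0 g ∈ S ∧ g ∈ c0 g := by
    intro g hg
    have h1 := (hpart g hg).choose_spec.1
    have h2 : c0 g = (hpart g hg).choose := dif_pos hg
    rw [h2]; exact h1
  have huniq : ∀ g, g ≠ 1 → ∀ H ∈ S, g ∈ H → H = c0 g := by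
    intro g hg H hH hgH
    exact (hpart g hg).unique ⟨hH, hgH⟩ (hc0 g hg)
  have hc0eq : ∀ g h, g ≠ 1 → h ≠ 1 → h ∈ c0 g → c0 h = c0 g := fun g h hg hh hm =>
    (huniq h hh _ (hc0 g hg).1 hm).symm
  let c : G → Subgroup G := fun g =>
    { carrier := {x | ∀ k : G, k * x * k⁻¹ ∈ c0 (k * g * k⁻¹)}
      one_mem' := fun k => by rw [mul_one, mul_inv_cancel]; exact one_mem _
      mul_mem' := by
        intro a b ha hb k
        have h1 : k * (a * b) * k⁻¹ = (k * a * k⁻¹) * (k * b * k⁻¹) := by group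
        rw [h1]; exact mul_mem (ha k) (hb k)
      inv_mem' := by
        intro a ha k
        have h1 : k * a⁻¹ * k⁻¹ = (k * a * k⁻¹)⁻¹ := by group
        rw [h1]; exact inv_mem (ha k) }
  have hcm : ∀ g x, x ∈ c g ↔ ∀ k : G, k * x * k⁻¹ ∈ c0 (k * g * k⁻¹) := fun g x => Iff.rfl
  have hle : ∀ g, c g ≤ c0 g := by
    intro g x hx
    have := (hcm g x).1 hx 1
    simpa using this
  have hc : Prt c := by
    refine ⟨?_, ?_, ?_⟩
    · intro g
      rw [hcm]
      intro k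
      by_cases hg : g = 1
      · rw [hg, mul_one, mul_inv_cancel]; exact one_mem _
      · exact (hc0 _ (conj_ne_one hg)).2
    · intro g h hg hh hm
      rw [hcm] at hm
      ext x
      rw [hcm, hcm]
      constructor
      · intro h1 k
        rw [← hc0eq _ _ (conj_ne_one hg) (conj_ne_one hh) (hm k)]; exact h1 k
      · intro h1 k
        rw [hc0eq _ _ (conj_ne_one hg) (conj_ne_one hh) (hm k)]; exact h1 k
    · intro g k x hg
      rw [hcm, hcm]
      constructor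
      · intro h1 m
        have h2 := h1 (m * k⁻¹)
        have h3 : m * k⁻¹ * (k * x * k⁻¹) * (m * k⁻¹)⁻¹ = m * x * m⁻¹ := by group
        have h4 : m * k⁻¹ * (k * g * k⁻¹) * (m * k⁻¹)⁻¹ = m * g * m⁻¹ := by group
        rwa [h3, h4] at h2
      · intro h1 m
        have h2 := h1 (m * k)
        have h3 : m * k * x * (m * k)⁻¹ = m * (k * x * k⁻¹) * m⁻¹ := by group
        have h4 : m * k * g * (m * k)⁻¹ = m * (k * g * k⁻¹) * m⁻¹ := by group
        rwa [h3, h4] at h2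
  have hnt : ∀ g : G, g ≠ 1 → c g ≠ ⊤ := by
    intro g hg htop
    have h1 : c0 g = ⊤ := by rw [eq_top_iff, ← htop]; exact hle g
    have hall : ∀ H ∈ S, H = ⊤ := by
      intro H hH
      obtain ⟨x, hx, hx1⟩ := (bot_or_exists_ne_one H).resolve_left (hS1 H hH)
      rw [huniq x hx1 H hH hx, hc0eq g x hg hx1 (by rw [h1]; trivial), h1]
    obtain ⟨H, hH, K, hK, hHK⟩ := hS2
    exact hHK ((hall H hH).trans (hall K hK).symm)
  have hne : ∃ g : G, g ≠ 1 := by
    obtain ⟨H, hH, -⟩ := hS2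
    obtain ⟨x, -, hx1⟩ := (bot_or_exists_ne_one H).resolve_left (hS1 H hH)
    exact ⟨x, hx1⟩
  exact hc.main hFT hnt hne

end H73.Pt
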