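import Mathlib

/-!
# Transfer into an abelian quotient of a `p`-subgroup, evaluated via double cosets (H73.TransferP)
-/

set_option autoImplicit false
open scoped commutatorElement

namespace H73.TransferP

open MulAction

variable {G : Type*} [Group G] [Finite G] {p : ℕ} [hp : Fact p.Prime]

theorem transfer_eq_pow (P : Subgroup G) (hP : IsPGroup p P) {A : Type*} [CommGroup A] (f : P →* A) (u : G) (huP : u ∈ P)
    (h1 : ∀ (g : G) (k : ℕ) (h : g⁻¹ * u ^ k * g ∈ P), p ∣ k → f ⟨_, h⟩ = 1)
    (h2 : ∀ (g t : G) (h : g⁻¹ * u * g ∈ P) (_ : t ∈ P) (h' : (t * g)⁻¹ * u * (t * g) ∈ P), f ⟨_, h⟩ = f ⟨_, h'⟩)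
    (h3 : ∀ g ∈ Subgroup.normalizer (P : Set G), ∀ h : g⁻¹ * u * g ∈ P, f ⟨_, h⟩ = f ⟨u, huP⟩)
    (h4 : ∀ (g : G) (h : g⁻¹ * u * g ∈ P), f ⟨_, h⟩ ^ p = 1) :
    f.transfer u = f ⟨u, huP⟩ ^ Nat.card (fixedPoints P (G ⧸ P)) := by
  classical
  have hfin : Fintype (G ⧸ P) := Fintype.ofFinite _
  have hfinq : Fintype (Quotient (orbitRel (Subgroup.zpowers u) (G ⧸ P))) := Fintype.ofFinite _
  rw [MonoidHom.transfer_eq_prod_quotient_orbitRel_zpowers_quot]
  -- the value of `f` at a coset fixed by `u`
  let val : G ⧸ P → A := fun a => if h : (Quotient.out a)⁻¹ * u * Quotient.out a ∈ P then f ⟨_, h⟩ else 1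
  have hfixed : ∀ a : G ⧸ P, u • a = a ↔ (Quotient.out a)⁻¹ * u * Quotient.out a ∈ P := by
    intro a
    have h5 : ((Quotient.out a : G) : G ⧸ P) = a := QuotientGroup.out_eq' a
    constructor
    · intro h
      rw [← h5] at h
      have h6 : ((u * Quotient.out a : G) : G ⧸ P) = ((Quotient.out a : G) : G ⧸ P) := by
        have : ((u * Quotient.out (a : G ⧸ P) : G) : G ⧸ P) = u • ((Quotient.out a : G) : G ⧸ P) := rfl
        rw [this]
        rw [h5] at h ⊢
        exact h
      have h7 := QuotientGroup.eq.mp h6.symm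
      rwa [← mul_assoc] at h7
    · intro h
      have h6 : ((u * Quotient.out a : G) : G ⧸ P) = ((Quotient.out a : G) : G ⧸ P) := by
        symm
        apply QuotientGroup.eq.mpr
        rwa [← mul_assoc]
      have : ((u * Quotient.out (a : G ⧸ P) : G) : G ⧸ P) = u • ((Quotient.out a : G) : G ⧸ P) := rfl
      rw [this, h5] at h6
      exact h6
  -- step 1: reduce the product over orbits to the product over fixed points
  have hstep1 : (∏ q : Quotient (orbitRel (Subgroup.zpowers u) (G ⧸ P)),
      f ⟨(Quotient.out q.out)⁻¹ * u ^ Function.minimalPeriod (u • ·) q.out * Quotient.out q.out,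
        QuotientGroup.out_conj_pow_minimalPeriod_mem P u q.out⟩) = ∏ a ∈ Finset.univ.filter (fun a : G ⧸ P => u • a = a), val a := by
    have hu : IsPGroup p (Subgroup.zpowers u) := hP.to_le (Subgroup.zpowers_le.mpr huP)
    have hper : ∀ a : G ⧸ P, Function.minimalPeriod (u • ·) a = 1 ∨ p ∣ Function.minimalPeriod (u • ·) a := by
      intro a
      have h5 : Function.minimalPeriod (u • ·) a ∣ orderOf u := by
        apply Function.IsPeriodicPt.minimalPeriod_dvd
        have h6 : (fun x : G ⧸ P => u • x)^[orderOf u] a = u ^ orderOf u • a := by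
          rw [smul_iterate]
        rw [Function.IsPeriodicPt, Function.IsFixedPt, h6, pow_orderOf_eq_one, one_smul]
      obtain ⟨k, hk⟩ := (IsPGroup.iff_orderOf.mp hP) ⟨u, huP⟩
      rw [Subgroup.orderOf_mk] at hk
      rw [hk] at h5
      obtain ⟨j, _, hj⟩ := (Nat.dvd_prime_pow hp.out).mp h5
      rcases Nat.eq_zero_or_pos j with h0 | h0
      · left; rw [hj, h0, pow_zero]
      · right; rw [hj]; exact dvd_pow_self p h0.ne'
    rw [← Finset.prod_filter_mul_prod_filter_not Finset.univ
      (fun q : Quotient (orbitRel (Subgroup.zpowers u) (G ⧸ P)) => u • q.out = q.out)]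
    have hB : (∏ q ∈ Finset.univ.filter (fun q : Quotient (orbitRel (Subgroup.zpowers u) (G ⧸ P)) => ¬ u • q.out = q.out),
        f ⟨(Quotient.out q.out)⁻¹ * u ^ Function.minimalPeriod (u • ·) q.out * Quotient.out q.out,
        QuotientGroup.out_conj_pow_minimalPeriod_mem P u q.out⟩) = 1 := by
      apply Finset.prod_eq_one
      intro q hq
      rw [Finset.mem_filter] at hq
      apply h1
      rcases hper q.out with h5 | h5
      · exfalso
        apply hq.2
        exact Function.minimalPeriod_eq_one_iff_isFixedPt.mp h5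
      · exact h5
    rw [hB, mul_one]
    refine Finset.prod_bij (fun q _ => q.out) ?_ ?_ ?_ ?_
    · intro q hq
      rw [Finset.mem_filter] at hq ⊢
      exact ⟨Finset.mem_univ _, hq.2⟩
    · intro q _ q' _ h
      exact Quotient.out_injective h
    · intro a ha
      rw [Finset.mem_filter] at ha
      have h5 : (Quotient.mk (orbitRel (Subgroup.zpowers u) (G ⧸ P)) a).out = a := by
        have h6 : (orbitRel (Subgroup.zpowers u) (G ⧸ P)) ((Quotient.mk (orbitRel (Subgroup.zpowers u) (G ⧸ P)) a).out) a :=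
          Quotient.mk_out a
        rw [orbitRel_apply] at h6
        obtain ⟨⟨g, k, hg⟩, hga⟩ := h6
        rw [← hga]
        change g • a = a
        simp only at hg
        rw [← hg]
        have : ∀ k : ℤ, u ^ k • a = a := by
          intro k
          exact (mem_stabilizer_iff).mp ((stabilizer G a).zpow_mem (mem_stabilizer_iff.mpr ha.2) k)
        exact this k
      refine ⟨Quotient.mk _ a, ?_, h5⟩
      rw [Finset.mem_filter]
      refine ⟨Finset.mem_univ _, ?_⟩
      rw [h5]; exact ha.2
    · intro q hq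
      rw [Finset.mem_filter] at hq
      have h5 : Function.minimalPeriod (u • ·) q.out = 1 := Function.minimalPeriod_eq_one_iff_isFixedPt.mpr hq.2
      have h6 := (hfixed q.out).mp hq.2
      simp only [val, dif_pos h6]
      congr 1
      apply Subtype.ext
      change (Quotient.out q.out)⁻¹ * u ^ Function.minimalPeriod (u • ·) q.out * Quotient.out q.out = _
      rw [h5, pow_one]
  rw [hstep1]
  -- value on representatives
  have hval : ∀ (g : G) (h : g⁻¹ * u * g ∈ P), val (g : G ⧸ P) = f ⟨_, h⟩ := by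
    intro g h
    have h5 : ((Quotient.out (g : G ⧸ P) : G) : G ⧸ P) = (g : G ⧸ P) := QuotientGroup.out_eq' _
    have h6 := QuotientGroup.eq.mp h5
    have h7 : u • (g : G ⧸ P) = (g : G ⧸ P) := by
      have : ((g : G) : G ⧸ P) = ((u * g : G) : G ⧸ P) := by
        apply QuotientGroup.eq.mpr
        rwa [← mul_assoc]
      exact this.symm
    have h8 := (hfixed _).mp h7
    simp only [val, dif_pos h8]
    have h9 : (⟨(Quotient.out (g : G ⧸ P))⁻¹ * u * Quotient.out (g : G ⧸ P), h8⟩ : P) =
        ⟨_, h6⟩ * ⟨g⁻¹ * u * g, h⟩ * (⟨_, h6⟩)⁻¹ := by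
      apply Subtype.ext
      change _ = ((Quotient.out (g : G ⧸ P))⁻¹ * g) * (g⁻¹ * u * g) * ((Quotient.out (g : G ⧸ P))⁻¹ * g)⁻¹
      group
    rw [h9, map_mul, map_mul, map_inv, mul_comm (f ⟨_, h6⟩), mul_assoc, mul_inv_cancel, mul_one]
  -- step 2 : split off the fixed points of `P`
  have hfix_of : ∀ a : G ⧸ P, a ∈ fixedPoints P (G ⧸ P) → u • a = a := by
    intro a ha
    exact ha ⟨u, huP⟩
  rw [← Finset.prod_filter_mul_prod_filter_not (Finset.univ.filter (fun a : G ⧸ P => u • a = a))
    (fun a => a ∈ fixedPoints P (G ⧸ P))]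
  have hA1 : ∏ a ∈ (Finset.univ.filter (fun a : G ⧸ P => u • a = a)).filter (fun a => a ∈ fixedPoints P (G ⧸ P)), val a =
      f ⟨u, huP⟩ ^ Nat.card (fixedPoints P (G ⧸ P)) := by
    have hc : ((Finset.univ.filter (fun a : G ⧸ P => u • a = a)).filter (fun a => a ∈ fixedPoints P (G ⧸ P))).card =
        Nat.card (fixedPoints P (G ⧸ P)) := by
      rw [Nat.card_eq_fintype_card, Fintype.card_subtype, Finset.filter_filter]
      congr 1
      ext a
      simp only [Finset.mem_filter, Finset.mem_univ, true_and]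
      exact ⟨fun h => h.2, fun h => ⟨hfix_of a h, h⟩⟩
    rw [← hc]
    apply Finset.prod_eq_pow_card
    intro a ha
    rw [Finset.mem_filter] at ha
    obtain ⟨g, rfl⟩ := QuotientGroup.mk_surjective a
    have hg : g ∈ Subgroup.normalizer (P : Set G) := by
      rw [Subgroup.mem_normalizer_iff']
      have h5 : ∀ t ∈ P, g⁻¹ * t * g ∈ P := by
        intro t ht
        have h6 : (((t * g : G)) : G ⧸ P) = (g : G ⧸ P) := ha.2 ⟨t, ht⟩
        have h7 := QuotientGroup.eq.mp h6.symm
        rwa [← mul_assoc] at h7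
      have h6 : P.map (MulAut.conj g⁻¹).toMonoidHom = P := by
        apply Subgroup.eq_of_le_of_card_ge
        · rintro _ ⟨t, ht, rfl⟩
          have := h5 t ht
          simpa using this
        · rw [Subgroup.card_map_of_injective (MulAut.conj g⁻¹).injective]
      intro n
      constructor
      · intro hn
        rw [← h6] at hn
        obtain ⟨t, ht, htn⟩ := hn
        simp only [MulEquiv.coe_toMonoidHom, MulAut.conj_apply, inv_inv] at htn
        have h9 : g * n = t := by
          have : g⁻¹ * t * g = n * g := htn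
          calc g * n = g * (n * g) * g⁻¹ := by group
            _ = g * (g⁻¹ * t * g) * g⁻¹ := by rw [this]
            _ = t := by group
        rw [h9]; exact ht
      · intro hn
        have h7 := h5 _ hn
        have h8 : g⁻¹ * (g * n) * g = n * g := by group
        rwa [h8] at h7
    have h5 : g⁻¹ * u * g ∈ P := by
      have h6 : (((u * g : G)) : G ⧸ P) = (g : G ⧸ P) := ha.2 ⟨u, huP⟩
      have h7 := QuotientGroup.eq.mp h6.symm
      rwa [← mul_assoc] at h7
    rw [hval g h5]
    exact h3 g hg h5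
  have hA2 : ∏ a ∈ (Finset.univ.filter (fun a : G ⧸ P => u • a = a)).filter (fun a => ¬ a ∈ fixedPoints P (G ⧸ P)), val a = 1 := by
    have hfq : Fintype (Quotient (orbitRel P (G ⧸ P))) := Fintype.ofFinite _
    rw [← Finset.prod_fiberwise _ (fun a : G ⧸ P => (Quotient.mk (orbitRel P (G ⧸ P)) a))]
    apply Finset.prod_eq_one
    intro O _
    by_cases hemp : (Finset.filter (fun i => Quotient.mk (orbitRel P (G ⧸ P)) i = O)
        ((Finset.univ.filter (fun a : G ⧸ P => u • a = a)).filter (fun a => ¬ a ∈ fixedPoints P (G ⧸ P)))) = ∅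
    · rw [hemp, Finset.prod_empty]
    obtain ⟨a, ha⟩ := Finset.nonempty_iff_ne_empty.mpr hemp
    simp only [Finset.mem_filter, Finset.mem_univ, true_and] at ha
    obtain ⟨⟨hua, hna⟩, haO⟩ := ha
    -- the orbit of `a`
    have hset : ∀ b : G ⧸ P, b ∈ (Finset.filter (fun i => Quotient.mk (orbitRel P (G ⧸ P)) i = O)
        ((Finset.univ.filter (fun a : G ⧸ P => u • a = a)).filter (fun a => ¬ a ∈ fixedPoints P (G ⧸ P)))) ↔
        b ∈ orbit P a ∧ u • b = b := by
      intro b
      simp only [Finset.mem_filter, Finset.mem_univ, true_and]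
      rw [← haO, Quotient.eq, orbitRel_apply]
      constructor
      · rintro ⟨⟨h5, _⟩, h6⟩
        exact ⟨h6, h5⟩
      · rintro ⟨h5, h6⟩
        refine ⟨⟨h6, ?_⟩, h5⟩
        intro hb
        apply hna
        obtain ⟨t, rfl⟩ := h5
        have h7 : t⁻¹ • (t • a) = t • a := hb t⁻¹
        rw [inv_smul_smul] at h7
        change t • a ∈ fixedPoints P (G ⧸ P) at hb
        rw [h7]; exact hb
    obtain ⟨g, hg⟩ := QuotientGroup.mk_surjective a
    have hgP : g⁻¹ * u * g ∈ P := by
      have h6 : (((u * g : G)) : G ⧸ P) = (g : G ⧸ P) := by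
        rw [← hg] at hua; exact hua
      have h7 := QuotientGroup.eq.mp h6.symm
      rwa [← mul_assoc] at h7
    rw [Finset.prod_eq_pow_card (b := f ⟨_, hgP⟩)]
    · -- the cardinality is divisible by `p`
      have hcard : p ∣ (Finset.filter (fun i => Quotient.mk (orbitRel P (G ⧸ P)) i = O)
        ((Finset.univ.filter (fun a : G ⧸ P => u • a = a)).filter (fun a => ¬ a ∈ fixedPoints P (G ⧸ P)))).card := by
        have hu : IsPGroup p (Subgroup.zpowers (⟨u, huP⟩ : P)) := hP.to_subgroup _
        have h5 := hu.card_modEq_card_fixedPoints (orbit P a)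
        have h6 : Nat.card (fixedPoints (Subgroup.zpowers (⟨u, huP⟩ : P)) (orbit P a)) =
            (Finset.filter (fun i => Quotient.mk (orbitRel P (G ⧸ P)) i = O)
            ((Finset.univ.filter (fun a : G ⧸ P => u • a = a)).filter (fun a => ¬ a ∈ fixedPoints P (G ⧸ P)))).card := by
          rw [← Fintype.card_coe, ← Nat.card_eq_fintype_card]
          refine Nat.card_congr ?_
          refine
            { toFun := fun b => ⟨b.1.1, (hset _).mpr ⟨b.1.2, ?_⟩⟩
              invFun := fun b => ⟨⟨b.1, ((hset _).mp b.2).1⟩, ?_⟩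
              left_inv := fun _ => rfl
              right_inv := fun _ => rfl }
          · exact congrArg Subtype.val (b.2 ⟨⟨u, huP⟩, Subgroup.mem_zpowers _⟩)
          · rintro ⟨_, k, rfl⟩
            apply Subtype.ext
            change u ^ k • (b : G ⧸ P) = b
            exact (mem_stabilizer_iff).mp ((stabilizer G (b : G ⧸ P)).zpow_mem (mem_stabilizer_iff.mpr ((hset _).mp b.2).2) k)
        obtain ⟨k, hk⟩ := hP.card_orbit a
        have hk0 : k ≠ 0 := by
          rintro rfl
          apply hna
          rw [pow_zero] at hk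
          rw [mem_fixedPoints_iff_card_orbit_eq_one]
          rw [← Nat.card_eq_fintype_card]
          exact hk
        rw [h6, hk] at h5
        have h7 : p ∣ p ^ k := dvd_pow_self p hk0
        exact (Nat.modEq_zero_iff_dvd).mp (h5.symm.trans ((Nat.modEq_zero_iff_dvd).mpr h7))
      obtain ⟨c, hc⟩ := hcard
      rw [hc, pow_mul, h4 g hgP, one_pow]
    · intro b hb
      obtain ⟨⟨t, hta⟩, hub⟩ := (hset b).mp hb
      have hb' : b = (((t : G) * g : G) : G ⧸ P) := by
        rw [← hta, ← hg]; rfl
      have h5 : ((t : G) * g)⁻¹ * u * ((t : G) * g) ∈ P := by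
        rw [hb'] at hub
        have h6 : (((u * ((t : G) * g) : G)) : G ⧸ P) = (((t : G) * g : G) : G ⧸ P) := hub
        have h7 := QuotientGroup.eq.mp h6.symm
        rwa [← mul_assoc] at h7
      rw [hb', hval _ h5]
      exact (h2 g t hgP t.2 h5).symm
  rw [hA1, hA2, mul_one]

end H73.TransferP
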