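import Mathlib

/-! S3930: definitions for the plan (H73.Pyr). -/

set_option autoImplicit false

namespace H73.Pyr

/-- `E` is a normal elementary abelian 2-subgroup containing all involutions of `G`. -/
structure Big {G : Type*} [Group G] (E : Subgroup G) : Prop where
  nor : E.Normal
  sq : ∀ e ∈ E, e * e = 1
  inv : ∀ x : G, x * x = 1 → x ∈ E

/-- `G` is transitive on the non-identity elements of `E`. -/
def Tr {G : Type*} [Group G] (E : Subgroup G) : Prop :=
  ∀ e ∈ E, ∀ f ∈ E, e ≠ 1 → f ≠ 1 → ∃ g : G, g * e * g⁻¹ = f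

/-- `G` is doubly transitive on the non-identity elements of `E`. -/
def TTr {G : Type*} [Group G] (E : Subgroup G) : Prop :=
  ∀ e ∈ E, ∀ f ∈ E, ∀ e' ∈ E, ∀ f' ∈ E, e ≠ 1 → f ≠ 1 → e ≠ f → e' ≠ 1 → f' ≠ 1 → e' ≠ f' →
    ∃ g : G, g * e * g⁻¹ = e' ∧ g * f * g⁻¹ = f'

end H73.Pyr
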