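import Mathlib
import Cfsg.Agent.Lib.H76.MaxClass
import Cfsg.Agent.Lib.H1.FrobSyl
import Cfsg.Agent.Lib.H38.SmallExp
import Cfsg.Agent.Lib.H73.Bas

/-!
# Finite groups in which every subgroup is normal (H73.Hamiltonian)
-/

set_option autoImplicit false
open scoped commutatorElement

namespace H73.Hamiltonian

theorem comm_mem {G : Type*} [Group G] (hn : ∀ H : Subgroup G, H.Normal) (x y : G) :
    ⁅x, y⁆ ∈ Subgroup.zpowers x ∧ ⁅x, y⁆ ∈ Subgroup.zpowers y := by
  constructor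
  · have h1 := (hn (Subgroup.zpowers x)).conj_mem _ (inv_mem (Subgroup.mem_zpowers x)) y
    have h2 := mul_mem (Subgroup.mem_zpowers x) h1
    have h3 : x * (y * x⁻¹ * y⁻¹) = ⁅x, y⁆ := by rw [commutatorElement_def]; group
    rwa [h3] at h2
  · have h1 := (hn (Subgroup.zpowers y)).conj_mem _ (Subgroup.mem_zpowers y) x
    have h2 := mul_mem h1 (inv_mem (Subgroup.mem_zpowers y))
    have h3 : x * y * x⁻¹ * y⁻¹ = ⁅x, y⁆ := by rw [commutatorElement_def]
    rwa [h3] at h2

theorem commute_of_mem_zpowers {G : Type*} [Group G] {x c : G} (h : c ∈ Subgroup.zpowers x) : Commute c x := by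
  obtain ⟨k, rfl⟩ := h
  exact (Commute.refl x).zpow_left k

theorem comm_pow {G : Type*} [Group G] {x y c : G} (hc : ⁅x, y⁆ = c) (hcx : Commute c x) (k : ℕ) :
    ⁅x ^ k, y⁆ = c ^ k := by
  have h0 : x * y = c * y * x := by rw [← hc, commutatorElement_def]; group
  have h1 : ∀ k : ℕ, x ^ k * y = c ^ k * y * x ^ k := by
    intro k
    induction k with
    | zero => simp
    | succ k ih =>
      have hck : Commute (c ^ k) x := hcx.pow_left k
      calc x ^ (k + 1) * y = x * (x ^ k * y) := by rw [pow_succ']; group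
        _ = (x * c ^ k) * y * x ^ k := by rw [ih]; group
        _ = c ^ k * (x * y) * x ^ k := by rw [← hck.eq]; group
        _ = c ^ (k + 1) * y * x ^ (k + 1) := by rw [h0, pow_succ c, pow_succ' x]; group
  rw [commutatorElement_def, h1 k]
  group

/-- core lemma, with `|y| ≤ |x|` -/
theorem core {G : Type*} [Group G] [Finite G] (hn : ∀ H : Subgroup G, H.Normal) (x y : G) (hxy : ¬ Commute x y)
    (hle : orderOf y ≤ orderOf x)
    (hmin : ∀ x' y' : G, ¬ Commute x' y' → orderOf x * orderOf y ≤ orderOf x' * orderOf y') :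
    x ^ 4 = 1 ∧ x ^ 2 = ⁅x, y⁆ ∧ y ^ 2 = ⁅x, y⁆ ∧ ⁅x, y⁆ ≠ 1 ∧ orderOf ⁅x, y⁆ = 2 := by
  set c := ⁅x, y⁆ with hc
  have hcx : c ∈ Subgroup.zpowers x := (comm_mem hn x y).1
  have hcy : c ∈ Subgroup.zpowers y := (comm_mem hn x y).2
  have hccx : Commute c x := commute_of_mem_zpowers hcx
  have hccy : Commute c y := commute_of_mem_zpowers hcy
  have hc1 : c ≠ 1 := by
    intro h
    apply hxy
    rw [hc, commutatorElement_eq_one_iff_commute] at h
    exact h
  have hx0 : 0 < orderOf x := orderOf_pos x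
  have hy0 : 0 < orderOf y := orderOf_pos y
  -- powers of smaller order commute
  have hpx : ∀ p : ℕ, p.Prime → p ∣ orderOf x → c ^ p = 1 := by
    intro p hp hpd
    by_contra hne
    have h1 : ¬ Commute (x ^ p) y := by
      intro h
      apply hne
      rw [← comm_pow hc.symm hccx p]
      exact commutatorElement_eq_one_iff_commute.mpr h
    have h2 := hmin _ _ h1
    have h3 : orderOf (x ^ p) * p = orderOf x := by
      rw [orderOf_pow_of_dvd hp.ne_zero hpd, Nat.div_mul_cancel hpd]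
    have h4 : orderOf (x ^ p) < orderOf x := by
      have h5 : 0 < orderOf (x ^ p) := orderOf_pos _
      have := hp.two_le
      nlinarith
    have h5 := Nat.le_of_mul_le_mul_right h2 hy0
    omega
  have hc' : ⁅y, x⁆ = c⁻¹ := by rw [hc, commutatorElement_inv]
  have hpy : ∀ p : ℕ, p.Prime → p ∣ orderOf y → c ^ p = 1 := by
    intro p hp hpd
    by_contra hne
    have h1 : ¬ Commute x (y ^ p) := by
      intro h
      apply hne
      have h2 := comm_pow hc' hccy.inv_left p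
      rw [commutatorElement_eq_one_iff_commute.mpr h.symm, inv_pow] at h2
      exact inv_eq_one.mp h2.symm
    have h2 := hmin _ _ h1
    have h3 : orderOf (y ^ p) * p = orderOf y := by
      rw [orderOf_pow_of_dvd hp.ne_zero hpd, Nat.div_mul_cancel hpd]
    have h4 : orderOf (y ^ p) < orderOf y := by
      have h5 : 0 < orderOf (y ^ p) := orderOf_pos _
      have := hp.two_le
      nlinarith
    have h5 := Nat.le_of_mul_le_mul_left h2 hx0
    omega
  have hcd : orderOf c ∣ orderOf x := orderOf_dvd_of_mem_zpowers hcx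
  have hcd' : orderOf c ∣ orderOf y := orderOf_dvd_of_mem_zpowers hcy
  obtain ⟨p, hp, hpc⟩ := Nat.exists_prime_and_dvd (show orderOf c ≠ 1 from fun h => hc1 (orderOf_eq_one_iff.mp h))
  have hpF : Fact p.Prime := ⟨hp⟩
  have hco : orderOf c = p := orderOf_eq_prime (hpx p hp (hpc.trans hcd)) hc1
  obtain ⟨a, ha⟩ : ∃ a, orderOf x = p ^ a := by
    refine ⟨_, Nat.eq_prime_pow_of_unique_prime_dvd hx0.ne' ?_⟩
    intro q hq hqd
    have h1 := hpx q hq hqd
    have h2 := orderOf_dvd_of_pow_eq_one h1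
    rw [hco] at h2
    exact ((Nat.prime_dvd_prime_iff_eq hp hq).mp h2).symm
  obtain ⟨b, hb⟩ : ∃ b, orderOf y = p ^ b := by
    refine ⟨_, Nat.eq_prime_pow_of_unique_prime_dvd hy0.ne' ?_⟩
    intro q hq hqd
    have h1 := hpy q hq hqd
    have h2 := orderOf_dvd_of_pow_eq_one h1
    rw [hco] at h2
    exact ((Nat.prime_dvd_prime_iff_eq hp hq).mp h2).symm
  have hba : b ≤ a := by
    rw [ha, hb] at hle
    exact (Nat.pow_le_pow_iff_right hp.one_lt).mp hle
  have hb2 : 2 ≤ b := by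
    by_contra hlt
    have h1 : orderOf y ∣ p := by
      rw [hb]
      have : p ^ b ∣ p ^ 1 := pow_dvd_pow p (by omega)
      rwa [pow_one] at this
    have h2 : Nat.card (Subgroup.zpowers c) = Nat.card (Subgroup.zpowers y) := by
      rw [Nat.card_zpowers, Nat.card_zpowers, hco]
      rcases (Nat.dvd_prime hp).mp h1 with h3 | h3
      · rw [h3, Nat.dvd_one] at hcd'
        exact absurd (orderOf_eq_one_iff.mp hcd') hc1
      · exact h3.symm
    have h3 : Subgroup.zpowers c = Subgroup.zpowers y :=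
      Subgroup.eq_of_le_of_card_ge (Subgroup.zpowers_le.mpr hcy) h2.ge
    have h4 : y ∈ Subgroup.zpowers c := by rw [h3]; exact Subgroup.mem_zpowers y
    obtain ⟨k, hk⟩ := h4
    apply hxy
    rw [← hk]
    exact (hccx.zpow_left k).symm
  set m := p ^ (b - 1) with hm
  have hmb : p ^ b = m * p := by
    rw [hm, ← pow_succ]; congr 1; omega
  set v := y ^ m with hv
  set w := x ^ (p ^ (a - b)) with hw
  have hwm : w ^ m = x ^ (p ^ (a - 1)) := by
    rw [hw, hm, ← pow_mul, ← pow_add]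
    congr 2
    omega
  set u := x ^ (p ^ (a - 1)) with hu
  have huo : orderOf u = p := by
    rw [hu, orderOf_pow_of_dvd (pow_ne_zero _ hp.ne_zero) (by rw [ha]; exact pow_dvd_pow p (by omega)), ha,
      Nat.pow_div (by omega) hp.pos]
    have : a - (a - 1) = 1 := by omega
    rw [this, pow_one]
  have hvo : orderOf v = p := by
    rw [hv, hm, orderOf_pow_of_dvd (pow_ne_zero _ hp.ne_zero) (by rw [hb]; exact pow_dvd_pow p (by omega)), hb,
      Nat.pow_div (by omega) hp.pos]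
    have : b - (b - 1) = 1 := by omega
    rw [this, pow_one]
  have hux : u ∈ Subgroup.zpowers x := pow_mem (Subgroup.mem_zpowers x) _
  have hvy : v ∈ Subgroup.zpowers y := pow_mem (Subgroup.mem_zpowers y) _
  have hcu : Subgroup.zpowers c = Subgroup.zpowers u := by
    apply H1.FrobSyl.eq_of_card_eq_of_le (A := Subgroup.zpowers x) inferInstance (Subgroup.zpowers_le.mpr hcx)
      (Subgroup.zpowers_le.mpr hux)
    rw [Nat.card_zpowers, Nat.card_zpowers, hco, huo]
  have hcv : Subgroup.zpowers c = Subgroup.zpowers v := by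
    apply H1.FrobSyl.eq_of_card_eq_of_le (A := Subgroup.zpowers y) inferInstance (Subgroup.zpowers_le.mpr hcy)
      (Subgroup.zpowers_le.mpr hvy)
    rw [Nat.card_zpowers, Nat.card_zpowers, hco, hvo]
  -- `k` with `u ^ k = v⁻¹`
  obtain ⟨k, hk⟩ : ∃ k : ℕ, u ^ k = v⁻¹ := by
    have h1 : v⁻¹ ∈ Subgroup.zpowers u := by
      rw [← hcu, hcv]; exact inv_mem (Subgroup.mem_zpowers v)
    exact mem_powers_iff_mem_zpowers.mpr h1
  set y1 := w ^ k * y with hy1
  have hxw : Commute x (w ^ k) := ((Commute.refl x).pow_right _).pow_right _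
  have hcy1 : ⁅x, y1⁆ = c := by
    rw [hy1, hc, commutatorElement_def, commutatorElement_def, mul_inv_rev]
    have h1 : x * (w ^ k * y) * x⁻¹ * (y⁻¹ * (w ^ k)⁻¹) = w ^ k * (x * y * x⁻¹ * y⁻¹) * (w ^ k)⁻¹ := by
      rw [← mul_assoc x, hxw.eq]; group
    rw [h1]
    have h2 : Commute c (w ^ k) := (hccx.pow_right _).pow_right _
    have h3 : x * y * x⁻¹ * y⁻¹ = c := by rw [hc, commutatorElement_def]
    rw [h3, ← h2.eq, mul_inv_cancel_right]
  have hy1nc : ¬ Commute x y1 := by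
    intro h
    rw [commutatorElement_eq_one_iff_commute.mpr h] at hcy1
    exact hc1 hcy1.symm
  have hy1o : orderOf y ≤ orderOf y1 := Nat.le_of_mul_le_mul_left (hmin _ _ hy1nc) hx0
  -- the commutator of `y` and `w ^ k`
  have hcom : y * w ^ k * y⁻¹ * (w ^ k)⁻¹ = (c ^ (p ^ (a - b) * k))⁻¹ := by
    have h1 : w ^ k = x ^ (p ^ (a - b) * k) := by rw [hw, ← pow_mul]
    have h2 := comm_pow hc.symm hccx (p ^ (a - b) * k)
    rw [← h1] at h2
    rw [← h2, commutatorElement_inv, commutatorElement_def]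
  have hpow := H38.SmallExp.mul_pow_classTwo (a := w ^ k) (b := y) (by
    intro z hz
    rw [hcom]
    rcases hz with rfl | hz
    · exact ((((hccx.pow_left (p ^ (a - b) * k)).inv_left).pow_right _).pow_right _).eq
    · rw [Set.mem_singleton_iff] at hz
      subst hz
      exact ((hccy.pow_left (p ^ (a - b) * k)).inv_left).eq) m
  rw [hcom] at hpow
  have h1 : (w ^ k) ^ m * y ^ m = 1 := by
    rw [← pow_mul, mul_comm, pow_mul, hwm, ← hv, hk, inv_mul_cancel]
  rw [h1, one_mul] at hpow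
  have hne : (w ^ k * y) ^ m ≠ 1 := by
    intro h
    have h2 := Nat.le_of_dvd (pow_pos hp.pos _) (orderOf_dvd_of_pow_eq_one h)
    have h3 : m < p ^ b := by
      rw [hmb]
      have := hp.one_lt
      have h4 : 0 < m := pow_pos hp.pos _
      nlinarith
    have h4 : p ^ b ≤ orderOf (w ^ k * y) := by rw [← hb]; exact hy1o
    omega
  rw [hpow] at hne
  -- arithmetic
  have hnd : ¬ p ∣ (p ^ (a - b) * k) * (m * (m - 1) / 2) := by
    intro hd
    apply hne
    rw [inv_pow, ← pow_mul]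
    obtain ⟨t, ht⟩ := hd
    rw [ht, pow_mul, ← hco, pow_orderOf_eq_one, one_pow, inv_one]
  have hT : 2 * (m * (m - 1) / 2) = m * (m - 1) := Nat.mul_div_cancel' (Nat.even_mul_pred_self m).two_dvd
  have hp2 : p = 2 := by
    by_contra hp2
    apply hnd
    apply dvd_mul_of_dvd_right
    have h2 : p ∣ 2 * (m * (m - 1) / 2) := by
      rw [hT]
      exact dvd_mul_of_dvd_left (dvd_pow_self p (by omega)) _
    rcases (Nat.Prime.dvd_mul hp).mp h2 with h3 | h3
    · exact absurd ((Nat.prime_dvd_prime_iff_eq hp Nat.prime_two).mp h3) hp2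
    · exact h3
  subst hp2
  have hb' : b = 2 := by
    by_contra hb'
    apply hnd
    apply dvd_mul_of_dvd_right
    have h2 : 4 ∣ m := by
      rw [hm]
      have : (2 : ℕ) ^ 2 ∣ 2 ^ (b - 1) := pow_dvd_pow 2 (by omega)
      exact this
    obtain ⟨t, ht⟩ := h2
    have h3 : 2 * (m * (m - 1) / 2) = 2 * (2 * (t * (m - 1))) := by
      rw [hT]
      nth_rewrite 1 [ht]
      ring
    exact ⟨_, Nat.eq_of_mul_eq_mul_left (by norm_num) h3⟩
  have ha' : a = 2 := by
    by_contra ha'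
    apply hnd
    apply dvd_mul_of_dvd_left
    apply dvd_mul_of_dvd_left
    exact dvd_pow_self 2 (by omega)
  subst hb' ha'
  have hcsq : ∀ z : G, orderOf z = 2 → Subgroup.zpowers c = Subgroup.zpowers z → z = c := by
    intro z hz hcz
    have h2 : c ∈ Subgroup.zpowers z := by rw [← hcz]; exact Subgroup.mem_zpowers c
    obtain ⟨j, hj⟩ : ∃ j : ℕ, z ^ j = c := mem_powers_iff_mem_zpowers.mpr h2
    rcases Nat.even_or_odd j with ⟨i, hi⟩ | ⟨i, hi⟩
    · exfalso
      apply hc1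
      rw [← hj, hi, ← two_mul, pow_mul, ← hz, pow_orderOf_eq_one, one_pow]
    · rw [← hj, hi, pow_succ, pow_mul, ← hz, pow_orderOf_eq_one, one_pow, one_mul]
  refine ⟨?_, ?_, ?_, hc1, hco⟩
  · have h2 := pow_orderOf_eq_one x
    rw [ha] at h2
    exact h2
  · have h2 := hcsq u huo hcu
    rw [← h2, hu]
    norm_num
  · have h2 := hcsq v hvo hcv
    rw [← h2, hv, hm]
    norm_num

theorem exists_pair {G : Type*} [Group G] [Finite G] (hn : ∀ H : Subgroup G, H.Normal) (hna : ∃ x y : G, ¬ Commute x y) :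
    ∃ x y : G, x ^ 4 = 1 ∧ x ^ 2 = ⁅x, y⁆ ∧ y ^ 2 = ⁅x, y⁆ ∧ ⁅x, y⁆ ≠ 1 ∧ orderOf ⁅x, y⁆ = 2 := by
  obtain ⟨x, y, hxy⟩ := hna
  obtain ⟨⟨x, y⟩, hxy, hmin⟩ := Set.exists_min_image {z : G × G | ¬ Commute z.1 z.2} (fun z => orderOf z.1 * orderOf z.2)
    (Set.toFinite _) ⟨(x, y), hxy⟩
  have hmin' : ∀ x' y' : G, ¬ Commute x' y' → orderOf x * orderOf y ≤ orderOf x' * orderOf y' := by
    intro x' y' h
    exact hmin (x', y') h
  rcases le_total (orderOf y) (orderOf x) with hle | hle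
  · exact ⟨x, y, core hn x y hxy hle hmin'⟩
  · refine ⟨y, x, core hn y x (fun h => hxy h.symm) hle ?_⟩
    intro x' y' h
    rw [mul_comm (orderOf y)]
    exact hmin' x' y' h

/-- the quaternion subgroup -/
theorem quaternion {G : Type*} [Group G] [Finite G] {x y : G} (hn : ∀ H : Subgroup G, H.Normal)
    (hx2 : x ^ 2 = ⁅x, y⁆) (hy2 : y ^ 2 = ⁅x, y⁆) (hc1 : ⁅x, y⁆ ≠ 1) (hco : orderOf ⁅x, y⁆ = 2) :
    Nonempty ((Subgroup.zpowers x ⊔ Subgroup.zpowers y : Subgroup G) ≃* QuaternionGroup 2) ∧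
      y * x * y⁻¹ = x⁻¹ ∧ x * y * x⁻¹ = y⁻¹ ∧ orderOf x = 4 ∧ orderOf y = 4 := by
  set c := ⁅x, y⁆ with hc
  have hc2 : c ^ 2 = 1 := by rw [← hco]; exact pow_orderOf_eq_one c
  have hord : ∀ z : G, z ^ 2 = c → orderOf z = 4 := by
    intro z hz
    have h1 : orderOf z = 2 ^ (1 + 1) := by
      apply orderOf_eq_prime_pow
      · rw [pow_one, hz]; exact hc1
      · have : z ^ 2 ^ (1 + 1) = (z ^ 2) ^ 2 := by rw [← pow_mul]; norm_num
        rw [this, hz, hc2]
    rw [h1]; norm_num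
  have hxo := hord x hx2
  have hyo := hord y hy2
  have hxyx : x * y * x⁻¹ * y⁻¹ = c := by rw [hc, commutatorElement_def]
  have h1 : y * x * y⁻¹ = x⁻¹ := by
    have h2 : x * y * x⁻¹ * y⁻¹ = x ^ 2 := hxyx.trans hx2.symm
    have h3 : y * x⁻¹ * y⁻¹ = x := by
      calc y * x⁻¹ * y⁻¹ = x⁻¹ * (x * y * x⁻¹ * y⁻¹) := by group
        _ = x⁻¹ * x ^ 2 := by rw [h2]
        _ = x := by group
    calc y * x * y⁻¹ = (y * x⁻¹ * y⁻¹)⁻¹ := by group
      _ = x⁻¹ := by rw [h3]
  have h2 : x * y * x⁻¹ = y⁻¹ := by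
    have h3 : y ^ 4 = 1 := by rw [← hyo]; exact pow_orderOf_eq_one y
    calc x * y * x⁻¹ = (x * y * x⁻¹ * y⁻¹) * y := by group
      _ = y ^ 2 * y := by rw [hxyx, hy2]
      _ = y ^ 4 * y⁻¹ := by group
      _ = y⁻¹ := by rw [h3, one_mul]
  have hyx : y ∉ Subgroup.zpowers x := by
    intro h
    apply hc1
    rw [hc, commutatorElement_eq_one_iff_commute]
    exact (commute_of_mem_zpowers h).symm
  have hnx := hn (Subgroup.zpowers x)
  have hny := hn (Subgroup.zpowers y)
  refine ⟨?_, h1, h2, hxo, hyo⟩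
  set Q := Subgroup.zpowers x ⊔ Subgroup.zpowers y with hQ
  have hxQ : x ∈ Q := Subgroup.mem_sup_left (Subgroup.mem_zpowers x)
  have hyQ : y ∈ Q := Subgroup.mem_sup_right (Subgroup.mem_zpowers y)
  have hzx : (Subgroup.zpowers (⟨x, hxQ⟩ : Q)) = (Subgroup.zpowers x).subgroupOf Q := by
    ext z
    rw [Subgroup.mem_subgroupOf]
    constructor
    · rintro ⟨k, rfl⟩
      exact ⟨k, rfl⟩
    · rintro ⟨k, hk⟩
      exact ⟨k, Subtype.ext hk⟩
  apply H76.MaxClass.quaternion_of (⟨x, hxQ⟩ : Q) (⟨y, hyQ⟩ : Q)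
  · rw [Subgroup.orderOf_mk, hxo]
  · exact Subtype.ext h1
  · exact Subtype.ext (hy2.trans hx2.symm)
  · intro h
    rw [hzx] at h
    exact hyx h
  · rw [hzx]
    change (Subgroup.zpowers x).relIndex Q = 2
    rw [hQ, sup_comm, Subgroup.relIndex_sup_right]
    have h3 : (Subgroup.zpowers x).relIndex (Subgroup.zpowers y) ∣ 4 := by
      rw [← hyo, ← Nat.card_zpowers]
      exact ⟨_, (((Subgroup.zpowers x).subgroupOf (Subgroup.zpowers y)).index_mul_card).symm⟩
    have h4 : (Subgroup.zpowers x).relIndex (Subgroup.zpowers y) ≠ 1 := by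
      intro h
      exact hyx (Subgroup.relIndex_eq_one.mp h (Subgroup.mem_zpowers y))
    have h5 : (Subgroup.zpowers x).relIndex (Subgroup.zpowers y) ≠ 4 := by
      intro h
      have h6 := ((Subgroup.zpowers x).subgroupOf (Subgroup.zpowers y)).index_mul_card
      change (Subgroup.zpowers x).relIndex (Subgroup.zpowers y) * _ = _ at h6
      rw [h, Nat.card_zpowers, hyo] at h6
      have h7 : Nat.card ((Subgroup.zpowers x).subgroupOf (Subgroup.zpowers y)) = 1 := by omega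
      rw [Subgroup.card_eq_one, Subgroup.subgroupOf_eq_bot, disjoint_iff] at h7
      apply hc1
      rw [← Subgroup.mem_bot, ← h7]
      exact comm_mem hn x y
    have h6 : (Subgroup.zpowers x).relIndex (Subgroup.zpowers y) ≤ 4 := Nat.le_of_dvd (by norm_num) h3
    generalize (Subgroup.zpowers x).relIndex (Subgroup.zpowers y) = r at h3 h4 h5 h6
    interval_cases r <;> simp_all

/-- `G = Q C(Q)` -/
theorem exists_mul {G : Type*} [Group G] [Finite G] {x y : G} (hn : ∀ H : Subgroup G, H.Normal)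
    (hxo : orderOf x = 4) (hyo : orderOf y = 4) (h1 : y * x * y⁻¹ = x⁻¹) (h2 : x * y * x⁻¹ = y⁻¹) (g : G) :
    ∃ q ∈ Subgroup.zpowers x ⊔ Subgroup.zpowers y, (q⁻¹ * g) * x * (q⁻¹ * g)⁻¹ = x ∧ (q⁻¹ * g) * y * (q⁻¹ * g)⁻¹ = y := by
  have hconj : ∀ z : G, orderOf z = 4 → g * z * g⁻¹ = z ∨ g * z * g⁻¹ = z⁻¹ := by
    intro z hz
    have hz4 : z ^ 4 = 1 := by rw [← hz]; exact pow_orderOf_eq_one z
    have h3 := (hn (Subgroup.zpowers z)).conj_mem z (Subgroup.mem_zpowers z) g
    have h4 : orderOf (g * z * g⁻¹) = 4 := by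
      have := orderOf_injective (MulAut.conj g).toMonoidHom (MulAut.conj g).injective z
      rw [← hz]
      simpa using this
    obtain ⟨j, hj⟩ : ∃ j : ℕ, z ^ j = g * z * g⁻¹ := mem_powers_iff_mem_zpowers.mpr h3
    have h5 : z ^ (j % 4) = g * z * g⁻¹ := by rw [← hj, ← hz, pow_mod_orderOf]
    have h6 : j % 4 < 4 := Nat.mod_lt _ (by norm_num)
    generalize j % 4 = i at h5 h6
    interval_cases i
    · rw [pow_zero] at h5
      rw [← h5, orderOf_one] at h4
      omega
    · left; rw [← h5, pow_one]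
    · exfalso
      rw [← h5] at h4
      have h7 : orderOf (z ^ 2) ∣ 2 := by
        apply orderOf_dvd_of_pow_eq_one
        rw [← pow_mul]; exact hz4
      rw [h4] at h7
      exact absurd (Nat.le_of_dvd (by norm_num) h7) (by norm_num)
    · right
      rw [← h5]
      symm
      apply inv_eq_of_mul_eq_one_left
      rw [← pow_succ]; exact hz4
  have hxQ : x ∈ Subgroup.zpowers x ⊔ Subgroup.zpowers y := Subgroup.mem_sup_left (Subgroup.mem_zpowers x)
  have hyQ : y ∈ Subgroup.zpowers x ⊔ Subgroup.zpowers y := Subgroup.mem_sup_right (Subgroup.mem_zpowers y)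
  have e1 : y⁻¹ * x * y = x⁻¹ := by
    have : x = y⁻¹ * (y * x * y⁻¹) * y := by group
    calc y⁻¹ * x * y = (y⁻¹ * (y * x * y⁻¹)⁻¹ * y) := by rw [h1, inv_inv]
      _ = x⁻¹ := by group
  have e2 : x⁻¹ * y * x = y⁻¹ := by
    calc x⁻¹ * y * x = (x⁻¹ * (x * y * x⁻¹)⁻¹ * x) := by rw [h2, inv_inv]
      _ = y⁻¹ := by group
  have e1' : y⁻¹ * x⁻¹ * y = x := by
    calc y⁻¹ * x⁻¹ * y = (y⁻¹ * x * y)⁻¹ := by group
      _ = x := by rw [e1, inv_inv]
  have e2' : x⁻¹ * y⁻¹ * x = y := by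
    calc x⁻¹ * y⁻¹ * x = (x⁻¹ * y * x)⁻¹ := by group
      _ = y := by rw [e2, inv_inv]
  have key : ∀ q z : G, (q⁻¹ * g) * z * (q⁻¹ * g)⁻¹ = q⁻¹ * (g * z * g⁻¹) * q := by
    intro q z; group
  rcases hconj x hxo with hx | hx <;> rcases hconj y hyo with hy | hy
  · exact ⟨1, one_mem _, by rw [key, hx]; group, by rw [key, hy]; group⟩
  · exact ⟨x, hxQ, by rw [key, hx]; group, by rw [key, hy]; exact e2'⟩
  · exact ⟨y, hyQ, by rw [key, hx]; exact e1', by rw [key, hy]; group⟩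
  · refine ⟨x * y, mul_mem hxQ hyQ, ?_, ?_⟩
    · rw [key, hx]
      calc (x * y)⁻¹ * x⁻¹ * (x * y) = y⁻¹ * x⁻¹ * y := by group
        _ = x := e1'
    · rw [key, hy]
      calc (x * y)⁻¹ * y⁻¹ * (x * y) = y⁻¹ * (x⁻¹ * y⁻¹ * x) * y := by group
        _ = y := by rw [e2']; group

end H73.Hamiltonian

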