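import Mathlib

/-!
# Multiplicative cocycles on `G`-sets and the transfer (H73.Cocycle)

A function `c : G → Ω → A` with `c (g h) x = c g (h • x) * c h x`. For every finite set `B` of points invariant under
a subgroup `S`, `s ↦ ∏ x ∈ B, c s x` is a homomorphism on `S`. The transfer is the case `Ω = G ⧸ H`.
-/

set_option autoImplicit false

namespace H73.Cocycle

variable {G Ω A : Type*} [Group G] [MulAction G Ω] [CommGroup A]

/-- a multiplicative cocycle -/
def IsCoc (c : G → Ω → A) : Prop := ∀ g h x, c (g * h) x = c g (h • x) * c h x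

variable {c : G → Ω → A}

theorem IsCoc.one (hc : IsCoc c) (x : Ω) : c 1 x = 1 := by
  have := hc 1 1 x
  rw [mul_one, one_smul] at this
  exact left_eq_mul.1 this

theorem prod_smul {B : Finset Ω} {t : G} (ht : ∀ x ∈ B, t • x ∈ B) (f : Ω → A) :
    ∏ x ∈ B, f (t • x) = ∏ x ∈ B, f x := by
  classical
  have h1 : B.image (t • ·) = B := by
    apply Finset.eq_of_subset_of_card_le
    · intro y hy
      obtain ⟨x, hx, rfl⟩ := Finset.mem_image.1 hy
      exact ht x hx
    · rw [Finset.card_image_of_injective _ (MulAction.injective t)]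
  conv_rhs => rw [← h1]
  rw [Finset.prod_image fun x _ y _ h => MulAction.injective t h]

theorem IsCoc.prod_mul (hc : IsCoc c) {B : Finset Ω} {t : G} (ht : ∀ x ∈ B, t • x ∈ B) (g : G) :
    ∏ x ∈ B, c (g * t) x = (∏ x ∈ B, c g x) * ∏ x ∈ B, c t x := by
  rw [← prod_smul ht (fun x => c g x), ← Finset.prod_mul_distrib]
  exact Finset.prod_congr rfl fun x _ => hc g t x

theorem IsCoc.prod_one (hc : IsCoc c) {B : Finset Ω} : ∏ x ∈ B, c 1 x = 1 :=
  Finset.prod_eq_one fun x _ => hc.one x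

theorem IsCoc.prod_inv (hc : IsCoc c) {B : Finset Ω} {t : G} (ht : ∀ x ∈ B, t • x ∈ B) :
    ∏ x ∈ B, c t⁻¹ x = (∏ x ∈ B, c t x)⁻¹ := by
  have h := hc.prod_mul ht t⁻¹
  rw [inv_mul_cancel, hc.prod_one] at h
  exact eq_inv_of_mul_eq_one_left h.symm

/-- `c (u ^ n) x` as a product over the first `n` points of the orbit -/
theorem IsCoc.pow (hc : IsCoc c) (u : G) (x : Ω) (n : ℕ) :
    c (u ^ n) x = ∏ i ∈ Finset.range n, c u (u ^ i • x) := by
  induction n with
  | zero => simp [hc.one]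
  | succ n ih => rw [pow_succ', hc, ih, Finset.prod_range_succ, mul_comm]

/-- shifting an invariant set by an element normalizing the group acting on it -/
theorem IsCoc.prod_shift (hc : IsCoc c) {B : Finset Ω} {u z : G} (ht : ∀ x ∈ B, (z⁻¹ * u * z) • x ∈ B) :
    ∏ x ∈ B, c u (z • x) = ∏ x ∈ B, c (z⁻¹ * u * z) x := by
  have h1 : ∀ x, c u (z • x) * c z x = c z ((z⁻¹ * u * z) • x) * c (z⁻¹ * u * z) x := by
    intro x
    rw [← hc, ← hc]
    congr 1
    group
  have h2 : (∏ x ∈ B, c u (z • x)) * ∏ x ∈ B, c z x =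
      (∏ x ∈ B, c (z⁻¹ * u * z) x) * ∏ x ∈ B, c z x := by
    rw [← Finset.prod_mul_distrib, Finset.prod_congr rfl fun x _ => h1 x, Finset.prod_mul_distrib,
      prod_smul ht (fun x => c z x), mul_comm]
  exact mul_right_cancel h2

/-- If `u` preserves `B` and `c (u ^ n) x = 1` for all `x ∈ B`, `n` the length of the `u`-cycle of `x`, then
`∏ x ∈ B, c u x = 1`. -/
theorem IsCoc.prod_eq_one_of_cycles [Finite G] (hc : IsCoc c) {B : Finset Ω} {u : G}
    (hu : ∀ x ∈ B, u • x ∈ B)
    (h : ∀ x ∈ B, c (u ^ Function.minimalPeriod (u • ·) x) x = 1) : ∏ x ∈ B, c u x = 1 := by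
  classical
  have hpow : ∀ (k : ℕ), ∀ x ∈ B, u ^ k • x ∈ B := by
    intro k
    induction k with
    | zero => intro x hx; simpa using hx
    | succ k ih => intro x hx; rw [pow_succ', mul_smul]; exact hu _ (ih x hx)
  let q : Ω → MulAction.orbitRel.Quotient (Subgroup.zpowers u) Ω := fun x => Quotient.mk _ x
  rw [← Finset.prod_fiberwise_of_maps_to (s := B) (t := B.image q) (g := q)
    (fun x hx => Finset.mem_image_of_mem q hx)]
  apply Finset.prod_eq_one
  intro ω hω
  obtain ⟨x, hx, rfl⟩ := Finset.mem_image.1 hω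
  have hper : 0 < Function.minimalPeriod (u • ·) x := by
    apply Function.minimalPeriod_pos_of_mem_periodicPts
    refine ⟨orderOf u, orderOf_pos u, ?_⟩
    rw [Function.IsPeriodicPt, Function.IsFixedPt, smul_iterate]
    show u ^ orderOf u • x = x
    rw [pow_orderOf_eq_one, one_smul]
  have hit : ∀ n : ℕ, (u • ·)^[n] x = u ^ n • x := by
    intro n; rw [smul_iterate]
  have himage : B.filter (fun y => q y = q x) =
      (Finset.range (Function.minimalPeriod (u • ·) x)).image (fun i => u ^ i • x) := by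
    ext y
    rw [Finset.mem_filter, Finset.mem_image]
    constructor
    · rintro ⟨hy, hyx⟩
      have h1 : y ∈ MulAction.orbit (Subgroup.zpowers u) x := by
        rw [← MulAction.orbitRel_apply]
        exact Quotient.exact hyx
      obtain ⟨⟨_, k, rfl⟩, rfl⟩ := h1
      have h2 : ∃ m : ℕ, u ^ m = u ^ k := by
        have : u ^ k ∈ Subgroup.zpowers u := ⟨k, rfl⟩
        rw [← mem_powers_iff_mem_zpowers] at this
        exact this
      obtain ⟨m, hm⟩ := h2
      refine ⟨m % Function.minimalPeriod (u • ·) x, Finset.mem_range.2 (Nat.mod_lt _ hper), ?_⟩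
      show u ^ (m % Function.minimalPeriod (u • ·) x) • x = u ^ k • x
      rw [← hit, Function.iterate_mod_minimalPeriod_eq, hit, hm]
    · rintro ⟨i, -, rfl⟩
      refine ⟨hpow i x hx, Quotient.sound ?_⟩
      show _ ∈ MulAction.orbit (Subgroup.zpowers u) x
      exact ⟨⟨u ^ i, ⟨(i : ℤ), by simp⟩⟩, rfl⟩
  rw [himage, Finset.prod_image]
  · rw [← hc.pow]
    exact h x hx
  · intro i hi j hj hij
    have hi' := Finset.mem_range.1 hi
    have hj' := Finset.mem_range.1 hj
    simp only at hij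
    rw [← hit, ← hit] at hij
    exact Function.iterate_injOn_Iio_minimalPeriod hi' hj' hij

/-! ### the transfer cocycle -/

section Transfer

variable {H : Subgroup G} (φ : H →* A)

/-- the chosen representative of a coset -/
noncomputable def rep (x : G ⧸ H) : G := Quotient.out x

theorem rep_mk (x : G ⧸ H) : ((rep x : G) : G ⧸ H) = x := Quotient.out_eq x

theorem rep_mem (g : G) (x : G ⧸ H) : (rep (g • x))⁻¹ * g * rep x ∈ H := by
  rw [mul_assoc]
  apply QuotientGroup.eq.1
  rw [rep_mk]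
  conv_lhs => rw [← rep_mk x]
  rfl

/-- the transfer cocycle of `φ : H →* A` -/
noncomputable def tc (g : G) (x : G ⧸ H) : A := φ ⟨(rep (g • x))⁻¹ * g * rep x, rep_mem g x⟩

theorem tc_isCoc : IsCoc (tc φ) := by
  intro g h x
  unfold tc
  rw [← map_mul]
  congr 1
  apply Subtype.ext
  show (rep ((g * h) • x))⁻¹ * (g * h) * rep x = (rep (g • h • x))⁻¹ * g * rep (h • x) * ((rep (h • x))⁻¹ * h * rep x)
  rw [mul_smul]
  group

theorem tc_mul (φ ψ : H →* A) (g : G) (x : G ⧸ H) : tc (φ * ψ) g x = tc φ g x * tc ψ g x := rfl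

/-- value of the transfer cocycle at a fixed coset -/
theorem tc_of_smul_eq {g : G} {x : G ⧸ H} (h : g • x = x) :
    ∃ hm : (rep x)⁻¹ * g * rep x ∈ H, tc φ g x = φ ⟨(rep x)⁻¹ * g * rep x, hm⟩ := by
  have h1 := rep_mem g x
  rw [h] at h1
  refine ⟨h1, ?_⟩
  unfold tc
  congr 1
  apply Subtype.ext
  show (rep (g • x))⁻¹ * g * rep x = (rep x)⁻¹ * g * rep x
  rw [h]

theorem tc_of_mem {g : G} (hg : g ∈ H) : tc φ g ((1 : G) : G ⧸ H) = φ ⟨g, hg⟩ := by
  have h1 : g • ((1 : G) : G ⧸ H) = ((1 : G) : G ⧸ H) := by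
    show ((g * 1 : G) : G ⧸ H) = _
    rw [mul_one]
    apply QuotientGroup.eq.2
    simpa using H.inv_mem hg
  obtain ⟨h2, h3⟩ := tc_of_smul_eq φ h1
  have h4 : rep ((1 : G) : G ⧸ H) ∈ H := by
    have := rep_mk ((1 : G) : G ⧸ H)
    have h5 := QuotientGroup.eq.1 this.symm
    simpa using h5
  rw [h3]
  have h6 : (⟨(rep ((1 : G) : G ⧸ H))⁻¹ * g * rep ((1 : G) : G ⧸ H), h2⟩ : H) =
      ⟨rep ((1 : G) : G ⧸ H), h4⟩⁻¹ * ⟨g, hg⟩ * ⟨rep ((1 : G) : G ⧸ H), h4⟩ := rfl
  rw [h6, map_mul, map_mul, map_inv, mul_comm, mul_inv_cancel_left]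

/-- the transfer (as a product over all cosets) -/
noncomputable def trans [Fintype (G ⧸ H)] : G →* A where
  toFun g := ∏ x, tc φ g x
  map_one' := (tc_isCoc φ).prod_one
  map_mul' g h := (tc_isCoc φ).prod_mul (fun _ _ => Finset.mem_univ _) g

theorem trans_apply [Fintype (G ⧸ H)] (g : G) : trans φ g = ∏ x, tc φ g x := rfl

theorem trans_mul [Fintype (G ⧸ H)] (φ ψ : H →* A) : trans (φ * ψ) = trans φ * trans ψ := by
  ext g
  rw [MonoidHom.mul_apply, trans_apply, trans_apply, trans_apply, ← Finset.prod_mul_distrib]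
  rfl

end Transfer

end H73.Cocycle
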