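import Mathlib
import Cfsg.Agent.Lib.H69.SubgroupCount
import Cfsg.Agent.Lib.H1.Frat

/-!
# P. Hall's enumeration principle modulo `p^2` (H73.Enum)
-/

set_option autoImplicit false

open scoped commutatorElement

namespace H73.Enum

/-! ### subgroups of index `p` in an elementary abelian group -/

section Elem

variable {A : Type*} [CommGroup A] [Finite A] {p : ℕ} [hp : Fact p.Prime]

theorem card_range_eq {χ : A →* ℂˣ} (hA : ∀ a : A, a ^ p = 1) (hχ : χ ≠ 1) : χ.ker.index = p := by
  rw [Subgroup.index_ker]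
  have hfin : Finite χ.range := Finite.of_surjective χ.rangeRestrict χ.rangeRestrict_surjective
  have hcyc : IsCyclic χ.range := inferInstance
  have h1 : Nat.card χ.range ∣ p := by
    rw [← IsCyclic.exponent_eq_card]
    apply Monoid.exponent_dvd_of_forall_pow_eq_one
    rintro ⟨_, a, rfl⟩
    apply Subtype.ext
    show (χ a) ^ p = 1
    rw [← map_pow, hA, map_one]
  rcases (Nat.dvd_prime hp.out).1 h1 with h2 | h2
  · exfalso
    apply hχ
    ext a
    have h3 : χ.range = ⊥ := Subgroup.card_eq_one.1 h2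
    have h4 : χ a ∈ χ.range := ⟨a, rfl⟩
    rw [h3, Subgroup.mem_bot] at h4
    rw [h4]; rfl
  · exact h2

/-- `(p - 1) * #{M : |A : M| = p} = |A| - 1`. -/
theorem card_index_p (hA : ∀ a : A, a ^ p = 1) :
    (p - 1) * Nat.card {M : Subgroup A // M.index = p} = Nat.card A - 1 := by
  classical
  have hcardX : Nat.card (A →* ℂˣ) = Nat.card A := by
    have : NeZero (Monoid.exponent A) := ⟨Monoid.exponent_ne_zero_of_finite⟩
    exact CommGroup.card_monoidHom_of_hasEnoughRootsOfUnity A ℂ
  have hfin : Finite (A →* ℂˣ) := by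
    apply Nat.finite_of_card_ne_zero
    rw [hcardX]
    exact Nat.card_pos.ne'
  have : Fintype (A →* ℂˣ) := Fintype.ofFinite _
  have : Fintype (Subgroup A) := Fintype.ofFinite _
  have h1 : ((Finset.univ : Finset (A →* ℂˣ)).erase 1).card = Nat.card A - 1 := by
    rw [Finset.card_erase_of_mem (Finset.mem_univ _), Finset.card_univ, ← Nat.card_eq_fintype_card, hcardX]
  have h2 := Finset.card_eq_sum_card_fiberwise (s := (Finset.univ : Finset (A →* ℂˣ)).erase 1)
    (t := (Finset.univ : Finset (Subgroup A)).filter (fun M => M.index = p)) (f := fun χ => χ.ker) (by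
      intro χ hχ
      rw [Finset.mem_coe, Finset.mem_erase] at hχ
      rw [Finset.mem_coe, Finset.mem_filter]
      exact ⟨Finset.mem_univ _, card_range_eq hA hχ.1⟩)
  have h3 : ∀ M ∈ (Finset.univ : Finset (Subgroup A)).filter (fun M => M.index = p),
      (((Finset.univ : Finset (A →* ℂˣ)).erase 1).filter (fun χ => χ.ker = M)).card = p - 1 := by
    intro M hM
    rw [Finset.mem_filter] at hM
    have hMi : M.index = p := hM.2
    have hcardQ : Nat.card (A ⧸ M) = p := by rw [← Subgroup.index_eq_card, hMi]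
    have hcardY : Nat.card ((A ⧸ M) →* ℂˣ) = p := by
      have : NeZero (Monoid.exponent (A ⧸ M)) := ⟨Monoid.exponent_ne_zero_of_finite⟩
      rw [CommGroup.card_monoidHom_of_hasEnoughRootsOfUnity (A ⧸ M) ℂ, hcardQ]
    have hfinY : Finite ((A ⧸ M) →* ℂˣ) := by
      apply Nat.finite_of_card_ne_zero
      rw [hcardY]
      exact hp.out.ne_zero
    have : Fintype ((A ⧸ M) →* ℂˣ) := Fintype.ofFinite _
    have h4 : (((Finset.univ : Finset (A →* ℂˣ)).erase 1).filter (fun χ => χ.ker = M)) =
        ((Finset.univ : Finset ((A ⧸ M) →* ℂˣ)).erase 1).image (fun ψ => ψ.comp (QuotientGroup.mk' M)) := by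
      ext χ
      rw [Finset.mem_filter, Finset.mem_erase, Finset.mem_image]
      constructor
      · rintro ⟨⟨hχ, -⟩, hk⟩
        refine ⟨QuotientGroup.lift M χ (by rw [← hk]), ?_, ?_⟩
        · rw [Finset.mem_erase]
          refine ⟨?_, Finset.mem_univ _⟩
          intro h
          apply hχ
          ext a
          have : QuotientGroup.lift M χ (by rw [← hk]) (a : A ⧸ M) = 1 := by rw [h]; rfl
          rw [QuotientGroup.lift_mk] at this
          rw [this]; rfl
        · ext a
          rfl
      · rintro ⟨ψ, hψ, rfl⟩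
        have hψ1 : ψ ≠ 1 := (Finset.mem_erase.1 hψ).1
        have hker : ψ.ker = ⊥ := by
          have h5 : ψ.ker.index = p := card_range_eq (A := A ⧸ M) (fun a => by
            obtain ⟨b, rfl⟩ := QuotientGroup.mk_surjective a
            rw [← QuotientGroup.mk_pow, hA]; rfl) hψ1
          have h6 := Subgroup.card_mul_index ψ.ker
          rw [h5, hcardQ] at h6
          have h7 : Nat.card ψ.ker = 1 := Nat.eq_of_mul_eq_mul_right hp.out.pos (by rw [h6, one_mul])
          exact Subgroup.card_eq_one.1 h7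
        refine ⟨⟨?_, Finset.mem_univ _⟩, ?_⟩
        · intro h
          apply hψ1
          refine MonoidHom.ext fun a => ?_
          obtain ⟨b, rfl⟩ := QuotientGroup.mk_surjective a
          have := DFunLike.congr_fun h b
          rw [MonoidHom.comp_apply] at this
          rw [show ((b : A ⧸ M)) = QuotientGroup.mk' M b from rfl, this]
          rfl
        · rw [← MonoidHom.comap_ker, hker]
          exact QuotientGroup.ker_mk' M
    rw [h4, Finset.card_image_of_injective, Finset.card_erase_of_mem (Finset.mem_univ _), Finset.card_univ,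
      ← Nat.card_eq_fintype_card, hcardY]
    intro ψ ψ' h
    refine MonoidHom.ext fun a => ?_
    obtain ⟨b, rfl⟩ := QuotientGroup.mk_surjective a
    exact DFunLike.congr_fun h b
  rw [Finset.sum_congr rfl h3, Finset.sum_const, smul_eq_mul, h1] at h2
  rw [Nat.card_eq_fintype_card, Fintype.card_subtype, h2, mul_comm]

/-- the number of subgroups of index `p`, mod `p^2` -/
theorem card_index_p_modEq {e : ℕ} (hA : ∀ a : A, a ^ p = 1) (he : Nat.card A = p ^ e) (he2 : 2 ≤ e) :
    Nat.card {M : Subgroup A // M.index = p} ≡ 1 + p [MOD p ^ 2] := by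
  have h1 := card_index_p (p := p) hA
  have hp1 := hp.out.one_lt
  rw [he] at h1
  obtain ⟨m, hm⟩ : ∃ m, m = Nat.card {M : Subgroup A // M.index = p} := ⟨_, rfl⟩
  rw [← hm] at h1 ⊢
  have h2 : (p - 1) * m ≡ (p - 1) * (1 + p) [MOD p ^ 2] := by
    have h3 : (p - 1) * m + 1 = p ^ e := by
      rw [h1]
      exact Nat.sub_add_cancel (Nat.one_le_pow _ _ hp.out.pos)
    have h4 : (p - 1) * (1 + p) + 1 = p ^ 2 := by
      obtain ⟨q, rfl⟩ : ∃ q, p = q + 1 := ⟨p - 1, by lia⟩
      simp only [Nat.add_sub_cancel]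
      ring
    apply Nat.ModEq.add_right_cancel' 1
    rw [h3, h4]
    have h5 : p ^ 2 ∣ p ^ e := pow_dvd_pow p he2
    exact ((Nat.modEq_zero_iff_dvd).2 h5).trans ((Nat.modEq_zero_iff_dvd).2 dvd_rfl).symm
  refine Nat.ModEq.cancel_left_of_coprime ?_ h2
  apply Nat.Coprime.pow_left
  rw [Nat.Prime.coprime_iff_not_dvd hp.out]
  intro h
  exact absurd (Nat.le_of_dvd (by lia) h) (by lia)

end Elem

/-! ### counting subgroups of subgroups and quotients -/

section Count

variable {G : Type*} [Group G]

theorem card_index_quot (N : Subgroup G) [N.Normal] (j : ℕ) :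
    Nat.card {M : Subgroup G // N ≤ M ∧ M.index = j} = Nat.card {M : Subgroup (G ⧸ N) // M.index = j} := by
  apply Nat.card_congr
  refine
    { toFun := fun M => ⟨M.1.map (QuotientGroup.mk' N), ?_⟩
      invFun := fun M => ⟨M.1.comap (QuotientGroup.mk' N), ?_, ?_⟩
      left_inv := ?_
      right_inv := ?_ }
  · rw [Subgroup.index_map_eq _ (QuotientGroup.mk'_surjective N) (by rw [QuotientGroup.ker_mk']; exact M.2.1)]
    exact M.2.2
  · intro x hx
    rw [Subgroup.mem_comap]
    have : (QuotientGroup.mk' N) x = 1 := (QuotientGroup.eq_one_iff x).2 hx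
    rw [this]
    exact one_mem _
  · rw [Subgroup.index_comap_of_surjective _ (QuotientGroup.mk'_surjective N)]
    exact M.2
  · rintro ⟨M, h1, h2⟩
    apply Subtype.ext
    show (M.map (QuotientGroup.mk' N)).comap (QuotientGroup.mk' N) = M
    rw [Subgroup.comap_map_eq, QuotientGroup.ker_mk', sup_eq_left.2 h1]
  · rintro ⟨M, h2⟩
    apply Subtype.ext
    show (M.comap (QuotientGroup.mk' N)).map (QuotientGroup.mk' N) = M
    rw [Subgroup.map_comap_eq_self_of_surjective (QuotientGroup.mk'_surjective N)]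

theorem card_sub (K : Subgroup G) (j : ℕ) :
    Nat.card {H : Subgroup K // Nat.card H = j} = Nat.card {H : Subgroup G // H ≤ K ∧ Nat.card H = j} := by
  apply Nat.card_congr
  refine
    { toFun := fun H => ⟨H.1.map K.subtype, Subgroup.map_subtype_le _, ?_⟩
      invFun := fun H => ⟨H.1.subgroupOf K, ?_⟩
      left_inv := ?_
      right_inv := ?_ }
  · rw [Subgroup.card_map_of_injective K.subtype_injective]
    exact H.2
  · exact (Nat.card_congr (Subgroup.subgroupOfEquivOfLe H.2.1).toEquiv).trans H.2.2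
  · rintro ⟨H, h⟩
    apply Subtype.ext
    exact Subgroup.comap_map_eq_self_of_injective K.subtype_injective H
  · rintro ⟨H, h1, h2⟩
    apply Subtype.ext
    exact Subgroup.map_subgroupOf_eq_of_le h1

end Count

/-! ### `p`-groups -/

section PGroup

variable {P : Type*} [Group P] [Finite P] {p : ℕ} [hp : Fact p.Prime]

theorem isCoatom_of_index {M : Subgroup P} (hM : M.index = p) : IsCoatom M := by
  constructor
  · rintro rfl
    rw [Subgroup.index_top] at hM
    exact hp.out.one_lt.ne hM
  · intro K hK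
    have h1 : K.index ∣ p := by rw [← hM]; exact Subgroup.index_dvd_of_le hK.le
    rcases (Nat.dvd_prime hp.out).1 h1 with h2 | h2
    · exact Subgroup.index_eq_one.1 h2
    · exfalso
      have h3 := Subgroup.relIndex_mul_index hK.le
      rw [h2, hM] at h3
      have h4 : M.relIndex K = 1 := Nat.eq_of_mul_eq_mul_right hp.out.pos (by rw [h3, one_mul])
      exact hK.not_ge (Subgroup.relIndex_eq_one.1 h4)

theorem isCoatom_iff (hP : IsPGroup p P) {M : Subgroup P} : IsCoatom M ↔ M.index = p :=
  ⟨H1.Frat.index_eq_of_isCoatom hP, isCoatom_of_index⟩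

theorem frattini_le_of_index {M : Subgroup P} (hM : M.index = p) : frattini P ≤ M := by
  intro x hx
  exact H1.Frat.mem_frattini_iff.1 hx M (isCoatom_of_index hM)

/-- the key congruence -/
theorem key (hP : IsPGroup p P) {N : Subgroup P} (hN : frattini P ≤ N) (hN1 : N ≠ ⊤) :
    Nat.card {M : Subgroup P // N ≤ M ∧ M.index = p} ≡
      1 + p * Nat.card {M : Subgroup P // N ≤ M ∧ M.index = p ^ 2} [MOD p ^ 2] ∧
    (p ^ 2 ∣ N.index → Nat.card {M : Subgroup P // N ≤ M ∧ M.index = p} ≡ 1 + p [MOD p ^ 2] ∧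
      Nat.card {M : Subgroup P // N ≤ M ∧ M.index = p ^ 2} ≡ 1 [MOD p]) := by
  have hnil : Group.IsNilpotent P := hP.isNilpotent
  have hcomm : commutator P ≤ N := H1.Frat.commutator_le_frattini.trans hN
  have hNn : N.Normal := Subgroup.Normal.of_commutator_le _ hcomm
  let inst : CommGroup (P ⧸ N) :=
    { (inferInstance : Group (P ⧸ N)) with
      mul_comm := by
        intro a b
        obtain ⟨a, rfl⟩ := QuotientGroup.mk_surjective a
        obtain ⟨b, rfl⟩ := QuotientGroup.mk_surjective b
        apply QuotientGroup.eq.2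
        apply hcomm
        have : (a * b)⁻¹ * (b * a) = ⁅b⁻¹, a⁻¹⁆ := by rw [commutatorElement_def]; group
        rw [this, commutator_def]
        exact Subgroup.commutator_mem_commutator (Subgroup.mem_top _) (Subgroup.mem_top _) }
  have hexp : ∀ a : P ⧸ N, a ^ p = 1 := by
    intro a
    obtain ⟨a, rfl⟩ := QuotientGroup.mk_surjective a
    rw [← QuotientGroup.mk_pow]
    exact (QuotientGroup.eq_one_iff _).2 (hN (H1.Frat.pow_mem_frattini hP a))
  obtain ⟨e, he⟩ := IsPGroup.iff_card.1 (hP.to_quotient N)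
  have he0 : e ≠ 0 := by
    rintro rfl
    rw [pow_zero, ← Subgroup.index_eq_card] at he
    exact hN1 (Subgroup.index_eq_one.1 he)
  have hidx : N.index = p ^ e := by rw [Subgroup.index_eq_card, he]
  rw [card_index_quot, card_index_quot]
  by_cases he2 : 2 ≤ e
  · have h1 : Nat.card {M : Subgroup (P ⧸ N) // M.index = p} ≡ 1 + p [MOD p ^ 2] :=
      card_index_p_modEq hexp he he2
    have h2 : Nat.card {M : Subgroup (P ⧸ N) // M.index = p ^ 2} ≡ 1 [MOD p] := by
      have h3 : Nat.card {M : Subgroup (P ⧸ N) // M.index = p ^ 2} =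
          Nat.card {M : Subgroup (P ⧸ N) // Nat.card M = p ^ (e - 2)} := by
        apply Nat.card_congr
        apply Equiv.subtypeEquivRight
        intro M
        have h4 := Subgroup.card_mul_index M
        rw [he] at h4
        have h5 : p ^ e = p ^ (e - 2) * p ^ 2 := by rw [← pow_add, Nat.sub_add_cancel he2]
        have hpos : 0 < p ^ 2 := pow_pos hp.out.pos 2
        have hpos' : 0 < p ^ (e - 2) := pow_pos hp.out.pos _
        constructor
        · intro h
          rw [h, h5] at h4
          exact Nat.eq_of_mul_eq_mul_right hpos h4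
        · intro h
          rw [h, h5] at h4
          exact Nat.eq_of_mul_eq_mul_left hpos' h4
      rw [h3]
      exact H69.SubgroupCount.card_modEq_one p _ hp.out (by rw [he]; exact pow_dvd_pow p (by lia))
    refine ⟨?_, fun _ => ⟨h1, h2⟩⟩
    refine h1.trans (Nat.ModEq.add_left 1 ?_)
    have h4 := Nat.ModEq.mul_left' p h2
    rw [mul_one, ← pow_two] at h4
    exact h4.symm
  · have he1 : e = 1 := by lia
    rw [he1, pow_one] at he
    have h1 : Nat.card {M : Subgroup (P ⧸ N) // M.index = p} = 1 := by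
      have h2 := card_index_p (p := p) hexp
      rw [he] at h2
      have hp1 := hp.out.one_lt
      exact Nat.eq_of_mul_eq_mul_left (show 0 < p - 1 by lia) (by rw [h2, mul_one])
    have h2 : Nat.card {M : Subgroup (P ⧸ N) // M.index = p ^ 2} = 0 := by
      rw [Nat.card_eq_zero]
      left
      refine ⟨fun M => ?_⟩
      have h3 : M.1.index ∣ Nat.card (P ⧸ N) := Subgroup.index_dvd_card _
      rw [M.2, he] at h3
      have h4 := Nat.le_of_dvd hp.out.pos h3
      have h5 := hp.out.one_lt
      nlinarith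
    refine ⟨by rw [h1, h2, mul_zero, add_zero], ?_⟩
    intro h
    exfalso
    rw [hidx, he1, pow_one] at h
    have h4 := Nat.le_of_dvd hp.out.pos h
    have h5 := hp.out.one_lt
    nlinarith

/-- `|P : Φ(P)| ≥ p ^ 2` for noncyclic `P` -/
theorem sq_dvd_index_frattini (hP : IsPGroup p P) (hc : ¬ IsCyclic P) : p ^ 2 ∣ (frattini P).index := by
  obtain ⟨e, he⟩ := IsPGroup.iff_card.1 (hP.to_quotient (frattini P))
  rw [← Subgroup.index_eq_card] at he
  rw [he]
  apply pow_dvd_pow
  by_contra hlt
  apply hc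
  have h1 : e = 0 ∨ e = 1 := by lia
  rcases h1 with rfl | rfl
  · have h2 : frattini P = ⊤ := Subgroup.index_eq_one.1 (by simpa using he)
    have h3 : (⊥ : Subgroup P) = ⊤ := frattini_nongenerating (by rw [h2, sup_top_eq])
    have : Subsingleton P := by
      rw [← Subgroup.subsingleton_iff]
      exact subsingleton_of_bot_eq_top h3
    exact isCyclic_of_subsingleton
  · rw [pow_one] at he
    have h2 : frattini P ≠ ⊤ := by
      intro h
      rw [h, Subgroup.index_top] at he
      exact hp.out.one_lt.ne he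
    obtain ⟨x, -, hx⟩ := SetLike.exists_of_lt h2.lt_top
    have h3 : Subgroup.zpowers x = ⊤ := by
      by_contra h4
      obtain h | ⟨M, hM, hle⟩ := eq_top_or_exists_le_coatom (Subgroup.zpowers x)
      · exact h4 h
      · have h5 : M.index = p := H1.Frat.index_eq_of_isCoatom hP hM
        have h6 : frattini P ≤ M := frattini_le_of_index h5
        have h7 : frattini P = M := by
          apply (eq_of_le_of_not_lt h6)
          intro hlt
          exact hM.1 ((isCoatom_of_index he).2 M hlt)
        apply hx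
        rw [h7]
        exact hle (Subgroup.mem_zpowers x)
    exact ⟨x, fun y => by
      have := Subgroup.mem_top y
      rwa [← h3] at this⟩

/-- the enumeration principle -/
theorem enum (hP : IsPGroup p P) (hc : ¬ IsCyclic P) {n a : ℕ} (hn : Nat.card P = p ^ n) (ha : a + 2 ≤ n)
    [Fintype {M : Subgroup P // M.index = p}] :
    ∑ M : {M : Subgroup P // M.index = p}, Nat.card {H : Subgroup M.1 // Nat.card H = p ^ a} ≡
      Nat.card {H : Subgroup P // Nat.card H = p ^ a} + p [MOD p ^ 2] := by
  classical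
  have : Fintype (Subgroup P) := Fintype.ofFinite _
  obtain ⟨𝓗, h𝓗⟩ : ∃ S : Finset (Subgroup P), S = Finset.univ.filter (fun H : Subgroup P => Nat.card H = p ^ a) := ⟨_, rfl⟩
  obtain ⟨𝓜, h𝓜⟩ : ∃ S : Finset (Subgroup P), S = Finset.univ.filter (fun M : Subgroup P => M.index = p) := ⟨_, rfl⟩
  obtain ⟨𝓚, h𝓚⟩ : ∃ S : Finset (Subgroup P), S = Finset.univ.filter (fun M : Subgroup P => frattini P ≤ M ∧ M.index = p ^ 2) := ⟨_, rfl⟩
  have hsq := sq_dvd_index_frattini hP hc
  have hftop : frattini P ≠ ⊤ := by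
    intro h
    rw [h, Subgroup.index_top] at hsq
    have := Nat.le_of_dvd one_pos hsq
    have := hp.out.one_lt
    nlinarith
  have hHcard : Nat.card {H : Subgroup P // Nat.card H = p ^ a} = 𝓗.card := by
    rw [h𝓗, Nat.card_eq_fintype_card, Fintype.card_subtype]
  have hsub : ∀ K : Subgroup P, Nat.card {H : Subgroup K // Nat.card H = p ^ a} = (𝓗.filter (fun H => H ≤ K)).card := by
    intro K
    rw [card_sub, Nat.card_eq_fintype_card, Fintype.card_subtype, h𝓗, Finset.filter_filter]
    congr 1
    ext H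
    simp only [Finset.mem_filter, Finset.mem_univ, true_and]
    exact and_comm
  have hsumM : ∑ M : {M : Subgroup P // M.index = p}, Nat.card {H : Subgroup M.1 // Nat.card H = p ^ a} =
      ∑ M ∈ 𝓜, (𝓗.filter (fun H => H ≤ M)).card := by
    rw [h𝓜]
    rw [Finset.sum_congr rfl (fun M _ => hsub M.1)]
    symm
    apply Finset.sum_subtype
    intro M
    simp
  rw [hsumM, hHcard]
  have hdc1 : ∑ M ∈ 𝓜, (𝓗.filter (fun H => H ≤ M)).card = ∑ H ∈ 𝓗, (𝓜.filter (fun M => H ≤ M)).card :=
    (Finset.sum_card_bipartiteAbove_eq_sum_card_bipartiteBelow (s := 𝓗) (t := 𝓜) (fun H M => H ≤ M)).symm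
  have hdc2 : ∑ M ∈ 𝓚, (𝓗.filter (fun H => H ≤ M)).card = ∑ H ∈ 𝓗, (𝓚.filter (fun M => H ≤ M)).card :=
    (Finset.sum_card_bipartiteAbove_eq_sum_card_bipartiteBelow (s := 𝓗) (t := 𝓚) (fun H M => H ≤ M)).symm
  have hH : ∀ H ∈ 𝓗, (𝓜.filter (fun M => H ≤ M)).card ≡ 1 + p * (𝓚.filter (fun M => H ≤ M)).card [MOD p ^ 2] := by
    intro H hH
    rw [h𝓗, Finset.mem_filter] at hH
    have hHtop : H ≠ ⊤ := by
      intro h
      have := hH.2
      rw [h, Subgroup.card_top, hn] at this
      have := Nat.pow_right_injective hp.out.two_le this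
      lia
    have hNtop : H ⊔ frattini P ≠ ⊤ := fun h => hHtop (frattini_nongenerating h)
    have h1 := (key hP (N := H ⊔ frattini P) le_sup_right hNtop).1
    have h2 : Nat.card {M : Subgroup P // H ⊔ frattini P ≤ M ∧ M.index = p} = (𝓜.filter (fun M => H ≤ M)).card := by
      rw [Nat.card_eq_fintype_card, Fintype.card_subtype, h𝓜, Finset.filter_filter]
      congr 1
      ext M
      simp only [Finset.mem_filter, Finset.mem_univ, true_and, sup_le_iff]
      constructor
      · rintro ⟨⟨h1, h2⟩, h3⟩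
        exact ⟨h3, h1⟩
      · rintro ⟨h3, h1⟩
        exact ⟨⟨h1, frattini_le_of_index h3⟩, h3⟩
    have h3 : Nat.card {M : Subgroup P // H ⊔ frattini P ≤ M ∧ M.index = p ^ 2} = (𝓚.filter (fun M => H ≤ M)).card := by
      rw [Nat.card_eq_fintype_card, Fintype.card_subtype, h𝓚, Finset.filter_filter]
      congr 1
      ext M
      simp only [Finset.mem_filter, Finset.mem_univ, true_and, sup_le_iff]
      tauto
    rw [h2, h3] at h1
    exact h1
  have hK : ∀ K ∈ 𝓚, p * (𝓗.filter (fun H => H ≤ K)).card ≡ p [MOD p ^ 2] := by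
    intro K hK
    rw [h𝓚, Finset.mem_filter] at hK
    rw [← hsub]
    have h1 : p ^ a ∣ Nat.card K := by
      have h2 := Subgroup.card_mul_index K
      rw [hK.2.2, hn] at h2
      have h3 : p ^ n = p ^ (n - 2) * p ^ 2 := by rw [← pow_add, Nat.sub_add_cancel (by lia)]
      rw [h3] at h2
      rw [Nat.eq_of_mul_eq_mul_right (pow_pos hp.out.pos 2) h2]
      exact pow_dvd_pow p (by lia)
    have h4 := Nat.ModEq.mul_left' p (H69.SubgroupCount.card_modEq_one p a hp.out h1)
    rw [mul_one, ← pow_two] at h4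
    exact h4
  have hKcard : p * 𝓚.card ≡ p [MOD p ^ 2] := by
    have h1 := ((key hP (N := frattini P) le_rfl hftop).2 hsq).2
    have h2 : Nat.card {M : Subgroup P // frattini P ≤ M ∧ M.index = p ^ 2} = 𝓚.card := by
      rw [Nat.card_eq_fintype_card, Fintype.card_subtype, h𝓚]
    rw [h2] at h1
    have h4 := Nat.ModEq.mul_left' p h1
    rw [mul_one, ← pow_two] at h4
    exact h4
  have hsum : ∀ {ι : Type _} (s : Finset ι) (f g : ι → ℕ), (∀ i ∈ s, f i ≡ g i [MOD p ^ 2]) →
      ∑ i ∈ s, f i ≡ ∑ i ∈ s, g i [MOD p ^ 2] := by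
    intro ι s f g h
    induction s using Finset.induction_on with
    | empty => rfl
    | insert i s hi ih =>
      rw [Finset.sum_insert hi, Finset.sum_insert hi]
      exact Nat.ModEq.add (h i (Finset.mem_insert_self _ _)) (ih fun j hj => h j (Finset.mem_insert_of_mem hj))
  rw [hdc1]
  calc ∑ H ∈ 𝓗, (𝓜.filter (fun M => H ≤ M)).card
      ≡ ∑ H ∈ 𝓗, (1 + p * (𝓚.filter (fun M => H ≤ M)).card) [MOD p ^ 2] := hsum _ _ _ hH
    _ = 𝓗.card + ∑ K ∈ 𝓚, p * (𝓗.filter (fun H => H ≤ K)).card := by
        rw [Finset.sum_add_distrib, ← Finset.mul_sum, ← hdc2, ← Finset.mul_sum]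
        simp
    _ ≡ 𝓗.card + ∑ K ∈ 𝓚, p [MOD p ^ 2] := Nat.ModEq.add_left _ (hsum _ _ _ hK)
    _ = 𝓗.card + p * 𝓚.card := by rw [Finset.sum_const, smul_eq_mul, mul_comm]
    _ ≡ 𝓗.card + p [MOD p ^ 2] := Nat.ModEq.add_left _ hKcard

/-- the number of maximal subgroups -/
theorem card_max (hP : IsPGroup p P) (hc : ¬ IsCyclic P) :
    Nat.card {M : Subgroup P // M.index = p} ≡ 1 + p [MOD p ^ 2] := by
  have hsq := sq_dvd_index_frattini hP hc
  have hftop : frattini P ≠ ⊤ := by
    intro h
    rw [h, Subgroup.index_top] at hsq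
    have := Nat.le_of_dvd one_pos hsq
    have := hp.out.one_lt
    nlinarith
  have h1 := ((key hP (N := frattini P) le_rfl hftop).2 hsq).1
  have h2 : Nat.card {M : Subgroup P // frattini P ≤ M ∧ M.index = p} = Nat.card {M : Subgroup P // M.index = p} := by
    apply Nat.card_congr
    apply Equiv.subtypeEquivRight
    intro M
    exact ⟨fun h => h.2, fun h => ⟨frattini_le_of_index h, h⟩⟩
  rwa [h2] at h1

end PGroup

end H73.Enum
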