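import Cfsg.Agent.Lib.H96.FrDef
import Cfsg.Agent.Lib.H73.FrStep

/-! Frame stabilisers, piece P1c. -/

set_option autoImplicit false

namespace H73.FrC2

open Matrix H96.Fr H73.FrStep

variable {ι F : Type*} [Fintype ι] [DecidableEq ι] [Field F] {K : Subgroup ((ι → F) ≃ₗ[F] (ι → F))}

lemma expand (v : ι → F) : v = ∑ k, v k • (e k : ι → F) := by
  funext i
  rw [Finset.sum_apply, Finset.sum_eq_single i]
  · rw [Pi.smul_apply, e_self, smul_eq_mul, mul_one]
  · intro j _ hj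
    rw [Pi.smul_apply, e_ne hj.symm, smul_zero]
  · intro h; exact absurd (Finset.mem_univ i) h

lemma fix_of {x : (ι → F) ≃ₗ[F] (ι → F)} {S : Finset ι} (hx : ∀ j, j ∈ S → x (e j) = e j) {v : ι → F}
    (hv : ∀ k, k ∉ S → v k = 0) : x v = v := by
  conv_lhs => rw [expand v]
  conv_rhs => rw [expand v]
  rw [map_sum]
  apply Finset.sum_congr rfl
  intro k _
  rw [map_smul]
  by_cases hk : k ∈ S
  · rw [hx k hk]
  · rw [hv k hk, zero_smul, zero_smul]

section
variable {d g : (ι → F) ≃ₗ[F] (ι → F)} {S : Finset ι}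

lemma pres_neg (h2 : (2:F) ≠ 0) (hd : ∀ x k, d x k = if k ∈ S then - x k else x k) (hgd : g * d = d * g)
    {v : ι → F} (hv : ∀ k, k ∉ S → v k = 0) : ∀ k, k ∉ S → g v k = 0 := by
  intro k hk
  have h1 : d v = - v := by
    funext l
    rw [hd]
    by_cases hl : l ∈ S
    · rw [if_pos hl, Pi.neg_apply]
    · rw [if_neg hl, Pi.neg_apply, hv l hl, neg_zero]
  have h3 : d (g v) = - g v := by
    rw [← LinearEquiv.mul_apply, ← hgd, LinearEquiv.mul_apply, h1, map_neg]
  have h4 : d (g v) k = - g v k := by rw [h3, Pi.neg_apply]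
  rw [hd, if_neg hk] at h4
  have h5 : (2:F) * g v k = 0 := by
    rw [two_mul]; nth_rw 1 [h4]; ring
  exact (mul_eq_zero.mp h5).resolve_left h2

lemma pres_pos (h2 : (2:F) ≠ 0) (hd : ∀ x k, d x k = if k ∈ S then - x k else x k) (hgd : g * d = d * g)
    {v : ι → F} (hv : ∀ k, k ∈ S → v k = 0) : ∀ k, k ∈ S → g v k = 0 := by
  intro k hk
  have h1 : d v = v := by
    funext l
    rw [hd]
    by_cases hl : l ∈ S
    · rw [if_pos hl, hv l hl, neg_zero]
    · rw [if_neg hl]
  have h3 : d (g v) = g v := by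
    rw [← LinearEquiv.mul_apply, ← hgd, LinearEquiv.mul_apply, h1]
  have h4 : d (g v) k = g v k := by rw [h3]
  rw [hd, if_pos hk] at h4
  have h5 : (2:F) * g v k = 0 := by
    rw [two_mul]; nth_rw 1 [← h4]; ring
  exact (mul_eq_zero.mp h5).resolve_left h2

lemma norm_sup (h2 : (2:F) ≠ 0) (hd : ∀ x k, d x k = if k ∈ S then - x k else x k) (hgd : g * d = d * g)
    {x : (ι → F) ≃ₗ[F] (ι → F)} (hx : Sup x Sᶜ) : Sup (g⁻¹ * x * g) Sᶜ := by
  intro j hj
  rw [Finset.mem_compl, not_not] at hj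
  have hx' : ∀ j, j ∈ S → x (e j) = e j := fun j hj => hx j (by rw [Finset.mem_compl, not_not]; exact hj)
  have h1 : ∀ k, k ∉ S → g (e j) k = 0 :=
    pres_neg h2 hd hgd (fun k hk => e_ne (by rintro rfl; exact hk hj))
  rw [LinearEquiv.mul_apply, LinearEquiv.mul_apply, fix_of hx' h1, ← LinearEquiv.mul_apply, inv_mul_cancel]
  rfl

end

/-- the statement of `norm_lem` for both directions -/
def NL (K : Subgroup ((ι → F) ≃ₗ[F] (ι → F))) : Prop :=
  ∀ g ∈ K, ∀ R : Finset ι, (R.card = 3 ∨ 5 ≤ R.card) → (∀ x ∈ K, Sup x R → Mon x) →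
    (∀ x ∈ K, Sup x R → Sup (g * x * g⁻¹) R) → (∀ x ∈ K, Sup x R → Sup (g⁻¹ * x * g) R) →
    ∀ j ∈ R, ∃ k ∈ R, g (e j) = e k ∨ g (e j) = - e k

lemma cS (nl : NL K) (D : Dat K) (h2 : (2:F) ≠ 0) {r : ℕ} (hr : MonLe K r) {S : Finset ι}
    {d : (ι → F) ≃ₗ[F] (ι → F)} (hd : ∀ x k, d x k = if k ∈ S then - x k else x k)
    (hS2 : 2 ≤ S.card) (hSr : S.card ≤ r) (hR : Sᶜ.card = 3 ∨ 5 ≤ Sᶜ.card) (hRr : Sᶜ.card ≤ r)
    {g : (ι → F) ≃ₗ[F] (ι → F)} (hg : g ∈ K) (hgd : g * d = d * g) : Mon g := by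
  have hgd' : g⁻¹ * d = d * g⁻¹ := by
    have : g⁻¹ * (g * d) * g⁻¹ = g⁻¹ * (d * g) * g⁻¹ := by rw [hgd]
    calc g⁻¹ * d = g⁻¹ * (d * g) * g⁻¹ := by group
      _ = g⁻¹ * (g * d) * g⁻¹ := this.symm
      _ = d * g⁻¹ := by group
  have h1 := nl g hg Sᶜ hR (fun x hx hxs => hr x hx _ hRr hxs)
    (fun x _ hxs => by
      have := norm_sup h2 hd hgd' hxs
      rwa [inv_inv] at this)
    (fun x _ hxs => norm_sup h2 hd hgd hxs)
  refine step0 D h2 hg hS2 ?_ (fun x hx hxs => hr x hx _ hSr hxs)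
  intro j hj
  obtain ⟨k, _, hk⟩ := h1 j (by rw [Finset.mem_compl]; exact hj)
  exact ⟨k, hk⟩

theorem c2_of (nl : NL K) (D : Dat K) (h2 : (2:F) ≠ 0) {r : ℕ} (hr : MonLe K r)
    (hN : (Fintype.card ι = 5 ∧ 3 ≤ r) ∨ (Fintype.card ι = 7 ∧ 5 ≤ r) ∨
      (7 ≤ Fintype.card ι ∧ Fintype.card ι ≤ r + 2)) : C2 K := by
  intro g hg i j hij hgd
  have hc : ({i, j} : Finset ι).card = 2 := Finset.card_pair hij
  have hcc : ({i, j} : Finset ι)ᶜ.card = Fintype.card ι - 2 := by rw [Finset.card_compl, hc]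
  refine cS nl D h2 hr (S := {i, j}) (d := sg i j) (fun x k => ?_) (by rw [hc]) (by rw [hc]; omega)
    (by rw [hcc]; omega) (by rw [hcc]; omega) hg hgd
  rw [sg_apply]
  simp only [Finset.mem_insert, Finset.mem_singleton]

theorem c4_of (nl : NL K) (D : Dat K) (h2 : (2:F) ≠ 0) {r : ℕ} (hr : MonLe K r)
    (hN : (Fintype.card ι = 5 ∧ 4 ≤ r) ∨ (Fintype.card ι = 7 ∧ 5 ≤ r) ∨
      (9 ≤ Fintype.card ι ∧ Fintype.card ι ≤ r + 2)) : C4 K := by
  classical
  intro g hg i j k l hnd hgd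
  have hne : i ≠ j ∧ i ≠ k ∧ i ≠ l ∧ j ≠ k ∧ j ≠ l ∧ k ≠ l := by
    simp only [List.nodup_cons, List.mem_cons, List.not_mem_nil, or_false, not_or,
      List.nodup_nil, and_true, not_false_iff] at hnd
    tauto
  obtain ⟨hij, hik, hil, hjk, hjl, hkl⟩ := hne
  set S : Finset ι := {i, j, k, l} with hS
  have hc : S.card = 4 := by
    rw [hS, Finset.card_insert_of_notMem, Finset.card_insert_of_notMem, Finset.card_pair hkl]
    · simp [hjk, hjl]
    · simp [hij, hik, hil]
  have hcc : Sᶜ.card = Fintype.card ι - 4 := by rw [Finset.card_compl, hc]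
  have hd : ∀ (x : ι → F) m, (sg i j * sg k l : (ι → F) ≃ₗ[F] (ι → F)) x m = if m ∈ S then - x m else x m := by
    intro x m
    rw [LinearEquiv.mul_apply, sg_apply, sg_apply]
    by_cases h1 : m = i ∨ m = j
    · have h3 : ¬ (m = k ∨ m = l) := by
        rcases h1 with rfl | rfl
        · rintro (h | h)
          · exact hik h
          · exact hil h
        · rintro (h | h)
          · exact hjk h
          · exact hjl h
      have h4 : m ∈ S := by rw [hS]; rcases h1 with rfl | rfl <;> simp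
      rw [if_pos h1, if_neg h3, if_pos h4]
    · rw [if_neg h1]
      by_cases h3 : m = k ∨ m = l
      · have h4 : m ∈ S := by rw [hS]; rcases h3 with rfl | rfl <;> simp
        rw [if_pos h3, if_pos h4]
      · have h4 : m ∉ S := by
          rw [hS]
          simp only [Finset.mem_insert, Finset.mem_singleton]
          tauto
        rw [if_neg h3, if_neg h4]
  by_cases h5 : Fintype.card ι = 5
  · -- one remaining coordinate
    rw [h5] at hcc
    obtain ⟨m, hm⟩ := Finset.card_eq_one.mp hcc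
    refine step0 D h2 hg (I := S) (by rw [hc]; norm_num) ?_
      (fun x hx hxs => hr x hx _ (by rw [hc]; omega) hxs)
    intro a ha
    have ham : a = m := by
      have : a ∈ Sᶜ := by rw [Finset.mem_compl]; exact ha
      rw [hm, Finset.mem_singleton] at this
      exact this
    subst ham
    have h1 : ∀ b, b ∈ S → g (e a) b = 0 :=
      pres_pos h2 hd hgd (fun b hb => e_ne (by rintro rfl; exact ha hb))
    have h2' : ∀ b, b ≠ a → g (e a) b = 0 := by
      intro b hb
      apply h1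
      by_contra hbS
      have : b ∈ Sᶜ := by rw [Finset.mem_compl]; exact hbS
      rw [hm, Finset.mem_singleton] at this
      exact hb this
    set c := g (e a) a with hcdef
    have h3 : g (e a) = c • (e a : ι → F) := by
      funext b
      by_cases hb : b = a
      · rw [hb, Pi.smul_apply, e_self, smul_eq_mul, mul_one]
      · rw [h2' b hb, Pi.smul_apply, e_ne hb, smul_zero]
    have h4 : (e a : ι → F) ⬝ᵥ e a = 1 := by
      simp [e]
    have h6 := D.iso g hg (e a) (e a)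
    rw [h3, smul_dotProduct, dotProduct_smul, h4, smul_eq_mul, smul_eq_mul, mul_one] at h6
    refine ⟨a, ?_⟩
    rcases mul_self_eq_one_iff.mp h6 with h | h
    · left; rw [h3, h, one_smul]
    · right; rw [h3, h, neg_smul, one_smul]
  · refine cS nl D h2 hr (S := S) hd (by rw [hc]; norm_num) (by rw [hc]; omega)
      (by rw [hcc]; omega) (by rw [hcc]; omega) hg hgd

end H73.FrC2
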