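import Mathlib
import Cfsg.Agent.Lib.H73.Enum
import Cfsg.Agent.Lib.H3.RankTwo
import Cfsg.Agent.Lib.H3.OmegaRankTwo
import Cfsg.Agent.Lib.H38.SmallExp

/-!
# Kulakoff's theorem for odd `p` (H73.Kulakoff)
-/

set_option autoImplicit false

open scoped commutatorElement

namespace H73.Kulakoff

open H73.Enum

universe u

section

variable {P : Type u} [Group P] [Finite P] {p : ℕ} [hp : Fact p.Prime]

theorem card_mul_relIndex_of_le {H K : Subgroup P} (h : H ≤ K) : Nat.card H * H.relIndex K = Nat.card K := by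
  rw [← Subgroup.relIndex_bot_left, ← Subgroup.relIndex_bot_left]
  exact Subgroup.relIndex_mul_relIndex ⊥ H K bot_le h

theorem not_le_cyclic {E : Subgroup P} (hE : Cfsg.IsElementaryAbelian p E) (hEc : Nat.card E = p ^ 2)
    (C : Subgroup P) (hC : IsCyclic C) : ¬ E ≤ C := by
  intro hle
  have hp1 := hp.out.one_lt
  have h1 : IsCyclic E := by
    have : IsCyclic (E.subgroupOf C) := inferInstance
    exact isCyclic_of_surjective (Subgroup.subgroupOfEquivOfLe hle) (Subgroup.subgroupOfEquivOfLe hle).surjective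
  have h2 : Nat.card E ∣ p := by
    rw [← IsCyclic.exponent_eq_card]
    apply Monoid.exponent_dvd_of_forall_pow_eq_one
    rintro ⟨e, he⟩
    exact Subtype.ext (hE.2 e he)
  rw [hEc] at h2
  have := Nat.le_of_dvd hp.out.pos h2
  nlinarith

/-- maximal subgroups of a noncyclic `p`-group (`p` odd, order at least `p^3`) with a cyclic maximal subgroup -/
theorem cyclic_iff (hp2 : p ≠ 2) (hP : IsPGroup p P) {n : ℕ} (hn : Nat.card P = p ^ n) (hn3 : 3 ≤ n)
    {E : Subgroup P} (hEn : E.Normal) (hE : Cfsg.IsElementaryAbelian p E) (hEc : Nat.card E = p ^ 2)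
    {x : P} (hx : (Subgroup.zpowers x).index = p) {M : Subgroup P} (hM : M.index = p) :
    IsCyclic M ↔ ¬ E ≤ M := by
  have hnil : Group.IsNilpotent P := hP.isNilpotent
  have hp1 := hp.out.one_lt
  refine ⟨fun h => not_le_cyclic hE hEc M h, fun hEM => ?_⟩
  obtain ⟨C, hC⟩ : ∃ C, C = Subgroup.zpowers x := ⟨_, rfl⟩
  have hCcyc : IsCyclic C := by rw [hC]; infer_instance
  rw [← hC] at hx
  have hEC : ¬ E ≤ C := not_le_cyclic hE hEc C hCcyc
  have hCmax := isCoatom_of_index hx
  have hMmax := isCoatom_of_index hM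
  have hCn : C.Normal := H1.Frat.normal_of_isCoatom hCmax
  have hMn : M.Normal := H1.Frat.normal_of_isCoatom hMmax
  have hcardi : ∀ K : Subgroup P, K.index = p → Nat.card K = p ^ (n - 1) := by
    intro K hK
    have h1 := Subgroup.card_mul_index K
    rw [hK, hn] at h1
    have h2 : p ^ n = p ^ (n - 1) * p := by rw [← pow_succ, Nat.sub_add_cancel (by lia)]
    rw [h2] at h1
    exact Nat.eq_of_mul_eq_mul_right hp.out.pos h1
  -- intersections with `E`
  have hint : ∀ K : Subgroup P, K.index = p → K.Normal → ¬ E ≤ K → Nat.card (E ⊓ K : Subgroup P) = p := by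
    intro K hK hKn hle
    have h3 := card_mul_relIndex_of_le (inf_le_left : E ⊓ K ≤ E)
    rw [Subgroup.inf_relIndex_left, hEc] at h3
    have h4 : K.relIndex E ∣ p := by
      rw [← hK]
      exact Subgroup.relIndex_dvd_index_of_normal _ _
    rcases (Nat.dvd_prime hp.out).1 h4 with h5 | h5
    · exact absurd (Subgroup.relIndex_eq_one.1 h5) hle
    · rw [h5, pow_two] at h3
      exact Nat.eq_of_mul_eq_mul_right hp.out.pos h3
  -- the commutator subgroup
  have hcommC : commutator P ≤ C := H1.Frat.commutator_le_of_isCoatom hCmax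
  have hsup : C ⊔ E = ⊤ := by
    by_contra h
    have h1 : C < C ⊔ E := lt_of_le_of_ne le_sup_left (fun h2 => hEC (by rw [h2]; exact le_sup_right))
    exact h (hCmax.2 _ h1)
  have hcommE : commutator P ≤ E := by
    have h1 : Function.Surjective ((QuotientGroup.mk' E).comp C.subtype) := by
      intro y
      obtain ⟨y, rfl⟩ := QuotientGroup.mk_surjective y
      have h2 : y ∈ C ⊔ E := by rw [hsup]; exact Subgroup.mem_top _
      obtain ⟨c, hc, e, he, rfl⟩ := Subgroup.mem_sup_of_normal_right.1 h2
      refine ⟨⟨c, hc⟩, ?_⟩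
      apply QuotientGroup.eq.2
      simpa using he
    have h3 : IsCyclic (P ⧸ E) := isCyclic_of_surjective _ h1
    rw [commutator_def, Subgroup.commutator_le]
    intro a _ b _
    rw [← QuotientGroup.eq_one_iff]
    have h4 : (a : P ⧸ E) * b = b * a := by
      obtain ⟨g, hg⟩ := h3.exists_generator
      obtain ⟨i, hi⟩ := hg (a : P ⧸ E)
      obtain ⟨j, hj⟩ := hg (b : P ⧸ E)
      simp only at hi hj
      rw [← hi, ← hj, ← zpow_add, ← zpow_add, add_comm]
    show ((a * b * a⁻¹ * b⁻¹ : P) : P ⧸ E) = 1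
    rw [QuotientGroup.mk_mul, QuotientGroup.mk_mul, QuotientGroup.mk_mul, h4, QuotientGroup.mk_inv, QuotientGroup.mk_inv]
    group
  have hZ0 : (E ⊓ C) ≤ Subgroup.center P := by
    have : (E ⊓ C).Normal := inferInstance
    exact H3.OmegaRankTwo.le_center_of_card_le hP _ (hint C hx hCn hEC).le
  have hcomm : ∀ a b : P, b * a * b⁻¹ * a⁻¹ ∈ E ⊓ C := by
    intro a b
    have : b * a * b⁻¹ * a⁻¹ ∈ commutator P := by
      rw [commutator_def]
      exact Subgroup.commutator_mem_commutator (Subgroup.mem_top b) (Subgroup.mem_top a)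
    exact ⟨hcommE this, hcommC this⟩
  have hmul : ∀ a b : P, (a * b) ^ p = a ^ p * b ^ p := by
    intro a b
    rw [H38.SmallExp.mul_pow_classTwo (fun y _ => ((Subgroup.mem_center_iff.1 (hZ0 (hcomm a b)) y).symm))]
    have h1 : p ∣ p * (p - 1) / 2 := by
      have h2 : 2 ∣ p - 1 := by
        rcases hp.out.eq_two_or_odd with h | h
        · exact absurd h hp2
        · lia
      rw [Nat.mul_div_assoc _ h2]
      exact dvd_mul_right _ _
    obtain ⟨k, hk⟩ := h1
    rw [hk, pow_mul, hE.2 _ (hcomm a b).1, one_pow, mul_one]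
  let φ : P →* P := MonoidHom.mk' (fun y => y ^ p) hmul
  have hφ : ∀ y, φ y = y ^ p := fun y => rfl
  have hEker : E ≤ φ.ker := fun e he => by rw [MonoidHom.mem_ker, hφ]; exact hE.2 e he
  have hkerC : Nat.card (φ.ker ⊓ C : Subgroup P) ∣ p := by
    have h1 : IsCyclic (φ.ker ⊓ C : Subgroup P) := by
      have : IsCyclic ((φ.ker ⊓ C).subgroupOf C) := inferInstance
      exact isCyclic_of_surjective (Subgroup.subgroupOfEquivOfLe (inf_le_right : φ.ker ⊓ C ≤ C))
        (Subgroup.subgroupOfEquivOfLe _).surjective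
    rw [← IsCyclic.exponent_eq_card]
    apply Monoid.exponent_dvd_of_forall_pow_eq_one
    rintro ⟨e, he⟩
    exact Subtype.ext he.1
  have hker : φ.ker = E := by
    symm
    apply Subgroup.eq_of_le_of_card_ge hEker
    rw [hEc]
    have h1 := card_mul_relIndex_of_le (inf_le_left : φ.ker ⊓ C ≤ φ.ker)
    rw [Subgroup.inf_relIndex_left] at h1
    have h2 : C.relIndex φ.ker ∣ p := by
      rw [← hx]; exact Subgroup.relIndex_dvd_index_of_normal _ _
    rw [← h1, pow_two]
    exact Nat.mul_le_mul (Nat.le_of_dvd hp.out.pos hkerC) (Nat.le_of_dvd hp.out.pos h2)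
  have hMmap : Nat.card (M.map φ) = p ^ (n - 2) := by
    rw [← Subgroup.relIndex_ker, hker]
    have h1 := card_mul_relIndex_of_le (inf_le_right : E ⊓ M ≤ M)
    rw [Subgroup.inf_relIndex_right, hint M hM hMn hEM, hcardi M hM] at h1
    have h2 : p ^ (n - 1) = p * p ^ (n - 2) := by rw [← pow_succ']; congr 1; lia
    rw [h2] at h1
    exact Nat.eq_of_mul_eq_mul_left hp.out.pos h1
  have hrange : Nat.card φ.range = p ^ (n - 2) := by
    rw [← Subgroup.index_ker, hker]
    have h1 := Subgroup.card_mul_index E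
    rw [hEc, hn] at h1
    have h2 : p ^ n = p ^ 2 * p ^ (n - 2) := by rw [← pow_add]; congr 1; lia
    rw [h2] at h1
    exact Nat.eq_of_mul_eq_mul_left (pow_pos hp.out.pos 2) h1
  have hMr : M.map φ = φ.range := by
    apply Subgroup.eq_of_le_of_card_ge
    · rintro _ ⟨y, -, rfl⟩
      exact ⟨y, rfl⟩
    · rw [hMmap, hrange]
  obtain ⟨y, hy, hyx⟩ : φ x ∈ M.map φ := by rw [hMr]; exact ⟨x, rfl⟩
  rw [hφ, hφ] at hyx
  have hordx : orderOf x = p ^ (n - 1) := by
    rw [← Nat.card_zpowers, ← hC]
    exact hcardi C hx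
  have hordxp : orderOf (x ^ p) = p ^ (n - 2) := by
    rw [orderOf_pow_of_dvd hp.out.ne_zero, hordx]
    · have h2 : p ^ (n - 1) = p ^ (n - 2) * p := by rw [← pow_succ]; congr 1; lia
      rw [h2, Nat.mul_div_cancel _ hp.out.pos]
    · rw [hordx]
      exact dvd_pow_self p (by lia)
  have hordy : orderOf y = p ^ (n - 1) := by
    obtain ⟨j, hj⟩ := IsPGroup.iff_orderOf.1 hP y
    have hj0 : j ≠ 0 := by
      rintro rfl
      rw [pow_zero, orderOf_eq_one_iff] at hj
      rw [hj, one_pow] at hyx
      rw [← hyx, orderOf_one] at hordxp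
      have h5 : p ^ 0 = p ^ (n - 2) := by rw [← hordxp, pow_zero]
      have := Nat.pow_right_injective hp.out.two_le h5
      lia
    have h1 : orderOf (y ^ p) = p ^ (j - 1) := by
      rw [orderOf_pow_of_dvd hp.out.ne_zero, hj]
      · have h2 : p ^ j = p ^ (j - 1) * p := by rw [← pow_succ]; congr 1; lia
        rw [h2, Nat.mul_div_cancel _ hp.out.pos]
      · rw [hj]
        exact dvd_pow_self p hj0
    rw [hyx, hordxp] at h1
    have h2 := Nat.pow_right_injective hp.out.two_le h1
    rw [hj]
    congr 1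
    lia
  have hMy : Subgroup.zpowers y = M := by
    apply Subgroup.eq_of_le_of_card_ge
    · rw [Subgroup.zpowers_le]; exact hy
    · rw [hcardi M hM, Nat.card_zpowers, hordy]
  rw [← hMy]
  infer_instance

/-- the number of cyclic maximal subgroups is divisible by `p` -/
theorem card_cyclic_max (hp2 : p ≠ 2) (hP : IsPGroup p P) {n : ℕ} (hn : Nat.card P = p ^ n) (hn3 : 3 ≤ n)
    (hc : ¬ IsCyclic P) : p ∣ Nat.card {M : Subgroup P // M.index = p ∧ IsCyclic M} := by
  classical
  have : Fintype (Subgroup P) := Fintype.ofFinite _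
  by_cases hex : ∃ C : Subgroup P, C.index = p ∧ IsCyclic C
  · obtain ⟨C, hC, hCc⟩ := hex
    obtain ⟨x, hx⟩ := (Subgroup.isCyclic_iff_exists_zpowers_eq_top C).1 hCc
    obtain ⟨E, hEn, hE, hEc⟩ := H3.RankTwo.exists_normal_rank_two hp2 hP hc
    have hx' : (Subgroup.zpowers x).index = p := by rw [hx, hC]
    have hEtop : E ⊔ frattini P ≠ ⊤ := by
      intro h
      have := frattini_nongenerating h
      rw [this, Subgroup.card_top, hn] at hEc
      have := Nat.pow_right_injective hp.out.two_le hEc
      lia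
    have hall := card_max hP hc
    have hE' := (key hP (N := E ⊔ frattini P) le_sup_right hEtop).1
    have h1 : Nat.card {M : Subgroup P // M.index = p} =
        Nat.card {M : Subgroup P // M.index = p ∧ IsCyclic M} +
          Nat.card {M : Subgroup P // E ⊔ frattini P ≤ M ∧ M.index = p} := by
      rw [Nat.card_eq_fintype_card, Nat.card_eq_fintype_card, Nat.card_eq_fintype_card, Fintype.card_subtype,
        Fintype.card_subtype, Fintype.card_subtype, ← Finset.card_union_of_disjoint]
      · congr 1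
        ext M
        simp only [Finset.mem_filter, Finset.mem_univ, true_and, Finset.mem_union, sup_le_iff]
        constructor
        · intro h
          by_cases hEM : E ≤ M
          · exact Or.inr ⟨⟨hEM, frattini_le_of_index h⟩, h⟩
          · exact Or.inl ⟨h, (cyclic_iff hp2 hP hn hn3 hEn hE hEc hx' h).2 hEM⟩
        · rintro (h | h)
          · exact h.1
          · exact h.2
      · rw [Finset.disjoint_left]
        intro M h2 h3
        simp only [Finset.mem_filter, Finset.mem_univ, true_and, sup_le_iff] at h2 h3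
        exact not_le_cyclic hE hEc M h2.2 h3.1.1
    rw [h1] at hall
    have h2 : Nat.card {M : Subgroup P // E ⊔ frattini P ≤ M ∧ M.index = p} ≡ 1 [MOD p] := by
      have h3 := hE'.of_dvd (dvd_pow_self p two_ne_zero)
      refine h3.trans ?_
      have h4 : 1 + p * Nat.card {M : Subgroup P // E ⊔ frattini P ≤ M ∧ M.index = p ^ 2} ≡ 1 + 0 [MOD p] :=
        Nat.ModEq.add_left 1 ((Nat.modEq_zero_iff_dvd).2 (dvd_mul_right _ _))
      exact h4
    have h3 : Nat.card {M : Subgroup P // M.index = p ∧ IsCyclic M} + 1 ≡ 0 + 1 [MOD p] := by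
      refine (Nat.ModEq.add_left _ h2.symm).trans ?_
      refine (hall.of_dvd (dvd_pow_self p two_ne_zero)).trans ?_
      rw [zero_add]
      have h4 : 1 + p ≡ 1 + 0 [MOD p] := Nat.ModEq.add_left 1 ((Nat.modEq_zero_iff_dvd).2 dvd_rfl)
      exact h4
    exact (Nat.modEq_zero_iff_dvd).1 (Nat.ModEq.add_right_cancel' 1 h3)
  · push Not at hex
    have : IsEmpty {M : Subgroup P // M.index = p ∧ IsCyclic M} := ⟨fun M => hex M.1 M.2.1 M.2.2⟩
    rw [Nat.card_of_isEmpty]
    exact dvd_zero p

end

/-- in a cyclic group there is exactly one subgroup of each possible order -/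
theorem card_cyclic {C : Type*} [Group C] [Finite C] [IsCyclic C] {d : ℕ} (hd : d ∣ Nat.card C) :
    Nat.card {H : Subgroup C // Nat.card H = d} = 1 := by
  obtain ⟨g, hg⟩ := IsCyclic.exists_generator (α := C)
  have hgo : orderOf g = Nat.card C := orderOf_eq_card_of_forall_mem_zpowers hg
  have hpos : 0 < Nat.card C := Nat.card_pos
  obtain ⟨e, he⟩ := hd
  have he0 : e ≠ 0 := by rintro rfl; lia
  have hd0 : 0 < d := Nat.pos_of_ne_zero (by rintro rfl; lia)
  have h1 : Nat.card (Subgroup.zpowers (g ^ e)) = d := by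
    rw [Nat.card_zpowers, orderOf_pow_of_dvd he0 (by rw [hgo, he]; exact dvd_mul_left _ _), hgo, he,
      Nat.mul_div_cancel _ (Nat.pos_of_ne_zero he0)]
  rw [Nat.card_eq_one_iff_unique]
  refine ⟨⟨?_⟩, ⟨⟨_, h1⟩⟩⟩
  have key : ∀ H : Subgroup C, Nat.card H = d → H = Subgroup.zpowers (g ^ e) := by
    intro H hH
    apply Subgroup.eq_of_le_of_card_ge _ (by rw [h1, hH])
    intro x hx
    obtain ⟨k, rfl⟩ := hg x
    simp only at hx ⊢
    have h2 : (g ^ k) ^ d = 1 := by
      have : (⟨g ^ k, hx⟩ : H) ^ Nat.card H = 1 := pow_card_eq_one'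
      rw [hH] at this
      exact congrArg Subtype.val this
    have h3 : (orderOf g : ℤ) ∣ k * d := by
      rw [orderOf_dvd_iff_zpow_eq_one, zpow_mul]
      exact_mod_cast h2
    rw [hgo, he] at h3
    have h4 : (e : ℤ) ∣ k := by
      have h5 : (d : ℤ) * e ∣ d * k := by
        rw [mul_comm (d : ℤ) k]; exact_mod_cast h3
      exact Int.dvd_of_mul_dvd_mul_left (by exact_mod_cast hd0.ne') h5
    obtain ⟨l, rfl⟩ := h4
    rw [zpow_mul]
    exact ⟨l, by simp⟩
  rintro ⟨H, hH⟩ ⟨K, hK⟩
  exact Subtype.ext ((key H hH).trans (key K hK).symm)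

/-- Kulakoff's theorem -/
theorem kulakoff {p : ℕ} [hp : Fact p.Prime] (hp2 : p ≠ 2) (a : ℕ) (ha : 1 ≤ a) :
    ∀ (n : ℕ) (P : Type u) [Group P] [Finite P], Nat.card P = p ^ n → ¬ IsCyclic P → a < n →
      Nat.card {H : Subgroup P // Nat.card H = p ^ a} ≡ 1 + p [MOD p ^ 2] := by
  intro n
  induction n using Nat.strong_induction_on with
  | _ n ih =>
    intro P _ _ hn hc han
    classical
    have : Fintype (Subgroup P) := Fintype.ofFinite _
    have hP : IsPGroup p P := IsPGroup.iff_card.2 ⟨n, hn⟩
    by_cases hlast : a = n - 1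
    · have h1 : Nat.card {H : Subgroup P // Nat.card H = p ^ a} = Nat.card {M : Subgroup P // M.index = p} := by
        apply Nat.card_congr
        apply Equiv.subtypeEquivRight
        intro M
        have h4 := Subgroup.card_mul_index M
        rw [hn] at h4
        have h5 : p ^ n = p ^ a * p := by rw [← pow_succ]; congr 1; lia
        rw [h5] at h4
        constructor
        · intro h
          rw [h] at h4
          exact Nat.eq_of_mul_eq_mul_left (pow_pos hp.out.pos a) h4
        · intro h
          rw [h] at h4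
          exact Nat.eq_of_mul_eq_mul_right hp.out.pos h4
      rw [h1]
      exact card_max hP hc
    · have ha2 : a + 2 ≤ n := by lia
      have henum := enum hP hc hn ha2
      have hcyc := card_cyclic_max hp2 hP hn (by lia) hc
      -- each maximal subgroup
      have hM : ∀ M : {M : Subgroup P // M.index = p},
          Nat.card {H : Subgroup M.1 // Nat.card H = p ^ a} + (if IsCyclic M.1 then p else 0) ≡ 1 + p [MOD p ^ 2] := by
        intro M
        have hMc : Nat.card M.1 = p ^ (n - 1) := by
          have h1 := Subgroup.card_mul_index M.1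
          rw [M.2, hn] at h1
          have h2 : p ^ n = p ^ (n - 1) * p := by rw [← pow_succ, Nat.sub_add_cancel (by lia)]
          rw [h2] at h1
          exact Nat.eq_of_mul_eq_mul_right hp.out.pos h1
        split_ifs with h
        · rw [card_cyclic (C := M.1) (by rw [hMc]; exact pow_dvd_pow p (by lia))]
        · rw [add_zero]
          exact ih (n - 1) (by lia) M.1 hMc h (by lia)
      have hsum : ∀ {ι : Type u} (s : Finset ι) (f g : ι → ℕ), (∀ i ∈ s, f i ≡ g i [MOD p ^ 2]) →
          ∑ i ∈ s, f i ≡ ∑ i ∈ s, g i [MOD p ^ 2] := by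
        intro ι s f g h
        induction s using Finset.induction_on with
        | empty => rfl
        | insert i s hi ih =>
          rw [Finset.sum_insert hi, Finset.sum_insert hi]
          exact Nat.ModEq.add (h i (Finset.mem_insert_self _ _)) (ih fun j hj => h j (Finset.mem_insert_of_mem hj))
      have h1 := hsum Finset.univ _ _ (fun M _ => hM M)
      rw [Finset.sum_add_distrib, Finset.sum_const, smul_eq_mul, Finset.card_univ, ← Nat.card_eq_fintype_card] at h1
      have h2 : ∑ M : {M : Subgroup P // M.index = p}, (if IsCyclic M.1 then p else 0) =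
          p * Nat.card {M : Subgroup P // M.index = p ∧ IsCyclic M} := by
        rw [← Finset.sum_filter, Finset.sum_const, smul_eq_mul, mul_comm]
        congr 1
        rw [Nat.card_eq_fintype_card, Fintype.card_subtype]
        rw [← Fintype.card_subtype, ← Fintype.card_subtype]
        apply Fintype.card_congr
        exact (Equiv.subtypeSubtypeEquivSubtypeInter (fun M : Subgroup P => M.index = p) (fun M => IsCyclic M))
      rw [h2] at h1
      have h3 : p * Nat.card {M : Subgroup P // M.index = p ∧ IsCyclic M} ≡ 0 [MOD p ^ 2] := by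
        rw [Nat.modEq_zero_iff_dvd, pow_two]
        exact mul_dvd_mul_left p hcyc
      have h4 : Nat.card {H : Subgroup P // Nat.card H = p ^ a} + p ≡ (1 + p) + p [MOD p ^ 2] := by
        calc Nat.card {H : Subgroup P // Nat.card H = p ^ a} + p
            ≡ ∑ M : {M : Subgroup P // M.index = p}, Nat.card {H : Subgroup M.1 // Nat.card H = p ^ a} [MOD p ^ 2] := henum.symm
          _ = ∑ M : {M : Subgroup P // M.index = p}, Nat.card {H : Subgroup M.1 // Nat.card H = p ^ a} + 0 := (add_zero _).symm
          _ ≡ ∑ M : {M : Subgroup P // M.index = p}, Nat.card {H : Subgroup M.1 // Nat.card H = p ^ a} +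
                p * Nat.card {M : Subgroup P // M.index = p ∧ IsCyclic M} [MOD p ^ 2] := Nat.ModEq.add_left _ h3.symm
          _ ≡ Nat.card {M : Subgroup P // M.index = p} * (1 + p) [MOD p ^ 2] := h1
          _ ≡ (1 + p) * (1 + p) [MOD p ^ 2] := Nat.ModEq.mul_right _ (card_max hP hc)
          _ = (1 + p) + p + p ^ 2 * 1 := by ring
          _ ≡ (1 + p) + p + 0 [MOD p ^ 2] := Nat.ModEq.add_left _ ((Nat.modEq_zero_iff_dvd).2 (dvd_mul_right _ _))
          _ = (1 + p) + p := add_zero _
      exact Nat.ModEq.add_right_cancel' p h4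

end H73.Kulakoff
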