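import Mathlib
import Cfsg.Agent.Lib.H73.Orb2
import Cfsg.Agent.S0118

/-!
Tools for S3406: Sylow p-subgroups are abelian.
-/

set_option autoImplicit false

open Subgroup Cfsg
open scoped Pointwise

namespace H73.Orb

variable {G : Type*} [Group G] {p q : ℕ}

/-- central elements of order p lie in every elementary abelian subgroup of largest order -/
theorem mem_centerThompson [Finite G] [Fact p.Prime] {P : Subgroup G} {z : G} (hz : z ∈ P)
    (hzc : ∀ x ∈ P, z * x = x * z) (hzp : z ^ p = 1) : z ∈ centerThompsonOf p P := by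
  classical
  have hmem : z ∈ thompsonSubgroupOf p P := by
    obtain ⟨A, hA, hAmax⟩ : ∃ A : Subgroup P, IsElementaryAbelian p A ∧
        ∀ B : Subgroup P, IsElementaryAbelian p B → Nat.card B ≤ Nat.card A := by
      obtain ⟨A, hA, hmax⟩ := Set.exists_max_image {A : Subgroup P | IsElementaryAbelian p A}
        (fun A => Nat.card A) (Set.toFinite _) ⟨⊥, ⟨by infer_instance, by
          intro a ha
          rw [mem_bot] at ha
          rw [ha, one_pow]⟩⟩
      exact ⟨A, hA, hmax⟩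
    obtain ⟨hAc, hAe⟩ := hA
    set z' : P := ⟨z, hz⟩ with hz'
    have hzc' : ∀ x : P, z' * x = x * z' := fun x => Subtype.ext (hzc x x.2)
    haveI hzn : (zpowers z').Normal := by
      refine ⟨fun n hn g => ?_⟩
      obtain ⟨k, rfl⟩ := hn
      have : g * z' ^ k * g⁻¹ = z' ^ k := by
        rw [← (Commute.zpow_left (hzc' g) k : z' ^ k * g = g * z' ^ k)]
        group
      exact ⟨k, by simpa using this.symm⟩
    have hB : IsElementaryAbelian p (A ⊔ zpowers z') := by
      have hel : ∀ b ∈ A ⊔ zpowers z', ∃ a ∈ A, ∃ k : ℤ, b = a * z' ^ k := by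
        intro b hb
        rw [← SetLike.mem_coe, Subgroup.mul_normal] at hb
        obtain ⟨a, ha, w, ⟨k, hk⟩, haw⟩ := hb
        exact ⟨a, ha, k, by rw [← haw, ← hk]⟩
      refine ⟨⟨⟨?_⟩⟩, ?_⟩
      · rintro ⟨a, ha⟩ ⟨b, hb⟩
        obtain ⟨a1, ha1, k, rfl⟩ := hel a ha
        obtain ⟨b1, hb1, l, rfl⟩ := hel b hb
        have h1 : a1 * b1 = b1 * a1 := by
          have := hAc.is_comm.comm ⟨a1, ha1⟩ ⟨b1, hb1⟩
          exact congrArg Subtype.val this
        have c1 : Commute (z' ^ k) b1 := Commute.zpow_left (hzc' b1) k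
        have c2 : Commute (z' ^ l) a1 := Commute.zpow_left (hzc' a1) l
        have c3 : Commute (z' ^ k) (z' ^ l) := Commute.zpow_zpow (Commute.refl z') k l
        have c4 : Commute a1 b1 := h1
        ext1
        change a1 * z' ^ k * (b1 * z' ^ l) = b1 * z' ^ l * (a1 * z' ^ k)
        exact (((c4.mul_right c2.symm).mul_left (c1.mul_right c3)) : Commute _ _)
      · intro b hb
        obtain ⟨a, ha, k, rfl⟩ := hel b hb
        have c1 : Commute a (z' ^ k) := (Commute.zpow_left (hzc' a) k).symm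
        rw [c1.mul_pow, hAe a ha, one_mul, ← zpow_natCast, ← zpow_mul, mul_comm, zpow_mul,
          zpow_natCast]
        have : z' ^ p = 1 := Subtype.ext hzp
        rw [this, one_zpow]
    have hle := hAmax _ hB
    have heq : A = A ⊔ zpowers z' := by
      apply Subgroup.eq_of_le_of_card_ge le_sup_left hle
    have hzA : z' ∈ A := by
      rw [heq]; exact mem_sup_right (mem_zpowers z')
    have h2 : A ≤ thompsonSubgroup p P := le_sSup ⟨⟨hAc, hAe⟩, hAmax⟩
    exact ⟨z', h2 hzA, rfl⟩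
  refine ⟨hmem, ?_⟩
  change z ∈ centralizer (thompsonSubgroupOf p P : Set G)
  rw [mem_centralizer_iff]
  rintro x ⟨y, -, rfl⟩
  exact (hzc y y.2).symm

theorem centerThompson_comm {P : Subgroup G} (hP : P ≤ centerThompsonOf p P) :
    ∀ x ∈ P, ∀ y ∈ P, x * y = y * x := by
  intro x hx y hy
  have h1 := hP hx
  have h2 := hP hy
  exact (mem_centralizer_iff.mp h1.2 y h2.1).symm

/-- `SL(2,p)` is not a section of a group without elements of order divisible by 4 -/
theorem no_section [Fact p.Prime] (hp2 : p ≠ 2) (h4 : ∀ g : G, ¬ 4 ∣ orderOf g) :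
    ¬ ∃ (H K : Subgroup G) (hK : (K.subgroupOf H).Normal),
      Nonempty ((H ⧸ K.subgroupOf H) ≃* Matrix.SpecialLinearGroup (Fin 2) (ZMod p)) := by
  rintro ⟨H, K, hK, ⟨e⟩⟩
  let w : Matrix.SpecialLinearGroup (Fin 2) (ZMod p) := ⟨!![0, -1; 1, 0], by
    rw [Matrix.det_fin_two_of]; ring⟩
  have hw2 : w ^ 2 = -1 := by
    apply Subtype.ext
    rw [pow_two, Matrix.SpecialLinearGroup.coe_mul, Matrix.SpecialLinearGroup.coe_neg,
      Matrix.SpecialLinearGroup.coe_one]
    change !![0, -1; 1, 0] * !![0, -1; 1, 0] = (-1 : Matrix (Fin 2) (Fin 2) (ZMod p))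
    ext i j
    fin_cases i <;> fin_cases j <;> simp [Matrix.mul_apply, Fin.sum_univ_two]
  have hne : (w ^ 2) ≠ 1 := by
    rw [hw2]
    intro h
    have h1 := congrArg (fun m : Matrix.SpecialLinearGroup (Fin 2) (ZMod p) => m.1 0 0) h
    simp at h1
    have h2 : (2 : ZMod p) = 0 := by
      have h3 : (1 : ZMod p) + 1 = 0 := by
        nth_rewrite 1 [← h1]; ring
      rw [← h3]; norm_num
    have h3 : ((2 : ℕ) : ZMod p) = 0 := by exact_mod_cast h2
    rw [ZMod.natCast_eq_zero_iff] at h3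
    exact hp2 ((Nat.prime_dvd_prime_iff_eq Fact.out Nat.prime_two).mp h3)
  have hw4 : w ^ 4 = 1 := by
    have : w ^ 4 = (w ^ 2) ^ 2 := by rw [← pow_mul]
    rw [this, hw2]; ext i j; fin_cases i <;> fin_cases j <;> simp [pow_two]
  have hord : orderOf w = 4 := by
    have h1 : orderOf w ∣ 4 := orderOf_dvd_of_pow_eq_one hw4
    have h2 : ¬ orderOf w ∣ 2 := fun h => hne (orderOf_dvd_iff_pow_eq_one.mp h)
    have h3 : orderOf w ∈ Nat.divisors 4 := by simp [h1]
    have h5 : Nat.divisors 4 = {1, 2, 4} := by decide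
    rw [h5] at h3
    simp only [Finset.mem_insert, Finset.mem_singleton] at h3
    rcases h3 with h3 | h3 | h3
    · exact absurd (by rw [h3]; exact one_dvd 2) h2
    · exact absurd (by rw [h3]) h2
    · exact h3
  obtain ⟨g, hg⟩ := QuotientGroup.mk'_surjective (K.subgroupOf H) (e.symm w)
  have h1 : orderOf (QuotientGroup.mk' (K.subgroupOf H) g) = 4 := by
    rw [hg, MulEquiv.orderOf_eq, hord]
  have h2 : orderOf (QuotientGroup.mk' (K.subgroupOf H) g) ∣ orderOf g := orderOf_map_dvd _ g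
  rw [h1] at h2
  apply h4 (g : G)
  rw [Subgroup.orderOf_coe]
  exact h2

namespace Sp

variable (h : Sp G p q)
include h

theorem no4 (g : G) : ¬ 4 ∣ orderOf g := by
  intro h4
  rcases h.spec g with h2 | h2 | h2 | h2 | h2 <;> rw [h2] at h4
  · omega
  · omega
  · have h5 := Odd.of_dvd_nat h.podd h4
    exact absurd h5 (by decide)
  · have h5 := Odd.of_dvd_nat h.qodd h4
    exact absurd h5 (by decide)
  · have h5 : 2 ∣ p := by omega
    exact h.p2 ((Nat.prime_dvd_prime_iff_eq Nat.prime_two h.hp).mp h5).symm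

/-- each p-element is conjugate to a central element of a given Sylow p-subgroup -/
theorem exists_conj_center [Finite G] (P : Sylow p G) {x : G} (hx : orderOf x = p) :
    ∃ g : G, g⁻¹ * x * g ∈ P ∧ ∀ y ∈ P, g⁻¹ * x * g * y = y * (g⁻¹ * x * g) := by
  haveI : Fact p.Prime := ⟨h.hp⟩
  have hdvd : p ∣ Nat.card G := by rw [← hx]; exact orderOf_dvd_natCard x
  haveI : Nontrivial P := by
    have h1 : (P : Subgroup G) ≠ ⊥ := P.ne_bot_of_dvd_card hdvd
    exact (Subgroup.nontrivial_iff_ne_bot _).mpr h1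
  have hnt : Nontrivial (center P) := P.isPGroup'.center_nontrivial
  obtain ⟨z, hz⟩ := exists_ne (1 : center P)
  have hz1 : ((z : P) : G) ≠ 1 := by
    intro h1
    apply hz
    ext
    exact h1
  have hzo : orderOf ((z : P) : G) = p := h.p_ord P.isPGroup' (z : P).2 hz1
  obtain ⟨α, hα⟩ := h.tr ((z : P) : G) x (by rw [hzo, hx])
  set Q : Sylow p G := P.mapSurjective (f := (α : G →* G)) α.surjective with hQ
  obtain ⟨g, hg⟩ := MulAction.exists_smul_eq G P Q
  have hmem : ∀ y : G, y ∈ Q ↔ ∃ w ∈ P, α w = y := by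
    intro y
    rw [hQ]
    exact Iff.rfl
  have hmem2 : ∀ y : G, g * y * g⁻¹ ∈ Q ↔ y ∈ P := by
    intro y
    rw [← hg]
    constructor
    · rintro ⟨w, hw, hw2⟩
      have : w = y := by
        have h3 : g * w * g⁻¹ = g * y * g⁻¹ := hw2
        exact mul_left_cancel (mul_right_cancel h3)
      rw [← this]; exact hw
    · intro hy
      exact ⟨y, hy, rfl⟩
  refine ⟨g, ?_, ?_⟩
  · rw [← hmem2]
    have : g * (g⁻¹ * x * g) * g⁻¹ = x := by group
    rw [this, hmem]
    exact ⟨_, (z : P).2, hα⟩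
  · intro y hy
    obtain ⟨w, hw, hw2⟩ := (hmem _).mp ((hmem2 y).mpr hy)
    have hc : ((z : P) : G) * w = w * ((z : P) : G) := by
      have := mem_center_iff.mp z.2 ⟨w, hw⟩
      exact (congrArg Subtype.val this).symm
    have hc2 : x * (g * y * g⁻¹) = (g * y * g⁻¹) * x := by
      rw [← hw2, ← hα, ← map_mul, ← map_mul, hc]
    have h3 : g⁻¹ * (x * (g * y * g⁻¹)) * g = g⁻¹ * ((g * y * g⁻¹) * x) * g := by rw [hc2]
    calc g⁻¹ * x * g * y = g⁻¹ * (x * (g * y * g⁻¹)) * g := by group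
      _ = g⁻¹ * ((g * y * g⁻¹) * x) * g := h3
      _ = y * (g⁻¹ * x * g) := by group

theorem sylow_comm [Finite G] (P : Sylow p G) : ∀ x ∈ P, ∀ y ∈ P, x * y = y * x := by
  haveI : Fact p.Prime := ⟨h.hp⟩
  apply centerThompson_comm (p := p)
  intro x hx
  by_cases h1 : x = 1
  · rw [h1]; exact one_mem _
  have hxo : orderOf x = p := h.p_ord P.isPGroup' hx h1
  obtain ⟨g, hg1, hg2⟩ := h.exists_conj_center P hxo
  obtain ⟨n, hn, hnx⟩ := Cfsg.Agent.S0118.result h.p2 (no_section h.p2 h.no4) P {x}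
    (by intro y hy; rw [Set.mem_singleton_iff.mp hy]; exact hx) g
    (by rintro _ ⟨y, hy, rfl⟩; rw [Set.mem_singleton_iff.mp hy]; exact hg1)
  have h2 := hnx x rfl
  have h3 : g⁻¹ * x * g ∈ centerThompsonOf p (P : Subgroup G) :=
    mem_centerThompson hg1 hg2 (h.p_el' P.isPGroup' hg1)
  rw [← h2] at h3
  have h4 := (mem_normalizer_iff.mp hn (n⁻¹ * x * n)).mp h3
  have h5 : n * (n⁻¹ * x * n) * n⁻¹ = x := by group
  rwa [h5] at h4

theorem p_comm [Finite G] {X : Subgroup G} (hX : IsPGroup p X) : ∀ x ∈ X, ∀ y ∈ X, x * y = y * x := by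
  obtain ⟨P, hP⟩ := hX.exists_le_sylow
  exact fun x hx y hy => h.sylow_comm P x (hP hx) y (hP hy)

/-- two p-subgroups of one p-subgroup commute -/
theorem p_comm' [Finite G] {X : Subgroup G} (hX : IsPGroup p X) {x y : G} (hx : x ∈ X) (hy : y ∈ X) :
    x * y = y * x := h.p_comm hX x hx y hy

/-- a Sylow p-subgroup of G in the centralizer of a p-element -/
theorem sylow_le_cent [Finite G] {x : G} (P : Sylow p G) (hx : x ∈ P) :
    (P : Subgroup G) ≤ centralizer ({x} : Set G) := by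
  intro y hy
  rw [mem_centralizer_iff]
  rintro z rfl
  exact h.sylow_comm P z hx y hy

end Sp

end H73.Orb
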