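import Mathlib
import Cfsg.Agent.Lib.H73.Orb3

/-!
Tools for S3406: construction of a subgroup `H` containing all the centralizers of involutions of a
Sylow 2-subgroup, and its normalizer.
-/

set_option autoImplicit false

open Subgroup Cfsg
open scoped Pointwise

namespace H73.Orb

variable {G : Type*} [Group G] {p q : ℕ}

/-- in an abelian group of odd exponent -/
theorem comm_of_sq {p : ℕ} (hp : Odd p) {x y : G} (hx : x ^ p = 1) (h : x ^ 2 * y = y * x ^ 2) :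
    x * y = y * x := by
  obtain ⟨m, hm⟩ := hp
  have h1 : x = (x ^ 2) ^ (m + 1) := by
    rw [← pow_mul]
    have : 2 * (m + 1) = p + 1 := by omega
    rw [this, pow_succ, hx, one_mul]
  have h2 : Commute (x ^ 2) y := h
  have h3 : Commute ((x ^ 2) ^ (m + 1)) y := h2.pow_left _
  rw [← h1] at h3
  exact h3

structure Split (S : Set G) (X : Subgroup G) (r x a b : G) : Prop where
  am : a ∈ X
  bm : b ∈ X
  eq : x ^ 2 = a * b
  ra : r * a * r⁻¹ = a
  rb : r * b * r⁻¹ = b⁻¹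
  fixa : ∀ s ∈ S, s * x * s⁻¹ = x → s * a * s⁻¹ = a
  fixb : ∀ s ∈ S, s * x * s⁻¹ = x → s * b * s⁻¹ = b
  inva : ∀ s ∈ S, s * x * s⁻¹ = x⁻¹ → s * a * s⁻¹ = a⁻¹
  invb : ∀ s ∈ S, s * x * s⁻¹ = x⁻¹ → s * b * s⁻¹ = b⁻¹

theorem exists_split {S : Set G} {X : Subgroup G} {r x : G}
    (hX : ∀ a ∈ X, ∀ b ∈ X, a * b = b * a) (hr : r * r = 1)
    (hrX : ∀ x ∈ X, r * x * r⁻¹ ∈ X) (hrS : ∀ s ∈ S, s * r = r * s) (hx : x ∈ X) :
    ∃ a b, Split S X r x a b := by
  have hx' := hrX x hx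
  set x' := r * x * r⁻¹ with hx'd
  have hri : r⁻¹ = r := inv_eq_of_mul_eq_one_right hr
  have h1 : r * x' * r⁻¹ = x := by
    rw [hx'd, hri]
    calc r * (r * x * r) * r = (r * r) * x * (r * r) := by group
      _ = x := by rw [hr, one_mul, mul_one]
  have hc := hX x hx x' hx'
  have hs : ∀ s ∈ S, s * x' * s⁻¹ = r * (s * x * s⁻¹) * r⁻¹ := by
    intro s hs
    rw [hx'd]
    have h2 := hrS s hs
    have h3 : r⁻¹ * s⁻¹ = s⁻¹ * r⁻¹ := by
      rw [← mul_inv_rev, ← mul_inv_rev, h2]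
    calc s * (r * x * r⁻¹) * s⁻¹ = (s * r) * x * (r⁻¹ * s⁻¹) := by group
      _ = (r * s) * x * (s⁻¹ * r⁻¹) := by rw [h2, h3]
      _ = r * (s * x * s⁻¹) * r⁻¹ := by group
  refine ⟨x * x', x * x'⁻¹, ⟨mul_mem hx hx', mul_mem hx (inv_mem hx'), ?_, ?_, ?_, ?_, ?_, ?_, ?_⟩⟩
  · calc x ^ 2 = x * (x * x') * x'⁻¹ := by rw [pow_two, mul_assoc x (x * x'), mul_inv_cancel_right]
      _ = x * (x' * x) * x'⁻¹ := by rw [hc]
      _ = x * x' * (x * x'⁻¹) := by simp only [mul_assoc]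
  · calc r * (x * x') * r⁻¹ = (r * x * r⁻¹) * (r * x' * r⁻¹) := by group
      _ = x' * x := by rw [h1, ← hx'd]
      _ = x * x' := hc.symm
  · calc r * (x * x'⁻¹) * r⁻¹ = (r * x * r⁻¹) * (r * x' * r⁻¹)⁻¹ := by group
      _ = x' * x⁻¹ := by rw [h1, ← hx'd]
      _ = (x * x'⁻¹)⁻¹ := by group
  · intro s hsS h2
    calc s * (x * x') * s⁻¹ = (s * x * s⁻¹) * (s * x' * s⁻¹) := by group
      _ = x * x' := by rw [hs s hsS, h2]
  · intro s hsS h2
    calc s * (x * x'⁻¹) * s⁻¹ = (s * x * s⁻¹) * (s * x' * s⁻¹)⁻¹ := by group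
      _ = x * x'⁻¹ := by rw [hs s hsS, h2]
  · intro s hsS h2
    calc s * (x * x') * s⁻¹ = (s * x * s⁻¹) * (s * x' * s⁻¹) := by group
      _ = x⁻¹ * (r * x⁻¹ * r⁻¹) := by rw [hs s hsS, h2]
      _ = (r * x * r⁻¹ * x)⁻¹ := by group
      _ = (x * x')⁻¹ := by rw [← hx'd, hc]
  · intro s hsS h2
    calc s * (x * x'⁻¹) * s⁻¹ = (s * x * s⁻¹) * (s * x' * s⁻¹)⁻¹ := by group
      _ = x⁻¹ * (r * x⁻¹ * r⁻¹)⁻¹ := by rw [hs s hsS, h2]
      _ = x⁻¹ * x' := by rw [hx'd]; group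
      _ = (x * x'⁻¹)⁻¹ := by
        have h3 : x⁻¹ * x' = x' * x⁻¹ := by
          calc x⁻¹ * x' = x⁻¹ * (x' * x) * x⁻¹ := by group
            _ = x⁻¹ * (x * x') * x⁻¹ := by rw [hc]
            _ = x' * x⁻¹ := by group
        rw [h3]; group

/-- the odd core of the centralizer of `t`, inside `G` -/
def U (t : G) : Subgroup G :=
  (pPrimeCore 2 (centralizer ({t} : Set G))).map (centralizer ({t} : Set G)).subtype

theorem Rel.unique {C T O T' O' : Subgroup G} (h : Rel C T O) (h' : Rel C T' O')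
    (hT : T ≤ C) (hT' : T' ≤ C) : O = O' :=
  le_antisymm (h'.max O h.le h.odd (hT'.trans h.norm)) (h.max O' h'.le h'.odd (hT.trans h'.norm))

theorem sylow_relIndex [Finite G] (S : Sylow 2 G) {C : Subgroup G} (hC : (S : Subgroup G) ≤ C) :
    ¬ 2 ∣ (S : Subgroup G).relIndex C := by
  haveI : Fact (Nat.Prime 2) := ⟨Nat.prime_two⟩
  intro hd
  have h1 := Subgroup.relIndex_mul_index hC
  exact S.not_dvd_index (by rw [← h1]; exact Dvd.dvd.mul_right hd _)

namespace Sp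

variable (h : Sp G p q)
include h

theorem sylow_le [Finite G] (S : Sylow 2 G) {t : G} (ht : t ∈ S) :
    (S : Subgroup G) ≤ centralizer ({t} : Set G) := by
  intro y hy
  rw [mem_centralizer_iff]
  rintro z rfl
  exact h.two_comm S.isPGroup' z ht y hy

theorem ord_two [Finite G] (S : Sylow 2 G) {t : G} (ht : t ∈ S) (h1 : t ≠ 1) : orderOf t = 2 := by
  haveI : Fact (Nat.Prime 2) := ⟨Nat.prime_two⟩
  apply orderOf_eq_prime _ h1
  rw [pow_two]; exact h.two_el' S.isPGroup' ht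

theorem exists_rel [Finite G] (S : Sylow 2 G) {t : G} (ht : t ∈ S) (h1 : t ≠ 1) :
    ∃ O : Subgroup G, Rel (centralizer ({t} : Set G)) (S : Subgroup G) O :=
  L1 (h.solv_two (h.ord_two S ht h1)) (h.sylow_le S ht) S.isPGroup'
    (h.two_comm S.isPGroup') (sylow_relIndex S (h.sylow_le S ht))

end Sp

/-- data : `O t` is the core of `C(t)` for `t` in `S` -/
structure Dat (S : Sylow 2 G) (O : G → Subgroup G) : Prop where
  rel : ∀ t ∈ S, t ≠ 1 → Rel (centralizer ({t} : Set G)) (S : Subgroup G) (O t)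

theorem Sp.exists_dat [Finite G] (h : Sp G p q) (S : Sylow 2 G) : ∃ O : G → Subgroup G, Dat S O := by
  classical
  have h1 : ∀ t : G, ∃ O : Subgroup G, (t ∈ S → t ≠ 1 →
      Rel (centralizer ({t} : Set G)) (S : Subgroup G) O) := by
    intro t
    by_cases h2 : t ∈ S ∧ t ≠ 1
    · obtain ⟨O, hO⟩ := h.exists_rel S h2.1 h2.2
      exact ⟨O, fun _ _ => hO⟩
    · exact ⟨⊥, fun h3 h4 => absurd ⟨h3, h4⟩ h2⟩
  choose O hO using h1
  exact ⟨O, ⟨hO⟩⟩

variable {S : Sylow 2 G} {O : G → Subgroup G}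

theorem Dat.isPGroup [Finite G] (h : Sp G p q) (hd : Dat S O) {t : G} (ht : t ∈ S) (h1 : t ≠ 1) :
    IsPGroup p (O t) :=
  h.isPGroup_of_odd (Or.inl (h.ord_two S ht h1)) (hd.rel t ht h1).le (hd.rel t ht h1).odd

theorem Dat.norm [Finite G] (h : Sp G p q) (hd : Dat S O) {t : G} (ht : t ∈ S) (h1 : t ≠ 1) :
    (S : Subgroup G) ≤ normalizer (O t : Set G) :=
  (h.sylow_le S ht).trans (hd.rel t ht h1).norm

/-- elements of S-invariant odd subgroups, in `C(c)` -/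
theorem Dat.mem [Finite G] (h : Sp G p q) (hd : Dat S O) {c : G} (hc : c ∈ S) (h1 : c ≠ 1)
    {X : Subgroup G} (hX : Odd (Nat.card X)) (hSX : (S : Subgroup G) ≤ normalizer (X : Set G)) {x : G}
    (hx : x ∈ X) (hxc : c * x * c⁻¹ = x) : x ∈ O c := by
  have h2 : X ⊓ centralizer ({c} : Set G) ≤ O c := by
    apply (hd.rel c hc h1).max _ inf_le_right
    · exact Odd.of_dvd_nat hX (Subgroup.card_dvd_of_le inf_le_left)
    · apply H1.Coprime2.le_normalizer_inf hSX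
      exact (h.sylow_le S hc).trans le_normalizer
  apply h2
  refine ⟨hx, ?_⟩
  change x ∈ centralizer ({c} : Set G)
  rw [mem_centralizer_iff]
  rintro z rfl
  exact mul_inv_eq_iff_eq_mul.mp hxc

theorem Dat.comm_of_fix [Finite G] (h : Sp G p q) (hd : Dat S O) {c : G} (hc : c ∈ S) (h1 : c ≠ 1)
    {X Y : Subgroup G} (hX : Odd (Nat.card X)) (hSX : (S : Subgroup G) ≤ normalizer (X : Set G))
    (hY : Odd (Nat.card Y)) (hSY : (S : Subgroup G) ≤ normalizer (Y : Set G)) {x y : G}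
    (hx : x ∈ X) (hxc : c * x * c⁻¹ = x) (hy : y ∈ Y) (hyc : c * y * c⁻¹ = y) : x * y = y * x :=
  h.p_comm (hd.isPGroup h hc h1) x (hd.mem h hc h1 hX hSX hx hxc) y (hd.mem h hc h1 hY hSY hy hyc)

theorem Dat.fix [Finite G] (hd : Dat S O) {t : G} (ht : t ∈ S) (h1 : t ≠ 1) {x : G} (hx : x ∈ O t) :
    t * x * t⁻¹ = x := by
  have := mem_centralizer_iff.mp ((hd.rel t ht h1).le hx) t rfl
  rw [this]; group

end H73.Orb
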