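import Mathlib
import Cfsg.Agent.Lib.H73.Orb4

/-!
Tools for S3406: construction of `H`, continued.
-/

set_option autoImplicit false

open Subgroup Cfsg
open scoped Pointwise

namespace H73.Orb

variable {G : Type*} [Group G] {p q : ℕ}

theorem Split.comm {S : Set G} {X : Subgroup G} {r x a b y : G} (hs : Split S X r x a b) {p : ℕ}
    (hp : Odd p) (hx : x ^ p = 1) (ha : a * y = y * a) (hb : b * y = y * b) : x * y = y * x := by
  apply comm_of_sq hp hx
  rw [hs.eq]
  have c1 : Commute a y := ha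
  have c2 : Commute b y := hb
  exact c1.mul_left c2

theorem exists_not_mem_four [Finite G] (S : Subgroup G) (hS : 8 ≤ Nat.card S) (a b c d : G) :
    ∃ r ∈ S, r ≠ a ∧ r ≠ b ∧ r ≠ c ∧ r ≠ d := by
  classical
  by_contra hcon
  push Not at hcon
  have h1 : (S : Set G) ⊆ {a, b, c, d} := by
    intro r hr
    simp only [Set.mem_insert_iff, Set.mem_singleton_iff]
    by_cases h1 : r = a
    · exact Or.inl h1
    by_cases h2 : r = b
    · exact Or.inr (Or.inl h2)
    by_cases h3 : r = c
    · exact Or.inr (Or.inr (Or.inl h3))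
    exact Or.inr (Or.inr (Or.inr (hcon r hr h1 h2 h3)))
  have h2 : Nat.card S ≤ 4 := by
    have h3 : Nat.card S = (S : Set G).ncard := Nat.card_coe_set_eq _
    rw [h3]
    refine (Set.ncard_le_ncard h1 (Set.toFinite _)).trans ?_
    refine (Set.ncard_insert_le _ _).trans ?_
    refine Nat.add_le_add_right ((Set.ncard_insert_le _ _).trans (Nat.add_le_add_right ((Set.ncard_insert_le _ _).trans ?_) 1)) 1
    rw [Set.ncard_singleton]
  omega

theorem cm (c d x : G) : (c * d) * x * (c * d)⁻¹ = c * (d * x * d⁻¹) * c⁻¹ := by group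
theorem ci (c x : G) : c * x⁻¹ * c⁻¹ = (c * x * c⁻¹)⁻¹ := by group

variable {S : Sylow 2 G} {O : G → Subgroup G}

theorem Dat.comm_big [Finite G] (h : Sp G p q) (hd : Dat S O) (hS : 8 ≤ Nat.card S) :
    ∀ s ∈ S, s ≠ 1 → ∀ t ∈ S, t ≠ 1 → ∀ x ∈ O s, ∀ y ∈ O t, x * y = y * x := by
  intro s hs hs1 t ht ht1 x hx y hy
  obtain ⟨r, hr, hr1, hr2, hr3, hr4⟩ := exists_not_mem_four (S : Subgroup G) hS 1 s t (s * t)
  have hSS : ∀ {g : G}, g ∈ S → g * g = 1 := fun {g} hg => h.two_el' S.isPGroup' hg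
  have hSC := h.two_comm S.isPGroup'
  have hXo := (hd.rel s hs hs1).odd
  have hYo := (hd.rel t ht ht1).odd
  have hXS := hd.norm h hs hs1
  have hYS := hd.norm h ht ht1
  have hXp := hd.isPGroup h hs hs1
  have hYp := hd.isPGroup h ht ht1
  have hXc := h.p_comm hXp
  have hYc := h.p_comm hYp
  have hfx := hd.fix hs hs1 hx
  have hfy := hd.fix ht ht1 hy
  have spX : ∀ r ∈ S, ∀ x ∈ O s, ∃ a b, Split (S : Set G) (O s) r x a b := by
    intro r hr x hx
    exact exists_split hXc (hSS hr) (fun x hx => H1.Coprime.conj_mem_of_le_normalizer hXS hr hx)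
      (fun s hs => hSC s hs r hr) hx
  have spY : ∀ r ∈ S, ∀ x ∈ O t, ∃ a b, Split (S : Set G) (O t) r x a b := by
    intro r hr x hx
    exact exists_split hYc (hSS hr) (fun x hx => H1.Coprime.conj_mem_of_le_normalizer hYS hr hx)
      (fun s hs => hSC s hs r hr) hx
  have key : ∀ c ∈ S, c ≠ 1 → ∀ x ∈ O s, ∀ y ∈ O t, c * x * c⁻¹ = x → c * y * c⁻¹ = y →
      x * y = y * x := fun c hc hc1 x hx y hy h1 h2 =>
    hd.comm_of_fix h hc hc1 hXo hXS hYo hYS hx h1 hy h2
  obtain ⟨a1, b1, h1⟩ := spX t ht x hx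
  refine h1.comm h.podd (h.p_el' hXp hx) (key t ht ht1 a1 h1.am y hy h1.ra hfy) ?_
  obtain ⟨a2, b2, h2⟩ := spY s hs y hy
  have b1s := h1.fixb s hs hfx
  symm
  refine h2.comm h.podd (h.p_el' hYp hy) (key s hs hs1 b1 h1.bm a2 h2.am b1s h2.ra).symm ?_
  have b2t := h2.fixb t ht hfy
  symm
  obtain ⟨a3, b3, h3⟩ := spX r hr b1 h1.bm
  obtain ⟨a4, b4, h4⟩ := spY r hr b2 h2.bm
  have hrs : r * s ≠ 1 := by
    intro h5
    apply hr2
    have h6 : r = s⁻¹ := eq_inv_of_mul_eq_one_left h5
    rw [h6]; exact inv_eq_of_mul_eq_one_left (hSS hs)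
  have hrt : r * t ≠ 1 := by
    intro h5
    apply hr3
    have h6 : r = t⁻¹ := eq_inv_of_mul_eq_one_left h5
    rw [h6]; exact inv_eq_of_mul_eq_one_left (hSS ht)
  have hrst : r * (s * t) ≠ 1 := by
    intro h5
    apply hr4
    have h6 : r = (s * t)⁻¹ := eq_inv_of_mul_eq_one_left h5
    rw [h6]; exact inv_eq_of_mul_eq_one_left (hSS (mul_mem hs ht))
  have e3s := h3.fixa s hs b1s
  have f3s := h3.fixb s hs b1s
  have e3t := h3.inva t ht h1.rb
  have f3t := h3.invb t ht h1.rb
  have e4t := h4.fixa t ht b2t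
  have f4t := h4.fixb t ht b2t
  have e4s := h4.inva s hs h2.rb
  have f4s := h4.invb s hs h2.rb
  refine h3.comm h.podd (h.p_el' hXp h1.bm) ?_ ?_
  · symm
    refine h4.comm h.podd (h.p_el' hYp h2.bm) ?_ ?_
    · exact (key r hr hr1 a3 h3.am a4 h4.am h3.ra h4.ra).symm
    · refine (key (r * s) (mul_mem hr hs) hrs a3 h3.am b4 h4.bm ?_ ?_).symm
      · rw [cm, e3s, h3.ra]
      · rw [cm, f4s, ci, h4.rb, inv_inv]
  · symm
    refine h4.comm h.podd (h.p_el' hYp h2.bm) ?_ ?_
    · refine (key (r * t) (mul_mem hr ht) hrt b3 h3.bm a4 h4.am ?_ ?_).symm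
      · rw [cm, f3t, ci, h3.rb, inv_inv]
      · rw [cm, e4t, h4.ra]
    · refine (key (r * (s * t)) (mul_mem hr (mul_mem hs ht)) hrst b3 h3.bm b4 h4.bm ?_ ?_).symm
      · rw [cm, cm, f3t, ci, ci, f3s, h3.rb, inv_inv]
      · rw [cm, cm, f4t, f4s, ci, h4.rb, inv_inv]

/-- the final configuration -/
structure HH (S : Sylow 2 G) (H : Subgroup G) : Prop where
  ne : H ≠ ⊤
  nS : normalizer (S : Set G) ≤ H
  cent : ∀ t ∈ S, t ≠ 1 → centralizer ({t} : Set G) ≤ H
  ex : ∃ O : Subgroup G, O ≤ H ∧ Odd (Nat.card O) ∧ H ≤ normalizer (O : Set G) ∧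
    ∀ s ∈ H, s * s = 1 → ∃ t ∈ S, ∃ o ∈ O, s = t * o

theorem HH.le {H : Subgroup G} (hh : HH S H) : (S : Subgroup G) ≤ H := le_normalizer.trans hh.nS

theorem mem_sylow_of_norm (S : Sylow 2 G) {s : G} (hs : s ∈ normalizer (S : Set G)) (h2 : s * s = 1) : s ∈ S := by
  have h1 : IsPGroup 2 (zpowers s) := by
    rintro ⟨x, k, rfl⟩
    refine ⟨1, ?_⟩
    ext
    simp only [SubmonoidClass.coe_pow, OneMemClass.coe_one, pow_one]
    rw [← zpow_natCast, ← zpow_mul, mul_comm, zpow_mul]
    have : s ^ ((2 : ℕ) : ℤ) = 1 := by rw [zpow_natCast, pow_two, h2]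
    rw [this, one_zpow]
  have h3 := h1.inf_normalizer_sylow S
  have h4 : s ∈ zpowers s ⊓ normalizer (S : Set G) := ⟨mem_zpowers s, hs⟩
  rw [h3] at h4
  exact h4.2

theorem Dat.conj_mem [Finite G] (h : Sp G p q) (hd : Dat S O) {t n : G} (ht : t ∈ S) (h1 : t ≠ 1)
    (hn : n ∈ normalizer (S : Set G)) {x : G} (hx : x ∈ O t) : n * x * n⁻¹ ∈ O (n * t * n⁻¹) := by
  have ht' : n * t * n⁻¹ ∈ S := (mem_normalizer_iff.mp hn t).mp ht
  have h1' : n * t * n⁻¹ ≠ 1 := by
    intro h2
    exact h1 (conj_eq_one_iff.mp h2)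
  have hr := hd.rel t ht h1
  have hr' := hd.rel _ ht' h1'
  have hmem : ∀ y : G, y ∈ (O t).map (MulAut.conj n).toMonoidHom ↔ n⁻¹ * y * n ∈ O t := by
    intro y
    constructor
    · rintro ⟨z, hz, rfl⟩
      have : n⁻¹ * ((MulAut.conj n).toMonoidHom z) * n = z := by
        change n⁻¹ * (n * z * n⁻¹) * n = z
        group
      rw [this]; exact hz
    · intro hy
      refine ⟨_, hy, ?_⟩
      change n * (n⁻¹ * y * n) * n⁻¹ = y
      group
  have h2 : (O t).map (MulAut.conj n).toMonoidHom ≤ O (n * t * n⁻¹) := by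
    apply hr'.max
    · intro y hy
      rw [hmem] at hy
      have h3 := mem_centralizer_iff.mp (hr.le hy) t rfl
      rw [mem_centralizer_iff]
      rintro z rfl
      calc n * t * n⁻¹ * y = n * (t * (n⁻¹ * y * n)) * n⁻¹ := by group
        _ = n * (n⁻¹ * y * n * t) * n⁻¹ := by rw [h3]
        _ = y * (n * t * n⁻¹) := by group
    · rw [Nat.card_congr (Subgroup.equivMapOfInjective (O t) _ (MulAut.conj n).injective).toEquiv.symm]
      exact hr.odd
    · apply H1.Coprime.le_normalizer_of_conj_mem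
      intro s hs y hy
      rw [hmem] at hy ⊢
      have hs' : n⁻¹ * s * n ∈ S := by
        have := (mem_normalizer_iff.mp hn (n⁻¹ * s * n)).mpr
        apply this
        have h5 : n * (n⁻¹ * s * n) * n⁻¹ = s := by group
        rw [h5]; exact hs
      have h6 : (S : Subgroup G) ≤ normalizer (O t : Set G) := hd.norm h ht h1
      have h7 := H1.Coprime.conj_mem_of_le_normalizer h6 hs' hy
      have h8 : n⁻¹ * s * n * (n⁻¹ * y * n) * (n⁻¹ * s * n)⁻¹ = n⁻¹ * (s * y * s⁻¹) * n := by group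
      rwa [h8] at h7
  apply h2
  exact ⟨x, hx, rfl⟩

theorem Dat.comm_W [Finite G] {A : Set G} (hA : ∀ x ∈ A, ∀ y ∈ A, x * y = y * x) :
    ∀ x ∈ closure A, ∀ y ∈ closure A, x * y = y * x := by
  have h1 : closure A ≤ centralizer A := by
    rw [closure_le]
    intro x hx
    rw [SetLike.mem_coe, mem_centralizer_iff]
    intro y hy
    exact hA y hy x hx
  have h2 : closure A ≤ centralizer (closure A : Set G) := by
    rw [closure_le]
    intro x hx
    rw [SetLike.mem_coe, mem_centralizer_iff]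
    intro y hy
    exact (mem_centralizer_iff.mp (h1 hy) x hx).symm
  intro x hx y hy
  exact mem_centralizer_iff.mp (h2 hy) x hx

theorem Dat.exists_HH [Finite G] [IsSimpleGroup G] (h : Sp G p q) (hd : Dat S O)
    (hS : (S : Subgroup G) ≠ ⊥)
    (hcomm : ∀ s ∈ S, s ≠ 1 → ∀ t ∈ S, t ≠ 1 → ∀ x ∈ O s, ∀ y ∈ O t, x * y = y * x) :
    ∃ H, HH S H := by
  haveI : Fact p.Prime := ⟨h.hp⟩
  haveI : Fact (Nat.Prime 2) := ⟨Nat.prime_two⟩
  set A : Set G := {x | ∃ t ∈ S, t ≠ 1 ∧ x ∈ O t} with hA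
  have hAc : ∀ x ∈ A, ∀ y ∈ A, x * y = y * x := by
    rintro x ⟨s, hs, hs1, hx⟩ y ⟨t, ht, ht1, hy⟩
    exact hcomm s hs hs1 t ht ht1 x hx y hy
  set W := closure A with hW
  have hWc : ∀ x ∈ W, ∀ y ∈ W, x * y = y * x := Dat.comm_W hAc
  have hWp : ∀ x ∈ W, x ^ p = 1 := by
    intro x hx
    induction hx using closure_induction with
    | mem x hx =>
      obtain ⟨t, ht, ht1, hxt⟩ := hx
      exact h.p_el' (hd.isPGroup h ht ht1) hxt
    | one => exact one_pow _
    | mul x y hx hy h1 h2 =>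
      have hc : Commute x y := hWc x hx y hy
      rw [hc.mul_pow, h1, h2, one_mul]
    | inv x hx h1 => rw [inv_pow, h1, inv_one]
  have hWP : IsPGroup p W := by
    rintro ⟨x, hx⟩
    refine ⟨1, ?_⟩
    ext
    simpa using hWp x hx
  have hle : ∀ t ∈ S, t ≠ 1 → O t ≤ W := by
    intro t ht ht1 x hx
    exact Subgroup.subset_closure ⟨t, ht, ht1, hx⟩
  have hWN : W ≤ normalizer (W : Set G) := le_normalizer
  have hSN : normalizer (S : Set G) ≤ normalizer (W : Set G) := by
    apply H1.Coprime.le_normalizer_of_conj_mem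
    intro n hn x hx
    induction hx using closure_induction with
    | mem x hx =>
      obtain ⟨t, ht, ht1, hxt⟩ := hx
      have h2 := hd.conj_mem h ht ht1 hn hxt
      apply Subgroup.subset_closure
      refine ⟨n * t * n⁻¹, (mem_normalizer_iff.mp hn t).mp ht, ?_, h2⟩
      intro h3
      exact ht1 (conj_eq_one_iff.mp h3)
    | one => rw [mul_one, mul_inv_cancel]; exact one_mem _
    | mul x y hx hy h1 h2 =>
      have h3 : n * (x * y) * n⁻¹ = (n * x * n⁻¹) * (n * y * n⁻¹) := by group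
      rw [h3]; exact mul_mem h1 h2
    | inv x hx h1 => rw [ci]; exact inv_mem h1
  obtain ⟨s0, hs0, hs01⟩ : ∃ s ∈ S, s ≠ 1 := by
    by_contra hcon
    push Not at hcon
    apply hS
    rw [eq_bot_iff]
    intro x hx
    exact mem_bot.mpr (hcon x hx)
  by_cases hWb : W = ⊥
  · refine ⟨normalizer (S : Set G), ?_, le_rfl, ?_, ⊥, bot_le, ?_, ?_, ?_⟩
    · intro htop
      have hn : (S : Subgroup G).Normal := normalizer_eq_top_iff.mp htop
      rcases hn.eq_bot_or_eq_top with h1 | h1
      · exact hS h1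
      · obtain ⟨y, hy⟩ := h.eq
        have hyS : y ∈ (S : Subgroup G) := by rw [h1]; trivial
        have h2 := h.two_el' S.isPGroup' hyS
        have h3 : orderOf y ∣ 2 := by
          rw [orderOf_dvd_iff_pow_eq_one, pow_two, h2]
        rw [hy] at h3
        exact h.q2 ((Nat.prime_dvd_prime_iff_eq h.hq Nat.prime_two).mp h3)
    · intro t ht ht1 x hx
      obtain ⟨o, ho, n, -, hn, rfl⟩ := (hd.rel t ht ht1).fac x hx
      have h1 := hle t ht ht1 ho
      rw [hWb, mem_bot] at h1
      rw [h1, one_mul]; exact hn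
    · simp
    · exact le_normalizer_of_normal
    · intro s hs hs2
      exact ⟨s, mem_sylow_of_norm S hs hs2, 1, one_mem _, by rw [mul_one]⟩
  · set H := normalizer (W : Set G) with hH
    have hHS : (S : Subgroup G) ≤ H := le_normalizer.trans hSN
    obtain ⟨w, hw, hw1⟩ : ∃ w ∈ W, w ≠ 1 := by
      by_contra hcon
      push Not at hcon
      apply hWb
      rw [eq_bot_iff]
      intro x hx
      exact mem_bot.mpr (hcon x hx)
    have hwo : orderOf w = p := h.p_ord hWP hw hw1
    have hsol : Group.IsSolvable H := by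
      set N : Subgroup H := (centralizer (W : Set G)).subgroupOf H with hN
      haveI hNn : N.Normal := by
        refine ⟨fun n hn g => ?_⟩
        rw [hN, mem_subgroupOf, mem_centralizer_iff] at hn ⊢
        intro x hx
        have hg := g.2
        have h1 : (g : G)⁻¹ * x * g ∈ W := H1.Coprime.conj_mem_of_le_normalizer' (le_refl H) g.2 hx
        have h2 := hn _ h1
        push_cast
        calc x * ((g : G) * n * (g : G)⁻¹) = g * ((g : G)⁻¹ * x * g * n) * (g : G)⁻¹ := by group
          _ = g * (n * ((g : G)⁻¹ * x * g)) * (g : G)⁻¹ := by rw [h2]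
          _ = (g : G) * n * (g : G)⁻¹ * x := by group
      rw [Group.isSolvable_iff_subgroup_quotient N]
      constructor
      · have h1 : centralizer (W : Set G) ≤ centralizer ({w} : Set G) := by
          apply centralizer_le
          rintro x rfl
          exact hw
        have h2 : Group.IsSolvable (centralizer (W : Set G)) := H1.Coprime.isSolvable_of_le h1 (h.solv_p hwo)
        have h3 : Group.IsSolvable ((centralizer (W : Set G)) ⊓ H : Subgroup G) :=
          H1.Coprime.isSolvable_of_le inf_le_left h2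
        let f : N →* ((centralizer (W : Set G)) ⊓ H : Subgroup G) :=
          { toFun := fun x => ⟨(x : H), x.2, (x : H).2⟩
            map_one' := rfl
            map_mul' := fun _ _ => rfl }
        haveI := h3
        refine Group.isSolvable_of_isSolvable_injective (f := f) ?_
        intro x y hxy
        have := congrArg Subtype.val hxy
        ext
        exact this
      · have hpn : ¬ p ∣ Nat.card (H ⧸ N) := by
          have h1 : IsPGroup p (W.subgroupOf H) := hWP.comap_subtype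
          obtain ⟨P0, hP0⟩ := h1.exists_le_sylow
          have h2 : (P0 : Subgroup H) ≤ N := by
            intro x hx
            rw [hN, mem_subgroupOf, mem_centralizer_iff]
            intro y hy
            have h3 := h.p_comm (P0.isPGroup'.map H.subtype)
            exact h3 y ⟨⟨y, hWN hy⟩, hP0 hy, rfl⟩ x ⟨x, hx, rfl⟩
          have h3 : N.index ∣ (P0 : Subgroup H).index := Subgroup.index_dvd_of_le h2
          intro h4
          exact P0.not_dvd_index (h4.trans h3)
        apply solv_of_two_primes Nat.prime_two h.hq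
        intro l hl hld
        have h1 : l ∣ Nat.card H := hld.trans (Subgroup.index_dvd_card N)
        rcases h.prime_card hl h1 with h2 | h2 | h2
        · exact Or.inl h2
        · rw [h2] at hld
          exact absurd hld hpn
        · exact Or.inr h2
    obtain ⟨OH, hOH⟩ := L1 hsol hHS S.isPGroup' (h.two_comm S.isPGroup') (sylow_relIndex S hHS)
    refine ⟨H, ?_, hSN, ?_, OH, hOH.le, hOH.odd, hOH.norm, ?_⟩
    · intro htop
      have hn : W.Normal := normalizer_eq_top_iff.mp htop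
      rcases hn.eq_bot_or_eq_top with h1 | h1
      · exact hWb h1
      · have h2 : s0 ^ p = 1 := hWp s0 (by rw [h1]; trivial)
        have h3 : orderOf s0 ∣ p := orderOf_dvd_of_pow_eq_one h2
        rw [h.ord_two S hs0 hs01] at h3
        exact h.p2 ((Nat.prime_dvd_prime_iff_eq Nat.prime_two h.hp).mp h3).symm
    · intro t ht ht1 x hx
      obtain ⟨o, ho, n, -, hn, rfl⟩ := (hd.rel t ht ht1).fac x hx
      exact mul_mem (hWN (hle t ht ht1 ho)) (hSN hn)
    · intro s hs hs2
      exact hOH.inv s hs ⟨1, by rw [pow_one, pow_two, hs2]⟩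

end H73.Orb
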