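import Mathlib
import Cfsg.Agent.Lib.H73.Orb5
import Cfsg.Agent.S0076

/-!
Tools for S3406: properties of the strongly embedded subgroup `H`.
-/

set_option autoImplicit false

open Subgroup Cfsg
open scoped Pointwise

namespace H73.Orb

variable {G : Type*} [Group G] {p q : ℕ}

/-- an involution without fixed points inverts -/
theorem inv_of_fpf [Finite G] {X : Subgroup G} {s : G} (hs : s * s = 1)
    (hX : ∀ x ∈ X, s * x * s⁻¹ ∈ X) (hf : ∀ x ∈ X, s * x * s⁻¹ = x → x = 1) :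
    ∀ x ∈ X, s * x * s⁻¹ = x⁻¹ := by
  let φ : X →* X :=
    { toFun := fun x => ⟨s * x * s⁻¹, hX x x.2⟩
      map_one' := by ext; simp
      map_mul' := by intro x y; ext; simp }
  have h1 : MonoidHom.FixedPointFree φ := by
    intro x hx
    ext
    exact hf x x.2 (congrArg Subtype.val hx)
  have h2 : Function.Involutive φ := by
    intro x
    ext
    change s * (s * x * s⁻¹) * s⁻¹ = x
    have hsi : s⁻¹ = s := inv_eq_of_mul_eq_one_right hs
    rw [hsi]
    calc s * (s * x * s) * s = (s * s) * x * (s * s) := by group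
      _ = x := by rw [hs, one_mul, mul_one]
  have h3 := h1.coe_eq_inv_of_involutive h2
  intro x hx
  have := congrFun h3 ⟨x, hx⟩
  exact congrArg Subtype.val this

theorem conj_into [Finite G] (S : Sylow 2 G) {H : Subgroup G} (hle : (S : Subgroup G) ≤ H) {u : G}
    (hu : u ∈ H) (hu2 : u * u = 1) : ∃ k ∈ H, k * u * k⁻¹ ∈ S := by
  haveI : Fact (Nat.Prime 2) := ⟨Nat.prime_two⟩
  have h1 : IsPGroup 2 (zpowers (⟨u, hu⟩ : H)) := by
    rintro ⟨x, k, rfl⟩
    refine ⟨1, ?_⟩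
    ext
    simp only [SubmonoidClass.coe_pow, OneMemClass.coe_one, pow_one, SubgroupClass.coe_zpow]
    rw [← zpow_natCast, ← zpow_mul, mul_comm, zpow_mul]
    have : u ^ ((2 : ℕ) : ℤ) = 1 := by rw [zpow_natCast, pow_two, hu2]
    rw [this, one_zpow]
  obtain ⟨Q, hQ⟩ := h1.exists_le_sylow
  obtain ⟨k, hk⟩ := MulAction.exists_smul_eq H Q (S.subtype hle)
  refine ⟨k, k.2, ?_⟩
  have h2 : (⟨u, hu⟩ : H) ∈ (Q : Subgroup H) := hQ (mem_zpowers _)
  have h3 : k * ⟨u, hu⟩ * k⁻¹ ∈ (S.subtype hle : Subgroup H) := by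
    have h4 : k * ⟨u, hu⟩ * k⁻¹ ∈ ((k • Q : Sylow 2 H) : Subgroup H) := ⟨_, h2, rfl⟩
    rw [hk] at h4
    exact h4
  exact h3

theorem conj_into' [Finite G] (S : Sylow 2 G) {u : G} (hu2 : u * u = 1) : ∃ k : G, k * u * k⁻¹ ∈ S := by
  obtain ⟨k, -, hk⟩ := conj_into S (H := ⊤) le_top (mem_top u) hu2
  exact ⟨k, hk⟩

theorem ord2 {u : G} (hu : orderOf u = 2) : u * u = 1 := by
  rw [← pow_two, ← hu, pow_orderOf_eq_one]

theorem ord2ne {u : G} (hu : orderOf u = 2) : u ≠ 1 := by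
  rintro rfl
  rw [orderOf_one] at hu
  omega

theorem of2 {u : G} (hu : u * u = 1) (h1 : u ≠ 1) : orderOf u = 2 := by
  haveI : Fact (Nat.Prime 2) := ⟨Nat.prime_two⟩
  apply orderOf_eq_prime _ h1
  rw [pow_two, hu]

theorem ordc {u g : G} : orderOf (g * u * g⁻¹) = orderOf u := by
  rw [← MulAut.conj_apply]
  exact MulEquiv.orderOf_eq (MulAut.conj g) u

namespace Sp

variable (h : Sp G p q)
include h

theorem fusion [Finite G] (S : Sylow 2 G) {t t' g : G} (ht : t ∈ S) (ht' : t' ∈ S)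
    (hg : g * t * g⁻¹ = t') : ∃ n ∈ normalizer (S : Set G), n * t * n⁻¹ = t' := by
  haveI : Fact (Nat.Prime 2) := ⟨Nat.prime_two⟩
  have hfix : ∀ z ∈ S, ∀ x ∈ S, (fun y => x * y * x⁻¹) '' ({z} : Set G) = {z} := by
    intro z hz x hx
    rw [Set.image_singleton]
    have h1 := h.two_comm S.isPGroup' x hx z hz
    rw [h1, mul_inv_cancel_right]
  obtain ⟨n, hn, hnt⟩ := Cfsg.Agent.S0076.result S {t} {t'} (by rintro x rfl; exact ht)
    (by rintro x rfl; exact ht') (hfix t ht) (hfix t' ht') g (by rw [Set.image_singleton, hg])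
  refine ⟨n, hn, ?_⟩
  rw [Set.image_singleton] at hnt
  exact Set.singleton_injective hnt

/-- a fours-group cannot act on a nontrivial q-group -/
theorem klein_q [Finite G] {T Q : Subgroup G} (hT : IsPGroup 2 T) (hT4 : 3 ≤ Nat.card T)
    (hQ : IsPGroup q Q) (hTQ : T ≤ normalizer (Q : Set G)) : Q = ⊥ := by
  by_contra hne
  have hinv : ∀ s ∈ T, s ≠ 1 → ∀ x ∈ Q, s * x * s⁻¹ = x⁻¹ := by
    intro s hs hs1
    apply inv_of_fpf (h.two_el' hT hs)
    · intro x hx; exact H1.Coprime.conj_mem_of_le_normalizer hTQ hs hx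
    · intro x hx hfix
      by_contra hx1
      exact h.no2q (of2 (h.two_el' hT hs) hs1) (h.q_ord hQ hx hx1) (mul_inv_eq_iff_eq_mul.mp hfix)
  obtain ⟨s, t, hs, ht, hs1, ht1, hst⟩ : ∃ s t, s ∈ T ∧ t ∈ T ∧ s ≠ 1 ∧ t ≠ 1 ∧ s ≠ t := by
    by_contra hcon
    push Not at hcon
    have h1 : ∃ s ∈ T, s ≠ 1 := by
      by_contra h2
      push Not at h2
      have h3 : T = ⊥ := by
        rw [eq_bot_iff]; intro x hx; exact mem_bot.mpr (h2 x hx)
      rw [h3] at hT4
      simp at hT4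
    obtain ⟨s, hs, hs1⟩ := h1
    have h2 : (T : Set G) ⊆ {1, s} := by
      intro x hx
      by_cases hx1 : x = 1
      · exact Or.inl hx1
      · exact Or.inr (hcon s x hs hx hs1 hx1).symm
    have h3 : Nat.card T = (T : Set G).ncard := Nat.card_coe_set_eq _
    have h4 := Set.ncard_le_ncard h2 (Set.toFinite _)
    have h5 := Set.ncard_insert_le (1 : G) {s}
    rw [Set.ncard_singleton] at h5
    omega
  apply hne
  rw [eq_bot_iff]
  intro x hx
  rw [mem_bot]
  by_contra hx1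
  have hst1 : s * t ≠ 1 := by
    intro h1
    apply hst
    have h2 : s = t⁻¹ := eq_inv_of_mul_eq_one_left h1
    rw [h2]; exact inv_eq_of_mul_eq_one_left (h.two_el' hT ht)
  have h1 : (s * t) * x * (s * t)⁻¹ = x := by
    rw [cm, hinv t ht ht1 x hx, ci, hinv s hs hs1 x hx, inv_inv]
  exact h.no2q (of2 (h.two_el' hT (mul_mem hs ht)) hst1) (h.q_ord hQ hx hx1)
    (mul_inv_eq_iff_eq_mul.mp h1)

end Sp

variable {S : Sylow 2 G} {H : Subgroup G}

theorem HH.se [Finite G] (h : Sp G p q) (hh : HH S H) {u x : G} (hu : u ∈ H) (hu2 : orderOf u = 2)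
    (hx : x * u * x⁻¹ ∈ H) : x ∈ H := by
  obtain ⟨k, hk, hku⟩ := conj_into S hh.le hu (ord2 hu2)
  obtain ⟨l, hl, hlu⟩ := conj_into S hh.le hx (ord2 (by rw [ordc]; exact hu2))
  have h1 : (l * x * k⁻¹) * (k * u * k⁻¹) * (l * x * k⁻¹)⁻¹ = l * (x * u * x⁻¹) * l⁻¹ := by group
  obtain ⟨n, hn, hnt⟩ := h.fusion S hku hlu h1
  have h2 : n⁻¹ * (l * x * k⁻¹) ∈ centralizer ({k * u * k⁻¹} : Set G) := by
    rw [mem_centralizer_iff]
    rintro z rfl
    rw [← h1] at hnt
    set y := l * x * k⁻¹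
    set t := k * u * k⁻¹
    have h3 : t * n⁻¹ = n⁻¹ * (y * t * y⁻¹) := by rw [← hnt]; group
    calc t * (n⁻¹ * y) = t * n⁻¹ * y := by group
      _ = n⁻¹ * (y * t * y⁻¹) * y := by rw [h3]
      _ = n⁻¹ * y * t := by group
  have hne : k * u * k⁻¹ ≠ 1 := by
    intro h3
    exact ord2ne hu2 (conj_eq_one_iff.mp h3)
  have h3 := hh.cent _ hku hne h2
  have h4 : x = l⁻¹ * (n * (n⁻¹ * (l * x * k⁻¹))) * k := by group
  rw [h4]
  exact mul_mem (mul_mem (inv_mem hl) (mul_mem (hh.nS hn) h3)) hk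

theorem HH.centI [Finite G] (h : Sp G p q) (hh : HH S H) {u : G} (hu : u ∈ H) (hu2 : orderOf u = 2) :
    centralizer ({u} : Set G) ≤ H := by
  intro x hx
  apply hh.se h hu hu2
  have h1 := mem_centralizer_iff.mp hx u rfl
  rw [← h1, mul_inv_cancel_right]
  exact hu

/-- two involutions lie in a common conjugate of `H` -/
def Same (H : Subgroup G) (s u : G) : Prop := ∃ g : G, g * s * g⁻¹ ∈ H ∧ g * u * g⁻¹ ∈ H

theorem Same.symm {s u : G} (hs : Same H s u) : Same H u s := by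
  obtain ⟨g, h1, h2⟩ := hs
  exact ⟨g, h2, h1⟩

theorem HH.same_mem [Finite G] (h : Sp G p q) (hh : HH S H) {s u g : G} (hs : orderOf s = 2)
    (hsu : Same H s u) (hg : g * s * g⁻¹ ∈ H) : g * u * g⁻¹ ∈ H := by
  obtain ⟨k, h1, h2⟩ := hsu
  have h3 : g * k⁻¹ ∈ H := by
    apply hh.se h h1 (by rw [ordc]; exact hs)
    have : g * k⁻¹ * (k * s * k⁻¹) * (g * k⁻¹)⁻¹ = g * s * g⁻¹ := by group
    rw [this]; exact hg
  have h4 : g * u * g⁻¹ = g * k⁻¹ * (k * u * k⁻¹) * (g * k⁻¹)⁻¹ := by group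
  rw [h4]
  exact mul_mem (mul_mem h3 h2) (inv_mem h3)

theorem HH.cov [Finite G] (hh : HH S H) {s : G} (hs : orderOf s = 2) : ∃ g : G, g * s * g⁻¹ ∈ H := by
  obtain ⟨k, hk⟩ := conj_into' S (ord2 hs)
  exact ⟨k, hh.le hk⟩

/-- commuting involutions with a common centralized involution -/
theorem HH.same_of_cent [Finite G] (h : Sp G p q) (hh : HH S H) {z s u : G} (hz : orderOf z = 2)
    (hs : z * s = s * z) (hu : z * u = u * z) : Same H s u := by
  obtain ⟨g, hg⟩ := hh.cov hz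
  have hc := hh.centI h hg (by rw [ordc]; exact hz)
  refine ⟨g, hc ?_, hc ?_⟩
  · rw [mem_centralizer_iff]
    rintro w rfl
    calc g * z * g⁻¹ * (g * s * g⁻¹) = g * (z * s) * g⁻¹ := by group
      _ = g * (s * z) * g⁻¹ := by rw [hs]
      _ = g * s * g⁻¹ * (g * z * g⁻¹) := by group
  · rw [mem_centralizer_iff]
    rintro w rfl
    calc g * z * g⁻¹ * (g * u * g⁻¹) = g * (z * u) * g⁻¹ := by group
      _ = g * (u * z) * g⁻¹ := by rw [hu]
      _ = g * u * g⁻¹ * (g * z * g⁻¹) := by group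

/-- an involution inverting an element `y` commuting with some involution -/
theorem Sp.exists_fix [Finite G] (h : Sp G p q) {y s z : G} (hs : orderOf s = 2)
    (hsy : s * y * s⁻¹ = y⁻¹) (hz : orderOf z = 2) (hzy : z * y = y * z) :
    ∃ z' : G, orderOf z' = 2 ∧ z' * y = y * z' ∧ z' * s = s * z' := by
  haveI : Fact (Nat.Prime 2) := ⟨Nat.prime_two⟩
  set N := normalizer (zpowers y : Set G) with hN
  have hsN : s ∈ N := by
    rw [hN, mem_normalizer_iff]
    have key : ∀ a : G, a ∈ zpowers y → s * a * s⁻¹ ∈ zpowers y := by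
      rintro a ⟨k, rfl⟩
      refine ⟨-k, ?_⟩
      change y ^ (-k) = s * y ^ k * s⁻¹
      rw [← conj_zpow, hsy, inv_zpow, zpow_neg]
    intro a
    refine ⟨key a, fun ha => ?_⟩
    have h1 := key _ ha
    have hsi : s⁻¹ = s := inv_eq_of_mul_eq_one_right (ord2 hs)
    have h2 : s * (s * a * s⁻¹) * s⁻¹ = a := by
      rw [hsi]
      calc s * (s * a * s) * s = (s * s) * a * (s * s) := by group
        _ = a := by rw [ord2 hs, one_mul, mul_one]
    rwa [h2] at h1
  have hzN : z ∈ N := by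
    rw [hN]
    exact H1.Coprime.le_normalizer_of_conj_mem (A := zpowers z) (K := zpowers y) (by
      rintro _ ⟨k, rfl⟩ _ ⟨l, rfl⟩
      have hc : Commute z y := hzy
      have h1 : (z ^ k) * (y ^ l) = (y ^ l) * (z ^ k) := hc.zpow_zpow k l
      refine ⟨l, ?_⟩
      change y ^ l = z ^ k * y ^ l * (z ^ k)⁻¹
      rw [h1, mul_inv_cancel_right]) (mem_zpowers z)
  -- a Sylow 2-subgroup of N containing s
  have h1 : IsPGroup 2 (zpowers (⟨s, hsN⟩ : N)) := by
    rintro ⟨x, k, rfl⟩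
    refine ⟨1, ?_⟩
    ext
    simp only [SubmonoidClass.coe_pow, OneMemClass.coe_one, pow_one, SubgroupClass.coe_zpow]
    rw [← zpow_natCast, ← zpow_mul, mul_comm, zpow_mul]
    have : s ^ ((2 : ℕ) : ℤ) = 1 := by rw [zpow_natCast, pow_two, ord2 hs]
    rw [this, one_zpow]
  obtain ⟨T, hT⟩ := h1.exists_le_sylow
  have h2 : IsPGroup 2 (zpowers (⟨z, hzN⟩ : N)) := by
    rintro ⟨x, k, rfl⟩
    refine ⟨1, ?_⟩
    ext
    simp only [SubmonoidClass.coe_pow, OneMemClass.coe_one, pow_one, SubgroupClass.coe_zpow]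
    rw [← zpow_natCast, ← zpow_mul, mul_comm, zpow_mul]
    have : z ^ ((2 : ℕ) : ℤ) = 1 := by rw [zpow_natCast, pow_two, ord2 hz]
    rw [this, one_zpow]
  obtain ⟨Q, hQ⟩ := h2.exists_le_sylow
  obtain ⟨k, hk⟩ := MulAction.exists_smul_eq N Q T
  have h3 : (⟨z, hzN⟩ : N) ∈ (Q : Subgroup N) := hQ (mem_zpowers _)
  have h4 : k * ⟨z, hzN⟩ * k⁻¹ ∈ (T : Subgroup N) := by
    have h5 : k * ⟨z, hzN⟩ * k⁻¹ ∈ ((k • Q : Sylow 2 N) : Subgroup N) := ⟨_, h3, rfl⟩
    rw [hk] at h5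
    exact h5
  have h5 : (⟨s, hsN⟩ : N) ∈ (T : Subgroup N) := hT (mem_zpowers _)
  have hTc := h.two_comm (T.isPGroup'.map N.subtype)
  refine ⟨k * z * (k : G)⁻¹, by rw [ordc]; exact hz, ?_, ?_⟩
  · -- commutes with y
    have hky : (k : G)⁻¹ * y * k ∈ zpowers y := by
      have := (mem_normalizer_iff''.mp k.2 y).mp (mem_zpowers y)
      exact this
    obtain ⟨j, hj⟩ := hky
    have hj' : y ^ j = (k : G)⁻¹ * y * k := hj
    have hc : z * y ^ j = y ^ j * z := (show Commute z y from hzy).zpow_right j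
    rw [hj'] at hc
    calc (k : G) * z * (k : G)⁻¹ * y = k * (z * ((k : G)⁻¹ * y * k)) * (k : G)⁻¹ := by group
      _ = k * ((k : G)⁻¹ * y * k * z) * (k : G)⁻¹ := by rw [hc]
      _ = y * (k * z * (k : G)⁻¹) := by group
  · exact hTc _ ⟨_, h4, rfl⟩ _ ⟨_, h5, rfl⟩

theorem HH.claim1 [Finite G] (h : Sp G p q) (hh : HH S H) {s u : G} (hs : orderOf s = 2)
    (hu : orderOf u = 2) (hns : ¬ Same H s u) : orderOf (s * u) = q := by
  have hsi : s⁻¹ = s := inv_eq_of_mul_eq_one_right (ord2 hs)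
  have hui : u⁻¹ = u := inv_eq_of_mul_eq_one_right (ord2 hu)
  have hinv : s * (s * u) * s⁻¹ = (s * u)⁻¹ := by
    rw [mul_inv_rev, hsi, hui, ← mul_assoc, ord2 hs, one_mul]
  -- if an involution commutes with su then contradiction
  have key : ∀ z : G, orderOf z = 2 → z * (s * u) = (s * u) * z → False := by
    intro z hz hzc
    obtain ⟨z', hz1, hz2, hz3⟩ := h.exists_fix hs hinv hz hzc
    apply hns
    apply hh.same_of_cent h hz1 hz3
    have : u = s * (s * u) := by rw [← mul_assoc, ord2 hs, one_mul]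
    rw [this]
    calc z' * (s * (s * u)) = (z' * s) * (s * u) := by group
      _ = s * (z' * (s * u)) := by rw [hz3]; group
      _ = s * ((s * u) * z') := by rw [hz2]
      _ = s * (s * u) * z' := by group
  rcases h.spec (s * u) with h1 | h1 | h1 | h1 | h1
  · exfalso
    rw [orderOf_eq_one_iff] at h1
    apply key s hs
    rw [h1]; simp
  · exact (key (s * u) h1 rfl).elim
  · obtain ⟨z, hz, hz2⟩ := h.exists_two_of_p h1
    exact (key z hz hz2).elim
  · exact h1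
  · exfalso
    apply key ((s * u) ^ p)
    · rw [orderOf_pow_of_dvd h.hp.ne_zero (by rw [h1]; exact Dvd.intro_left 2 rfl), h1]
      exact Nat.mul_div_cancel _ h.hp.pos
    · rw [← pow_succ, ← pow_succ']

theorem HH.noq [Finite G] (h : Sp G p q) (hh : HH S H) (hS : 3 ≤ Nat.card S) {s u : G} (hs : s ∈ H)
    (hu : u ∈ H) (hs2 : s * s = 1) (hu2 : u * u = 1) : orderOf (s * u) ≠ q := by
  intro hq
  haveI : Fact (Nat.Prime 2) := ⟨Nat.prime_two⟩
  haveI : Fact q.Prime := ⟨h.hq⟩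
  obtain ⟨O, hOH, hOo, hHO, hO⟩ := hh.ex
  obtain ⟨t1, ht1, o1, ho1, rfl⟩ := hO s hs hs2
  obtain ⟨t2, ht2, o2, ho2, rfl⟩ := hO u hu hu2
  have h1 : t1 * o1 * (t2 * o2) = (t1 * t2) * ((t2⁻¹ * o1 * t2) * o2) := by group
  set t := t1 * t2 with ht
  set o := (t2⁻¹ * o1 * t2) * o2 with ho
  have htS : t ∈ S := mul_mem ht1 ht2
  have hoO : o ∈ O := mul_mem (H1.Coprime.conj_mem_of_le_normalizer' hHO (hh.le ht2) ho1) ho2
  rw [h1] at hq
  have hSO : (S : Subgroup G) ⊓ O = ⊥ := by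
    apply H1.Coprime.inf_eq_bot_of_coprime_card
    obtain ⟨k, hk⟩ := IsPGroup.iff_card.mp S.isPGroup'
    change Nat.Coprime (Nat.card S) _
    rw [hk]
    exact Nat.Coprime.pow_left k (Nat.coprime_two_left.mpr hOo)
  -- (t o)^q in t O
  have hpow : ∀ n : ℕ, ∃ o' ∈ O, (t * o) ^ n = t ^ n * o' := by
    intro n
    induction n with
    | zero => exact ⟨1, one_mem _, by simp⟩
    | succ n ih =>
      obtain ⟨o', ho', hn⟩ := ih
      refine ⟨t⁻¹ * o' * t * o, mul_mem (H1.Coprime.conj_mem_of_le_normalizer' hHO (hh.le htS) ho') hoO, ?_⟩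
      rw [pow_succ, hn, pow_succ]; group
  have ht2' : t * t = 1 := h.two_el' S.isPGroup' htS
  have ht1' : t = 1 := by
    obtain ⟨o', ho', hn⟩ := hpow q
    have h2 : (t * o) ^ q = 1 := by rw [← hq, pow_orderOf_eq_one]
    rw [h2] at hn
    obtain ⟨m, hm⟩ := h.qodd
    have h3 : t ^ q = t := by
      rw [hm, pow_succ, pow_mul, pow_two, ht2', one_pow, one_mul]
    rw [h3] at hn
    have h4 : t = o'⁻¹ := eq_inv_of_mul_eq_one_left hn.symm
    have h6 : t ∈ O := by rw [h4]; exact inv_mem ho'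
    have h5 : t ∈ (S : Subgroup G) ⊓ O := ⟨htS, h6⟩
    rw [hSO, mem_bot] at h5
    exact h5
  rw [ht1', one_mul] at hq
  have hcop : (Nat.card S).Coprime (Nat.card O) := by
    obtain ⟨k, hk⟩ := IsPGroup.iff_card.mp S.isPGroup'
    rw [hk]
    exact Nat.Coprime.pow_left k (Nat.coprime_two_left.mpr hOo)
  have hsolS : Group.IsSolvable (S : Subgroup G) := by
    apply Group.isSolvable_of_comm
    rintro ⟨a, ha⟩ ⟨b, hb⟩
    ext
    exact h.two_comm S.isPGroup' a ha b hb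
  obtain ⟨Q, hQ, hSQ⟩ := H1.Coprime2.exists_invariant_sylow (S : Subgroup G) O (hh.le.trans hHO)
    hcop (Or.inl hsolS) q
  have hQb := h.klein_q S.isPGroup' hS hQ.isPGroup hSQ
  have h2 := hQ.2
  rw [hQb] at h2
  simp only [card_bot] at h2
  have h3 : q ∣ Nat.card O := by
    have h4 : orderOf (⟨o, hoO⟩ : O) ∣ Nat.card O := orderOf_dvd_natCard _
    have h5 : orderOf (⟨o, hoO⟩ : O) = q := by
      rw [← hq, ← Subgroup.orderOf_coe]
    rwa [h5] at h4
  have h4 : 0 < (Nat.card O).factorization q :=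
    Nat.Prime.factorization_pos_of_dvd h.hq Nat.card_pos.ne' h3
  have h5 : q ^ (Nat.card O).factorization q ≠ 1 := by
    have := Nat.one_lt_pow h4.ne' h.hq.one_lt
    omega
  exact h5 h2.symm

end H73.Orb
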