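import Mathlib
import Cfsg.Agent.Lib.H73.Orb6

/-!
Tools for S3406: counting in the group with strongly embedded subgroup `H`.
-/

set_option autoImplicit false

open Subgroup Cfsg
open scoped Pointwise

namespace H73.Orb

variable {G : Type*} [Group G] {p q : ℕ}
variable {S : Sylow 2 G} {H : Subgroup G}

theorem conj_of_odd {t s : G} (ht : t * t = 1) (hs : s * s = 1) (ho : Odd (orderOf (t * s))) :
    ∃ b : G, b⁻¹ * t * b = s := by
  obtain ⟨m, hm⟩ := ho
  set a := t * s with ha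
  have hti : t⁻¹ = t := inv_eq_of_mul_eq_one_right ht
  have hsi : s⁻¹ = s := inv_eq_of_mul_eq_one_right hs
  refine ⟨a ^ (m + 1), ?_⟩
  have h1 : t * a⁻¹ * t⁻¹ = a := by
    rw [ha, mul_inv_rev, hti, hsi, ← mul_assoc, mul_assoc _ t t, ht, mul_one]
  have h2 : t * (a ^ (m + 1))⁻¹ * t⁻¹ = a ^ (m + 1) := by
    rw [← inv_pow, ← conj_pow, h1]
  have h3 : a ^ (m + 1) * a ^ (m + 1) = a := by
    rw [← pow_add]
    have : m + 1 + (m + 1) = orderOf a + 1 := by omega
    rw [this, pow_succ, pow_orderOf_eq_one, one_mul]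
  calc (a ^ (m + 1))⁻¹ * t * a ^ (m + 1) = t * (t * (a ^ (m + 1))⁻¹ * t⁻¹) * a ^ (m + 1) := by
        rw [hti, ← mul_assoc, ← mul_assoc, ht, one_mul, mul_assoc]
    _ = t * (a ^ (m + 1) * a ^ (m + 1)) := by rw [h2, mul_assoc]
    _ = s := by rw [h3, ha, ← mul_assoc, ht, one_mul]

theorem HH.exists_nsame [Finite G] [IsSimpleGroup G] (h : Sp G p q) (hh : HH S H) {s : G}
    (hs : orderOf s = 2) : ∃ v : G, orderOf v = 2 ∧ ¬ Same H s v := by
  by_contra hcon
  push Not at hcon
  obtain ⟨g, hg⟩ := hh.cov hs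
  have h1 : normalClosure {s} ≤ H.comap (MulAut.conj g).toMonoidHom := by
    rw [normalClosure, closure_le]
    intro v hv
    rw [Group.mem_conjugatesOfSet_iff] at hv
    obtain ⟨a, ha, hav⟩ := hv
    rw [Set.mem_singleton_iff] at ha
    rw [ha, isConj_iff] at hav
    obtain ⟨c, rfl⟩ := hav
    exact hh.same_mem h hs (hcon _ (by rw [ordc]; exact hs)) hg
  have hs1 : s ∈ normalClosure {s} := subset_normalClosure rfl
  rcases (inferInstance : (normalClosure {s}).Normal).eq_bot_or_eq_top with h2 | h2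
  · rw [h2, mem_bot] at hs1
    exact ord2ne hs hs1
  · apply hh.ne
    rw [eq_top_iff]
    intro x _
    rw [h2] at h1
    have h3 : g⁻¹ * x * g ∈ H.comap (MulAut.conj g).toMonoidHom := h1 (mem_top _)
    have h4 : g * (g⁻¹ * x * g) * g⁻¹ ∈ H := h3
    have h5 : g * (g⁻¹ * x * g) * g⁻¹ = x := by group
    rwa [h5] at h4

theorem HH.one_class [Finite G] [IsSimpleGroup G] (h : Sp G p q) (hh : HH S H) {s u : G}
    (hs : orderOf s = 2) (hu : orderOf u = 2) : ∃ g : G, g * s * g⁻¹ = u := by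
  have key : ∀ s u : G, orderOf s = 2 → orderOf u = 2 → ¬ Same H s u → ∃ g : G, g * s * g⁻¹ = u := by
    intro s u hs hu hns
    obtain ⟨b, hb⟩ := conj_of_odd (ord2 hs) (ord2 hu) (by rw [hh.claim1 h hs hu hns]; exact h.qodd)
    exact ⟨b⁻¹, by rw [inv_inv]; exact hb⟩
  by_cases h1 : Same H s u
  · obtain ⟨v, hv, hsv⟩ := hh.exists_nsame h hs
    have huv : ¬ Same H v u := by
      intro h2
      obtain ⟨g, h3, h4⟩ := h1
      exact hsv ⟨g, h3, hh.same_mem h hu h2.symm h4⟩
    obtain ⟨a, ha⟩ := key s v hs hv hsv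
    obtain ⟨b, hb⟩ := key v u hv hu huv
    refine ⟨b * a, ?_⟩
    rw [cm, ha, hb]
  · exact key s u hs hu h1

theorem HH.exists_inv [Finite G] [IsSimpleGroup G] (h : Sp G p q) (hh : HH S H) {t0 : G}
    (ht0 : orderOf t0 = 2) {y : G} (hy : orderOf y = q) : ∃ s : G, orderOf s = 2 ∧ s * y * s⁻¹ = y⁻¹ := by
  obtain ⟨v, hv, hsv⟩ := hh.exists_nsame h ht0
  have h1 := hh.claim1 h ht0 hv hsv
  obtain ⟨α, hα⟩ := h.tr (t0 * v) y (by rw [h1, hy])
  refine ⟨α t0, by rw [MulEquiv.orderOf_eq, ht0], ?_⟩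
  have hsi : t0⁻¹ = t0 := inv_eq_of_mul_eq_one_right (ord2 ht0)
  have hui : v⁻¹ = v := inv_eq_of_mul_eq_one_right (ord2 hv)
  rw [← hα, ← map_mul, ← map_inv, ← map_inv, ← map_mul]
  congr 1
  rw [mul_inv_rev, hsi, hui, ← mul_assoc, ord2 ht0, one_mul]

namespace Sp

variable (h : Sp G p q)
include h

theorem inv_cent [Finite G] {y s : G} (hy : orderOf y = q) (hs : orderOf s = 2)
    (hsy : s * y * s⁻¹ = y⁻¹) : ∀ c ∈ centralizer ({y} : Set G), s * c * s⁻¹ = c⁻¹ := by
  apply inv_of_fpf (ord2 hs)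
  · intro x hx
    have h1 := mem_centralizer_iff.mp hx y rfl
    rw [mem_centralizer_iff]
    rintro z rfl
    have h2 : z = s * z⁻¹ * s⁻¹ := by rw [ci, hsy, inv_inv]
    have h3 : z⁻¹ * x = x * z⁻¹ := by
      calc z⁻¹ * x = z⁻¹ * (x * z) * z⁻¹ := by group
        _ = z⁻¹ * (z * x) * z⁻¹ := by rw [h1]
        _ = x * z⁻¹ := by group
    calc z * (s * x * s⁻¹) = (s * z⁻¹ * s⁻¹) * (s * x * s⁻¹) := by rw [← h2]
      _ = s * (z⁻¹ * x) * s⁻¹ := by group
      _ = s * (x * z⁻¹) * s⁻¹ := by rw [h3]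
      _ = (s * x * s⁻¹) * (s * z⁻¹ * s⁻¹) := by group
      _ = s * x * s⁻¹ * z := by rw [← h2]
  · intro x hx hfix
    by_contra hx1
    exact h.no2q hs (h.q_ord (h.cent_q hy) hx hx1) (mul_inv_eq_iff_eq_mul.mp hfix)

theorem cent_comm [Finite G] {y s : G} (hy : orderOf y = q) (hs : orderOf s = 2)
    (hsy : s * y * s⁻¹ = y⁻¹) : ∀ a ∈ centralizer ({y} : Set G), ∀ b ∈ centralizer ({y} : Set G),
      a * b = b * a := by
  have key := h.inv_cent hy hs hsy
  intro a ha b hb
  have h1 := key (a * b) (mul_mem ha hb)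
  have h2 : s * (a * b) * s⁻¹ = (s * a * s⁻¹) * (s * b * s⁻¹) := by group
  rw [h2, key a ha, key b hb, ← mul_inv_rev] at h1
  exact (inv_injective h1).symm

end Sp

theorem HH.cent_eq [Finite G] [IsSimpleGroup G] (h : Sp G p q) (hh : HH S H) {t0 : G}
    (ht0 : orderOf t0 = 2) {y z : G} (hy : orderOf y = q) (hz : orderOf z = q)
    (hc : z * y = y * z) : centralizer ({z} : Set G) = centralizer ({y} : Set G) := by
  have key : ∀ y z : G, orderOf y = q → orderOf z = q → z * y = y * z →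
      centralizer ({y} : Set G) ≤ centralizer ({z} : Set G) := by
    intro y z hy hz hc x hx
    obtain ⟨s, hs, hsy⟩ := hh.exists_inv h ht0 hy
    have h1 := h.cent_comm hy hs hsy
    rw [mem_centralizer_iff]
    rintro w rfl
    exact h1 w (by rw [mem_centralizer_iff]; rintro v rfl; exact hc.symm) x hx
  exact le_antisymm (key z y hz hy hc.symm) (key y z hy hz hc)

theorem HH.sylow_eq [Finite G] [IsSimpleGroup G] (h : Sp G p q) (hh : HH S H) {t0 : G}
    (ht0 : orderOf t0 = 2) (R : Sylow q G) {y : G} (hy : y ∈ R) (hy1 : y ≠ 1) :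
    (R : Subgroup G) = centralizer ({y} : Set G) := by
  haveI : Fact q.Prime := ⟨h.hq⟩
  have hyo : orderOf y = q := h.q_ord R.isPGroup' hy hy1
  have hne : (R : Subgroup G) ≠ ⊥ := by
    intro h1
    have : y ∈ (R : Subgroup G) := hy
    rw [h1, mem_bot] at this
    exact hy1 this
  haveI : Nontrivial R := (Subgroup.nontrivial_iff_ne_bot _).mpr hne
  have hnt : Nontrivial (center R) := R.isPGroup'.center_nontrivial
  obtain ⟨z, hz⟩ := exists_ne (1 : center R)
  have hz1 : ((z : R) : G) ≠ 1 := by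
    intro h1
    apply hz
    ext
    exact h1
  have hzo : orderOf ((z : R) : G) = q := h.q_ord R.isPGroup' (z : R).2 hz1
  have hzc : ∀ x ∈ R, x * ((z : R) : G) = ((z : R) : G) * x := by
    intro x hx
    have := mem_center_iff.mp z.2 ⟨x, hx⟩
    exact congrArg Subtype.val this
  have h1 : centralizer ({((z : R) : G)} : Set G) = centralizer ({y} : Set G) :=
    hh.cent_eq h ht0 hyo hzo (hzc y hy).symm
  have h2 : (R : Subgroup G) ≤ centralizer ({y} : Set G) := by
    rw [← h1]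
    intro x hx
    rw [mem_centralizer_iff]
    rintro w rfl
    exact (hzc x hx).symm
  exact (R.is_maximal' (h.cent_q hyo) h2).symm

/-- the index of `H` is prime to `p` -/
theorem HH.index_p [Finite G] (h : Sp G p q) (hh : HH S H) {t : G} (ht : t ∈ S) (ht1 : t ≠ 1) :
    ¬ p ∣ H.index := by
  haveI : Fact (Nat.Prime 2) := ⟨Nat.prime_two⟩
  haveI : Fact p.Prime := ⟨h.hp⟩
  have hto := h.ord_two S ht ht1
  have htH : t ∈ H := hh.le ht
  have hti : t⁻¹ = t := inv_eq_of_mul_eq_one_right (ord2 hto)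
  obtain ⟨x, hx, htx⟩ := h.exists_p_of_two hto
  have htC : t ∈ centralizer ({x} : Set G) := by
    rw [mem_centralizer_iff]; rintro z rfl; exact htx.symm
  have h1 : IsPGroup 2 (zpowers (⟨t, htC⟩ : centralizer ({x} : Set G))) := by
    rintro ⟨y, k, rfl⟩
    refine ⟨1, ?_⟩
    ext
    simp only [SubmonoidClass.coe_pow, OneMemClass.coe_one, pow_one, SubgroupClass.coe_zpow]
    rw [← zpow_natCast, ← zpow_mul, mul_comm, zpow_mul]
    have : t ^ ((2 : ℕ) : ℤ) = 1 := by rw [zpow_natCast, pow_two, ord2 hto]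
    rw [this, one_zpow]
  obtain ⟨Q, hQ⟩ := h1.exists_le_sylow
  set T : Subgroup G := (Q : Subgroup (centralizer ({x} : Set G))).map (centralizer ({x} : Set G)).subtype with hT
  have hTC : T ≤ centralizer ({x} : Set G) := map_subtype_le _
  have htT : t ∈ T := ⟨⟨t, htC⟩, hQ (mem_zpowers _), rfl⟩
  have hTp : IsPGroup 2 T := Q.isPGroup'.map _
  have hTc := h.two_comm hTp
  have hTs : ¬ 2 ∣ T.relIndex (centralizer ({x} : Set G)) := by
    rw [relIndex]
    have : T.subgroupOf (centralizer ({x} : Set G)) = Q := by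
      rw [hT]
      exact comap_map_eq_self_of_injective (subtype_injective _) _
    rw [this]
    exact Q.not_dvd_index
  obtain ⟨O, hO⟩ := L1 (h.solv_p hx) hTC hTp hTc hTs
  have hOp : IsPGroup p O := h.isPGroup_of_odd (Or.inr hx) hO.le hO.odd
  have hTH : T ≤ H := by
    intro z hz
    apply hh.centI h htH hto
    rw [mem_centralizer_iff]
    rintro w rfl
    exact hTc w htT z hz
  have hOH : O ≤ H := by
    intro o ho
    apply hh.se h htH hto
    have h2 : t * (o * t * o⁻¹) ∈ O := by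
      have h3 : t * o * t⁻¹ ∈ O := H1.Coprime.conj_mem_of_le_normalizer (hTC.trans hO.norm) htT ho
      have h4 := mul_mem h3 (inv_mem ho)
      rw [hti] at h4
      have h5 : t * (o * t * o⁻¹) = t * o * t * o⁻¹ := by group
      rw [h5]; exact h4
    have h3 : Same H t (o * t * o⁻¹) := by
      by_contra h4
      have h5 := hh.claim1 h hto (by rw [ordc]; exact hto) h4
      have h6 : t * (o * t * o⁻¹) ≠ 1 := by
        intro h7
        rw [h7, orderOf_one] at h5
        exact h.hq.one_lt.ne h5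
      have h7 := h.p_ord hOp h2 h6
      rw [h5] at h7
      exact h.pq h7.symm
    have h4 := hh.same_mem h (g := 1) hto h3 (by rw [one_mul, inv_one, mul_one]; exact htH)
    rw [one_mul, inv_one, mul_one] at h4
    exact h4
  have hCH : centralizer ({x} : Set G) ≤ H := by
    intro g hg
    obtain ⟨o, ho, n, hn, hnT, rfl⟩ := hO.fac g hg
    refine mul_mem (hOH ho) ?_
    apply hh.se h htH hto
    exact hTH ((mem_normalizer_iff.mp hnT t).mp htT)
  have h2 : IsPGroup p (zpowers x) := by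
    rintro ⟨y, k, rfl⟩
    refine ⟨1, ?_⟩
    ext
    simp only [SubmonoidClass.coe_pow, OneMemClass.coe_one, pow_one]
    rw [← zpow_natCast, ← zpow_mul, mul_comm, zpow_mul]
    have : x ^ ((p : ℕ) : ℤ) = 1 := by rw [zpow_natCast, ← hx, pow_orderOf_eq_one]
    rw [this, one_zpow]
  obtain ⟨P, hP⟩ := h2.exists_le_sylow
  have h3 := h.sylow_le_cent P (hP (mem_zpowers x))
  have h4 : H.index ∣ (P : Subgroup G).index := Subgroup.index_dvd_of_le (h3.trans hCH)
  intro h5
  exact P.not_dvd_index (h5.trans h4)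

end H73.Orb
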