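import Mathlib
import Cfsg.Agent.Lib.H73.Orb7

/-!
Tools for S3406: the final count.
-/

set_option autoImplicit false

open Subgroup Cfsg
open scoped Pointwise

namespace H73.Orb

variable {G : Type*} [Group G] {p q : ℕ}
variable {S : Sylow 2 G} {H : Subgroup G}

theorem orbit_count [Fintype G] [DecidableEq G] (K : Subgroup G) (t : G) (A : Finset G)
    (hA : ∀ u, u ∈ A ↔ ∃ k ∈ K, k * t * k⁻¹ = u) :
    A.card * Nat.card (K ⊓ centralizer ({t} : Set G) : Subgroup G) = Nat.card K := by
  classical
  set s : Finset G := Finset.univ.filter (fun g => g ∈ K) with hs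
  have hsc : s.card = Nat.card K := by
    rw [Nat.card_eq_fintype_card, Fintype.card_subtype]
  have h1 := Finset.card_eq_sum_card_fiberwise (f := fun k : G => k * t * k⁻¹) (s := s) (t := A) (by
    intro k hk
    rw [hs, Finset.coe_filter] at hk
    rw [Finset.mem_coe, hA]
    exact ⟨k, hk.2, rfl⟩)
  have h2 : ∀ b ∈ A, (s.filter (fun k => k * t * k⁻¹ = b)).card =
      Nat.card (K ⊓ centralizer ({t} : Set G) : Subgroup G) := by
    intro b hb
    obtain ⟨k0, hk0, hb0⟩ := (hA b).mp hb
    rw [Nat.card_eq_fintype_card, Fintype.card_subtype]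
    symm
    apply Finset.card_bij (fun c _ => k0 * c)
    · intro c hc
      simp only [Finset.mem_filter, Finset.mem_univ, true_and] at hc ⊢
      have hc1 : c ∈ K := hc.1
      have hc2 := mem_centralizer_iff.mp hc.2 t rfl
      refine ⟨?_, ?_⟩
      · rw [hs, Finset.mem_filter]
        exact ⟨Finset.mem_univ _, mul_mem hk0 hc1⟩
      · calc k0 * c * t * (k0 * c)⁻¹ = k0 * (c * t) * c⁻¹ * k0⁻¹ := by group
          _ = k0 * (t * c) * c⁻¹ * k0⁻¹ := by rw [hc2]
          _ = k0 * t * k0⁻¹ := by group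
          _ = b := hb0
    · intro a _ b _ hab
      exact mul_left_cancel hab
    · intro k hk
      rw [Finset.mem_filter, hs, Finset.mem_filter] at hk
      refine ⟨k0⁻¹ * k, ?_, by group⟩
      rw [Finset.mem_filter]
      have h4 : k0⁻¹ * k ∈ K := mul_mem (inv_mem hk0) hk.1.2
      refine ⟨Finset.mem_univ _, h4, ?_⟩
      change k0⁻¹ * k ∈ centralizer ({t} : Set G)
      rw [mem_centralizer_iff]
      rintro z rfl
      have h3 : k * z * k⁻¹ = k0 * z * k0⁻¹ := by rw [hk.2, hb0]
      calc z * (k0⁻¹ * k) = k0⁻¹ * (k0 * z * k0⁻¹) * k := by group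
        _ = k0⁻¹ * (k * z * k⁻¹) * k := by rw [h3]
        _ = k0⁻¹ * k * z := by group
  rw [Finset.sum_const_nat h2] at h1
  rw [← hsc, h1]

theorem card_mul_relIndex' [Finite G] {H K : Subgroup G} (hHK : H ≤ K) :
    Nat.card H * H.relIndex K = Nat.card K := by
  rw [relIndex, ← Nat.card_congr (Subgroup.subgroupOfEquivOfLe hHK).toEquiv]
  exact Subgroup.card_mul_index _

/-- the arithmetic -/
theorem arith {i m d c w nq g' gH : ℕ} {q b : ℕ} (hq : q.Prime)
    (h1 : i = d * m) (h2 : i * (i - m) = nq * (w - 1) * w) (hG : w * g' = d * gH) (hH : m * c = gH)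
    (hw : w = q ^ b) (hg' : ¬ q ∣ g') (hc : ¬ q ∣ c) (hd : ∀ l : ℕ, l.Prime → l ∣ d → l = q)
    (hnq : ¬ q ∣ nq) (hw1 : q ∣ w) (hd1 : 1 < d) (hm : 0 < m) : nq = m * m := by
  have hd0 : d ≠ 0 := by omega
  have hdq : ∃ e, d = q ^ e := ⟨_, Nat.eq_prime_pow_of_unique_prime_dvd hd0 (fun {l} hl hld => hd l hl hld)⟩
  obtain ⟨e, he⟩ := hdq
  have hw0 : 0 < w := by rw [hw]; exact Nat.pow_pos hq.pos
  have hcop : Nat.Coprime d g' := by
    rw [he]; exact Nat.Coprime.pow_left e ((Nat.Prime.coprime_iff_not_dvd hq).mpr hg')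
  have hdw : d ∣ w := by
    have h3 : d ∣ w * g' := by rw [hG]; exact Dvd.intro _ rfl
    exact hcop.dvd_of_dvd_mul_right h3
  obtain ⟨f, hf⟩ := hdw
  have hf0 : 0 < f := by
    rcases Nat.eq_zero_or_pos f with h3 | h3
    · rw [h3, mul_zero] at hf; omega
    · exact h3
  have hfq : ∃ e', f = q ^ e' := by
    have h3 : f ∣ q ^ b := by rw [← hw, hf]; exact Dvd.intro_left _ rfl
    obtain ⟨e', -, he'⟩ := (Nat.dvd_prime_pow hq).mp h3
    exact ⟨e', he'⟩
  obtain ⟨e', he'⟩ := hfq
  have h3 : f * g' = m * c := by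
    have h4 : d * (f * g') = d * (m * c) := by
      rw [hH, ← hG, hf]; ring
    exact Nat.eq_of_mul_eq_mul_left (by omega) h4
  have hfc : Nat.Coprime f c := by
    rw [he']; exact Nat.Coprime.pow_left e' ((Nat.Prime.coprime_iff_not_dvd hq).mpr hc)
  have hfm : f ∣ m := hfc.dvd_of_dvd_mul_right (by rw [← h3]; exact Dvd.intro _ rfl)
  obtain ⟨m', hm'⟩ := hfm
  have h4 : i - m = m * (d - 1) := by
    rw [h1]
    obtain ⟨k, rfl⟩ : ∃ k, d = k + 1 := ⟨d - 1, by omega⟩
    simp only [Nat.add_sub_cancel]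
    have : (k + 1) * m = m * k + m := by ring
    omega
  rw [h4, h1] at h2
  -- d m m (d-1) = nq (w-1) w
  have h5 : f * (m' * m' * (d - 1)) = nq * (w - 1) := by
    have h6 : (d * f) * (f * (m' * m' * (d - 1))) = (d * f) * (nq * (w - 1)) := by
      calc (d * f) * (f * (m' * m' * (d - 1))) = d * (f * m') * ((f * m') * (d - 1)) := by ring
        _ = d * m * (m * (d - 1)) := by rw [← hm']
        _ = nq * (w - 1) * w := h2
        _ = (d * f) * (nq * (w - 1)) := by rw [← hf]; ring
    exact Nat.eq_of_mul_eq_mul_left (Nat.mul_pos (by omega) hf0) h6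
  have hqw : ¬ q ∣ w - 1 := by
    intro h6
    have h7 : q ∣ w - (w - 1) := Nat.dvd_sub hw1 h6
    have h8 : w - (w - 1) = 1 := by omega
    rw [h8] at h7
    exact hq.one_lt.ne' (Nat.dvd_one.mp h7)
  have hqf : ¬ q ∣ f := by
    intro h6
    have h7 : q ∣ nq * (w - 1) := by rw [← h5]; exact Dvd.dvd.mul_right h6 _
    rcases (Nat.Prime.dvd_mul hq).mp h7 with h8 | h8
    · exact hnq h8
    · exact hqw h8
  have hf1 : f = 1 := by
    rcases Nat.eq_zero_or_pos e' with h6 | h6
    · rw [he', h6, pow_zero]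
    · exfalso
      apply hqf
      rw [he']
      exact dvd_pow_self q h6.ne'
  rw [hf1, one_mul] at h5 hm'
  rw [hf1, mul_one] at hf
  rw [hf, ← hm'] at h5
  have h6 : 0 < d - 1 := by omega
  exact (Nat.eq_of_mul_eq_mul_right h6 h5).symm

theorem HH.false [Finite G] [IsSimpleGroup G] (h : Sp G p q) (hh : HH S H) (hS : 3 ≤ Nat.card S) :
    False := by
  classical
  haveI := Fintype.ofFinite G
  haveI : Fact q.Prime := ⟨h.hq⟩
  haveI : Fact (Nat.Prime 2) := ⟨Nat.prime_two⟩
  haveI : Fintype (Sylow q G) := Fintype.ofFinite _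
  obtain ⟨t, ht, ht1⟩ : ∃ t ∈ S, t ≠ 1 := by
    by_contra h2
    push Not at h2
    have h3 : (S : Subgroup G) = ⊥ := by
      rw [eq_bot_iff]; intro x hx; exact mem_bot.mpr (h2 x hx)
    have h4 : Nat.card (S : Subgroup G) = 1 := by rw [h3]; simp
    change 3 ≤ Nat.card (S : Subgroup G) at hS
    omega
  have hto : orderOf t = 2 := h.ord_two S ht ht1
  have htH : t ∈ H := hh.le ht
  set I : Finset G := Finset.univ.filter (fun g => orderOf g = 2) with hI
  set Qe : Finset G := Finset.univ.filter (fun g => orderOf g = q) with hQe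
  set m := (I.filter (fun g => g ∈ H)).card with hm
  obtain ⟨R0⟩ : Nonempty (Sylow q G) := inferInstance
  set w := Nat.card R0 with hw
  set c := Nat.card (centralizer ({t} : Set G)) with hc
  have hmemI : ∀ g, g ∈ I ↔ orderOf g = 2 := fun g => by simp [hI]
  have hmemQ : ∀ g, g ∈ Qe ↔ orderOf g = q := fun g => by simp [hQe]
  have hIc : I.card * c = Nat.card G := by
    have h1 := orbit_count (⊤ : Subgroup G) t I (by
      intro u
      rw [hmemI]
      constructor
      · intro hu
        obtain ⟨g, hg⟩ := hh.one_class h hto hu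
        exact ⟨g, mem_top _, hg⟩
      · rintro ⟨k, -, rfl⟩
        rw [ordc]; exact hto)
    rw [top_inf_eq, card_top] at h1
    exact h1
  have hmc : m * c = Nat.card H := by
    have h1 := orbit_count H t (I.filter (fun g => g ∈ H)) (by
      intro u
      rw [Finset.mem_filter, hmemI]
      constructor
      · rintro ⟨hu, huH⟩
        obtain ⟨g, hg⟩ := hh.one_class h hto hu
        exact ⟨g, hh.se h htH hto (by rw [hg]; exact huH), hg⟩
      · rintro ⟨k, hk, rfl⟩
        rw [ordc]
        exact ⟨hto, mul_mem (mul_mem hk htH) (inv_mem hk)⟩)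
    rw [inf_eq_right.mpr (hh.centI h htH hto)] at h1
    exact h1
  have hc0 : 0 < c := Nat.card_pos
  have hIm : I.card = H.index * m := by
    have h1 : I.card * c = (H.index * m) * c := by
      rw [hIc, mul_assoc, hmc, Subgroup.index_mul_card]
    exact Nat.eq_of_mul_eq_mul_right hc0 h1
  have hwcard : ∀ R : Sylow q G, Nat.card R = w := by
    intro R
    rw [hw, R.card_eq_multiplicity, R0.card_eq_multiplicity]
  have hcentw : ∀ y : G, orderOf y = q → Nat.card (centralizer ({y} : Set G)) = w := by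
    intro y hy
    obtain ⟨R, hR⟩ := (h.cent_q hy).exists_le_sylow
    have hyR : y ∈ R := hR (by rw [mem_centralizer_iff]; rintro z rfl; rfl)
    have hy1 : y ≠ 1 := by
      rintro rfl
      rw [orderOf_one] at hy
      exact h.hq.one_lt.ne hy
    rw [← hh.sylow_eq h hto R hyR hy1]
    exact hwcard R
  have habove : ∀ s ∈ I, (Qe.bipartiteAbove (fun s y : G => s * y * s⁻¹ = y⁻¹) s).card = I.card - m := by
    intro s hs
    rw [hmemI] at hs
    have hsi : s⁻¹ = s := inv_eq_of_mul_eq_one_right (ord2 hs)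
    have h1 : (I.filter (fun u => Same H s u)).card = m := by
      obtain ⟨g, hg⟩ := hh.cov hs
      apply Finset.card_bij (fun u _ => g * u * g⁻¹)
      · intro u hu
        rw [Finset.mem_filter, hmemI] at hu
        rw [Finset.mem_filter, hmemI, ordc]
        exact ⟨hu.1, hh.same_mem h hs hu.2 hg⟩
      · intro a _ b _ hab
        exact mul_left_cancel (mul_right_cancel hab)
      · intro v hv
        rw [Finset.mem_filter, hmemI] at hv
        refine ⟨g⁻¹ * v * g, ?_, by group⟩
        have h3 : g * (g⁻¹ * v * g) * g⁻¹ = v := by group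
        rw [Finset.mem_filter, hmemI]
        refine ⟨?_, g, hg, by rw [h3]; exact hv.2⟩
        have h4 : g⁻¹ * v * g = g⁻¹ * v * (g⁻¹)⁻¹ := by group
        rw [h4, ordc]; exact hv.1
    have h2 : (I.filter (fun u => ¬ Same H s u)).card =
        (Qe.bipartiteAbove (fun s y : G => s * y * s⁻¹ = y⁻¹) s).card := by
      apply Finset.card_bij (fun u _ => s * u)
      · intro u hu
        rw [Finset.mem_filter, hmemI] at hu
        rw [Finset.mem_bipartiteAbove, hmemQ]
        have hui : u⁻¹ = u := inv_eq_of_mul_eq_one_right (ord2 hu.1)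
        refine ⟨hh.claim1 h hs hu.1 hu.2, ?_⟩
        rw [mul_inv_rev, hsi, hui, ← mul_assoc, ord2 hs, one_mul]
      · intro a _ b _ hab
        exact mul_left_cancel hab
      · intro y hy
        rw [Finset.mem_bipartiteAbove, hmemQ] at hy
        refine ⟨s * y, ?_, by rw [← mul_assoc, ord2 hs, one_mul]⟩
        have hy1 : y ≠ s := by
          intro h3
          rw [h3, hs] at hy
          exact h.q2 hy.1.symm
        have hsy2 : (s * y) * (s * y) = 1 := by
          have h3 := hy.2
          rw [hsi] at h3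
          calc (s * y) * (s * y) = (s * y * s) * y := by group
            _ = 1 := by rw [h3]; group
        have hsy1 : s * y ≠ 1 := by
          intro h3
          apply hy1
          have h4 : y = s⁻¹ := eq_inv_of_mul_eq_one_right h3
          rw [h4, hsi]
        rw [Finset.mem_filter, hmemI]
        refine ⟨of2 hsy2 hsy1, ?_⟩
        rintro ⟨g, hg1, hg2⟩
        have h3 := hh.noq h hS hg1 hg2 (ord2 (by rw [ordc]; exact hs))
          (ord2 (by rw [ordc]; exact of2 hsy2 hsy1))
        apply h3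
        have h4 : g * s * g⁻¹ * (g * (s * y) * g⁻¹) = g * (s * s * y) * g⁻¹ := by group
        rw [h4, ordc, ord2 hs, one_mul]
        exact hy.1
    rw [← h2]
    have h3 := Finset.card_filter_add_card_filter_not (s := I) (fun u => Same H s u)
    omega
  have hbelow : ∀ y ∈ Qe, (I.bipartiteBelow (fun s y : G => s * y * s⁻¹ = y⁻¹) y).card = w := by
    intro y hy
    rw [hmemQ] at hy
    obtain ⟨s0, hs0, hsy0⟩ := hh.exists_inv h hto hy
    have hinv := h.inv_cent hy hs0 hsy0
    have hsi : s0⁻¹ = s0 := inv_eq_of_mul_eq_one_right (ord2 hs0)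
    rw [← hcentw y hy, Nat.card_eq_fintype_card, Fintype.card_subtype]
    symm
    apply Finset.card_bij (fun c _ => s0 * c)
    · intro x hx
      rw [Finset.mem_filter] at hx
      have hx1 := mem_centralizer_iff.mp hx.2 y rfl
      rw [Finset.mem_bipartiteBelow, hmemI]
      have h2 : (s0 * x) * (s0 * x) = 1 := by
        have h3 := hinv x hx.2
        rw [hsi] at h3
        calc (s0 * x) * (s0 * x) = (s0 * x * s0) * x := by group
          _ = 1 := by rw [h3]; group
      have h3 : s0 * x ≠ 1 := by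
        intro h4
        have h5 : x = s0⁻¹ := eq_inv_of_mul_eq_one_right h4
        rw [h5, hsi] at hx1
        exact h.no2q hs0 hy hx1.symm
      refine ⟨of2 h2 h3, ?_⟩
      calc s0 * x * y * (s0 * x)⁻¹ = s0 * (x * y) * x⁻¹ * s0⁻¹ := by group
        _ = s0 * (y * x) * x⁻¹ * s0⁻¹ := by rw [hx1]
        _ = s0 * y * s0⁻¹ := by group
        _ = y⁻¹ := hsy0
    · intro a _ b _ hab
      exact mul_left_cancel hab
    · intro s hs
      rw [Finset.mem_bipartiteBelow, hmemI] at hs
      refine ⟨s0⁻¹ * s, ?_, by group⟩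
      rw [Finset.mem_filter]
      refine ⟨Finset.mem_univ _, ?_⟩
      rw [mem_centralizer_iff]
      rintro z rfl
      have h3 : s * z * s⁻¹ = s0 * z * s0⁻¹ := by rw [hs.2, hsy0]
      calc z * (s0⁻¹ * s) = s0⁻¹ * (s0 * z * s0⁻¹) * s := by group
        _ = s0⁻¹ * (s * z * s⁻¹) * s := by rw [h3]
        _ = s0⁻¹ * s * z := by group
  have hcount1 : I.card * (I.card - m) = Qe.card * w := by
    have h1 := Finset.sum_card_bipartiteAbove_eq_sum_card_bipartiteBelow
      (s := I) (t := Qe) (fun s y : G => s * y * s⁻¹ = y⁻¹)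
    rw [Finset.sum_const_nat habove, Finset.sum_const_nat hbelow] at h1
    exact h1
  have hcount2 : Qe.card = Fintype.card (Sylow q G) * (w - 1) := by
    have h1 := Finset.sum_card_bipartiteAbove_eq_sum_card_bipartiteBelow
      (s := (Finset.univ : Finset (Sylow q G))) (t := Qe) (fun (R : Sylow q G) (y : G) => y ∈ R)
    rw [Finset.sum_const_nat (m := w - 1), Finset.sum_const_nat (m := 1)] at h1
    · rw [Finset.card_univ, mul_one] at h1
      exact h1.symm
    · intro y hy
      rw [hmemQ] at hy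
      have hy1 : y ≠ 1 := by
        rintro rfl
        rw [orderOf_one] at hy
        exact h.hq.one_lt.ne hy
      obtain ⟨R, hR⟩ := (h.cent_q hy).exists_le_sylow
      have hyR : y ∈ R := hR (by rw [mem_centralizer_iff]; rintro z rfl; rfl)
      rw [Finset.card_eq_one]
      refine ⟨R, ?_⟩
      ext R'
      rw [Finset.mem_bipartiteBelow, Finset.mem_singleton]
      constructor
      · rintro ⟨-, hR'⟩
        apply Sylow.ext
        rw [hh.sylow_eq h hto R' hR' hy1, hh.sylow_eq h hto R hyR hy1]
      · rintro rfl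
        exact ⟨Finset.mem_univ _, hyR⟩
    · intro R _
      have h2 : (Qe.bipartiteAbove (fun (R : Sylow q G) (y : G) => y ∈ R) R) =
          (Finset.univ.filter (fun y => y ∈ R)).erase 1 := by
        ext y
        rw [Finset.mem_bipartiteAbove, hmemQ, Finset.mem_erase, Finset.mem_filter]
        constructor
        · rintro ⟨h3, h4⟩
          refine ⟨?_, Finset.mem_univ _, h4⟩
          rintro rfl
          rw [orderOf_one] at h3
          exact h.hq.one_lt.ne h3
        · rintro ⟨h3, -, h4⟩
          exact ⟨h.q_ord R.isPGroup' h4 h3, h4⟩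
      rw [h2, Finset.card_erase_of_mem (Finset.mem_filter.mpr ⟨Finset.mem_univ _, one_mem _⟩)]
      have h3 : (Finset.univ.filter (fun y => y ∈ R)).card = w := by
        rw [← hwcard R, Nat.card_eq_fintype_card, Fintype.card_subtype]
        rfl
      rw [h3]
  -- arithmetic data
  have hpr : ∀ l : ℕ, l.Prime → l ∣ H.index → l = q := by
    intro l hl hld
    have h1 : l ∣ Nat.card G := hld.trans (Subgroup.index_dvd_card H)
    haveI : Fact l.Prime := ⟨hl⟩
    obtain ⟨x, hx⟩ := exists_prime_orderOf_dvd_card' l h1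
    rcases h.prime_dvd hl hx with h2 | h2 | h2
    · exfalso
      rw [h2] at hld
      have h3 : H.index ∣ (S : Subgroup G).index := Subgroup.index_dvd_of_le hh.le
      exact S.not_dvd_index (hld.trans h3)
    · exfalso
      rw [h2] at hld
      exact hh.index_p h ht ht1 hld
    · exact h2
  have hqc : ¬ q ∣ c := by
    intro h1
    rcases h.cent_two hto le_rfl h.hq h1 with h2 | h2
    · exact h.q2 h2
    · exact h.pq h2.symm
  have hnq : ¬ q ∣ Fintype.card (Sylow q G) := by
    have h1 := card_sylow_modEq_one q G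
    rw [Nat.card_eq_fintype_card] at h1
    intro h2
    have h3 : Fintype.card (Sylow q G) ≡ 0 [MOD q] := (Nat.modEq_zero_iff_dvd).mpr h2
    have h4 := h1.symm.trans h3
    have h5 : q ∣ 1 := (Nat.modEq_zero_iff_dvd).mp h4
    exact h.hq.one_lt.ne' (Nat.dvd_one.mp h5)
  have hqG : q ∣ Nat.card G := by
    obtain ⟨y, hy⟩ := h.eq
    rw [← hy]; exact orderOf_dvd_natCard y
  have hwq : q ∣ w := by
    rw [hw]
    exact R0.dvd_card_of_dvd_card hqG
  have hmpos : 0 < m := by
    rw [hm, Finset.card_pos]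
    exact ⟨t, by rw [Finset.mem_filter, hmemI]; exact ⟨hto, htH⟩⟩
  have hd1 : 1 < H.index := by
    have h1 : H.index ≠ 1 := fun h2 => hh.ne (Subgroup.index_eq_one.mp h2)
    have h2 : H.index ≠ 0 := Subgroup.index_ne_zero_of_finite
    omega
  have hfin := arith (i := I.card) (m := m) (d := H.index) (c := c) (w := w)
    (nq := Fintype.card (Sylow q G)) (g' := (R0 : Subgroup G).index) (gH := Nat.card H) h.hq hIm
    (by rw [hcount1, hcount2])
    (by rw [hw]; rw [Subgroup.index_mul_card]; exact Subgroup.card_mul_index _)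
    hmc R0.card_eq_multiplicity R0.not_dvd_index hqc hpr hnq hwq hd1 hmpos
  -- m is odd
  have hmodd : ¬ 2 ∣ m := by
    intro h1
    have hSC : (S : Subgroup G) ≤ centralizer ({t} : Set G) := h.sylow_le S ht
    have h2 := card_mul_relIndex' hSC
    have h3 := card_mul_relIndex' hh.le
    have h4 : Nat.card (S : Subgroup G) * (m * (S : Subgroup G).relIndex (centralizer ({t} : Set G))) =
        Nat.card (S : Subgroup G) * (S : Subgroup G).relIndex H := by
      rw [h3, ← hmc, hc, ← h2]; ring
    have h5 := Nat.eq_of_mul_eq_mul_left Nat.card_pos h4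
    apply sylow_relIndex S hh.le
    rw [← h5]
    exact Dvd.dvd.mul_right h1 _
  have hnodd : ¬ 2 ∣ Nat.card (Sylow q G) := by
    rw [Nat.card_eq_fintype_card, hfin]
    intro h1
    rcases (Nat.Prime.dvd_mul Nat.prime_two).mp h1 with h2 | h2 <;> exact hmodd h2
  obtain ⟨R, hR⟩ := IsPGroup.nonempty_fixed_point_of_prime_not_dvd_card S.isPGroup' (Sylow q G) hnodd
  have hSR : (S : Subgroup G) ≤ normalizer ((R : Subgroup G) : Set G) := by
    intro s hs
    have h1 := hR ⟨s, hs⟩
    exact Sylow.smul_eq_iff_mem_normalizer.mp h1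
  have h1 := h.klein_q S.isPGroup' hS R.isPGroup' hSR
  have h2 := R.dvd_card_of_dvd_card hqG
  rw [h1, card_bot] at h2
  exact h.hq.one_lt.ne' (Nat.dvd_one.mp h2)

end H73.Orb
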