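import Mathlib
import Cfsg.Agent.Lib.H73.Orb6

/-!
Tools for S3406: the case of Sylow 2-subgroups of order 4, preliminaries.
-/

set_option autoImplicit false

open Subgroup Cfsg
open scoped Pointwise

namespace H73.Orb

variable {G : Type*} [Group G] {p q : ℕ}
variable {S : Sylow 2 G} {H : Subgroup G}

namespace Sp

variable (h : Sp G p q)
include h

theorem two_dvd [Finite G] : 2 ∣ Nat.card G := by
  obtain ⟨g, hg⟩ := h.e2p
  have h1 : orderOf g ∣ Nat.card G := orderOf_dvd_natCard g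
  rw [hg] at h1
  exact (Dvd.intro p rfl).trans h1

/-- Burnside transfer -/
theorem not_norm_le_cent [Finite G] [IsSimpleGroup G] (S : Sylow 2 G) :
    ¬ normalizer (S : Set G) ≤ centralizer (S : Set G) := by
  haveI : Fact (Nat.Prime 2) := ⟨Nat.prime_two⟩
  intro hle
  have h1 := MonoidHom.ker_transferSylow_isComplement' S hle
  rcases (inferInstance : (MonoidHom.transferSylow S hle).ker.Normal).eq_bot_or_eq_top with h2 | h2
  · rw [h2] at h1
    have h3 : (S : Subgroup G) = ⊤ := isComplement'_bot_left.mp h1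
    obtain ⟨y, hy⟩ := h.eq
    have hyS : y ∈ (S : Subgroup G) := by rw [h3]; trivial
    have h4 := h.two_el' S.isPGroup' hyS
    have h5 : orderOf y ∣ 2 := by
      rw [orderOf_dvd_iff_pow_eq_one, pow_two, h4]
    rw [hy] at h5
    exact h.q2 ((Nat.prime_dvd_prime_iff_eq h.hq Nat.prime_two).mp h5)
  · rw [h2] at h1
    have h3 : (S : Subgroup G) = ⊥ := isComplement'_top_left.mp h1
    have h4 := S.dvd_card_of_dvd_card h.two_dvd
    rw [h3, card_bot] at h4
    omega

theorem card_S [Finite G] [IsSimpleGroup G] (S : Sylow 2 G) : 4 ≤ Nat.card S := by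
  haveI : Fact (Nat.Prime 2) := ⟨Nat.prime_two⟩
  by_contra hlt
  have h2 := S.dvd_card_of_dvd_card h.two_dvd
  have h3 : Nat.card S ≠ 0 := Nat.card_pos.ne'
  change 2 ∣ Nat.card S at h2
  have h4 : Nat.card S = 2 := by omega
  apply h.not_norm_le_cent S
  intro n hn
  rw [mem_centralizer_iff]
  intro x hx
  by_cases hx1 : x = 1
  · rw [hx1]; simp
  have h5 : n * x * n⁻¹ ∈ S := (mem_normalizer_iff.mp hn x).mp hx
  have h6 : n * x * n⁻¹ = x := by
    by_contra h7
    have h8 : ({1, x, n * x * n⁻¹} : Set G) ⊆ (S : Set G) := by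
      rintro y (rfl | rfl | rfl)
      · exact one_mem _
      · exact hx
      · exact h5
    have h9 := Set.ncard_le_ncard h8 (Set.toFinite _)
    have h10 : ({1, x, n * x * n⁻¹} : Set G).ncard = 3 := by
      rw [Set.ncard_eq_three]
      refine ⟨1, x, n * x * n⁻¹, fun h => hx1 h.symm, ?_, fun h => h7 h.symm, rfl⟩
      intro h11
      exact hx1 (conj_eq_one_iff.mp h11.symm)
    rw [h10] at h9
    have h11 : Nat.card S = (S : Set G).ncard := Nat.card_coe_set_eq _
    omega
  rw [mul_inv_eq_iff_eq_mul] at h6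
  exact h6.symm

theorem eight_of [Finite G] [IsSimpleGroup G] (S : Sylow 2 G) : Nat.card S = 4 ∨ 8 ≤ Nat.card S := by
  haveI : Fact (Nat.Prime 2) := ⟨Nat.prime_two⟩
  have h1 := h.card_S S
  obtain ⟨n, hn⟩ := IsPGroup.iff_card.mp S.isPGroup'
  change Nat.card S = 2 ^ n at hn
  rcases Nat.lt_or_ge n 3 with h2 | h2
  · left
    have : n = 2 := by
      interval_cases n <;> omega
    rw [hn, this]; norm_num
  · right
    rw [hn]
    calc 8 = 2 ^ 3 := by norm_num
      _ ≤ 2 ^ n := Nat.pow_le_pow_right (by norm_num) h2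

theorem four_cases [Finite G] (S : Sylow 2 G) (hS : Nat.card S = 4) {t a : G} (ht : t ∈ S) (ha : a ∈ S)
    (ht1 : t ≠ 1) (ha1 : a ≠ 1) (hta : t ≠ a) : ∀ s ∈ S, s = 1 ∨ s = t ∨ s = a ∨ s = t * a := by
  have h1 : ({1, t, a, t * a} : Set G) ⊆ (S : Set G) := by
    rintro y (rfl | rfl | rfl | rfl)
    · exact one_mem _
    · exact ht
    · exact ha
    · exact mul_mem ht ha
  have h2 : ({1, t, a, t * a} : Set G).ncard = 4 := by
    have e1 : t * a ≠ t := fun h => ha1 (mul_eq_left.mp h)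
    have e2 : t * a ≠ a := fun h => ht1 (mul_eq_right.mp h)
    have e3 : t * a ≠ 1 := by
      intro h3
      apply hta
      have h4 : t = a⁻¹ := eq_inv_of_mul_eq_one_left h3
      rw [h4]; exact inv_eq_of_mul_eq_one_left (h.two_el' S.isPGroup' ha)
    rw [Set.ncard_insert_of_notMem, Set.ncard_insert_of_notMem, Set.ncard_pair e2.symm]
    · simp only [Set.mem_insert_iff, Set.mem_singleton_iff, not_or]
      exact ⟨hta, e1.symm⟩
    · simp only [Set.mem_insert_iff, Set.mem_singleton_iff, not_or]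
      exact ⟨ht1.symm, ha1.symm, e3.symm⟩
  have h3 : ({1, t, a, t * a} : Set G) = (S : Set G) := by
    apply Set.eq_of_subset_of_ncard_le h1 _ (Set.toFinite _)
    rw [h2, ← hS]
    exact (Nat.card_coe_set_eq _).ge
  intro s hs
  have h4 : s ∈ ({1, t, a, t * a} : Set G) := by rw [h3]; exact hs
  simpa using h4

theorem exists_rho [Finite G] [IsSimpleGroup G] (S : Sylow 2 G) (hS : Nat.card S = 4) :
    ∃ r t : G, r ∈ normalizer (S : Set G) ∧ orderOf r = 3 ∧ t ∈ S ∧ t ≠ 1 ∧ r * t * r⁻¹ ≠ t ∧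
      r * (r * t * r⁻¹) * r⁻¹ = t * (r * t * r⁻¹) ∧ r * (t * (r * t * r⁻¹)) * r⁻¹ = t := by
  haveI : Fact (Nat.Prime 2) := ⟨Nat.prime_two⟩
  have h1 := h.not_norm_le_cent S
  rw [SetLike.not_le_iff_exists] at h1
  obtain ⟨r0, hr0, hr0c⟩ := h1
  -- pass to an element of odd prime order
  obtain ⟨r, l, hr, hrc, hl, hl2, hrl⟩ : ∃ (r : G) (l : ℕ), r ∈ normalizer (S : Set G) ∧
      r ∉ centralizer (S : Set G) ∧ l.Prime ∧ l ≠ 2 ∧ orderOf r = l := by
    rcases h.spec r0 with h2 | h2 | h2 | h2 | h2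
    · exfalso
      rw [orderOf_eq_one_iff] at h2
      apply hr0c
      rw [h2]; exact one_mem _
    · exfalso
      have h3 := mem_sylow_of_norm S hr0 (ord2 h2)
      apply hr0c
      rw [mem_centralizer_iff]
      intro x hx
      exact h.two_comm S.isPGroup' x hx r0 h3
    · exact ⟨r0, p, hr0, hr0c, h.hp, h.p2, h2⟩
    · exact ⟨r0, q, hr0, hr0c, h.hq, h.q2, h2⟩
    · have h3 : orderOf (r0 ^ p) = 2 := by
        rw [orderOf_pow_of_dvd h.hp.ne_zero (by rw [h2]; exact Dvd.intro_left 2 rfl), h2]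
        exact Nat.mul_div_cancel _ h.hp.pos
      have h4 : r0 ^ p ∈ S := mem_sylow_of_norm S (pow_mem hr0 p) (ord2 h3)
      obtain ⟨m, hm⟩ := h.podd
      have h5 : orderOf (r0 ^ 2) = p := by
        rw [orderOf_pow_of_dvd (by norm_num) (by rw [h2]; exact Dvd.intro p rfl), h2]
        exact Nat.mul_div_cancel_left _ (by norm_num)
      refine ⟨r0 ^ 2, p, pow_mem hr0 2, ?_, h.hp, h.p2, h5⟩
      intro h6
      apply hr0c
      have h7 : (r0 ^ 2) ^ m ∈ centralizer (S : Set G) := pow_mem h6 m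
      have h8 : r0 ^ p ∈ centralizer (S : Set G) := by
        rw [mem_centralizer_iff]
        intro x hx
        exact h.two_comm S.isPGroup' x hx _ h4
      have h9 : r0 = r0 ^ p * ((r0 ^ 2) ^ m)⁻¹ := by
        rw [hm, ← pow_mul, pow_succ']
        group
      rw [h9]
      exact mul_mem h8 (inv_mem h7)
  have hlodd : Odd l := hl.odd_of_ne_two hl2
  obtain ⟨t, ht, hrt⟩ : ∃ t ∈ S, r * t * r⁻¹ ≠ t := by
    by_contra hcon
    push Not at hcon
    apply hrc
    rw [mem_centralizer_iff]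
    intro x hx
    have := hcon x hx
    rw [mul_inv_eq_iff_eq_mul] at this
    exact this.symm
  have ht1 : t ≠ 1 := by
    rintro rfl
    apply hrt; simp
  set t' := r * t * r⁻¹ with ht'
  have ht'S : t' ∈ S := (mem_normalizer_iff.mp hr t).mp ht
  have ht'1 : t' ≠ 1 := fun h2 => ht1 (conj_eq_one_iff.mp h2)
  set t2 := r * t' * r⁻¹ with ht2
  have ht2S : t2 ∈ S := (mem_normalizer_iff.mp hr t').mp ht'S
  have ht21 : t2 ≠ 1 := fun h2 => ht'1 (conj_eq_one_iff.mp h2)
  have hne : t2 ≠ t' := by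
    intro h2
    apply hrt
    have h3 : r * t' * r⁻¹ = r * t * r⁻¹ := h2
    exact mul_left_cancel (mul_right_cancel h3)
  have hcase := h.four_cases S hS ht ht'S ht1 ht'1 (fun h2 => hrt h2.symm)
  -- powers of r
  have hrl1 : r ^ l = 1 := by rw [← hrl, pow_orderOf_eq_one]
  have hne2 : t2 ≠ t := by
    intro h2
    apply hrt
    have h3 : Commute (r ^ 2) t := by
      have h4 : r ^ 2 * t * (r ^ 2)⁻¹ = t := by
        rw [pow_two, cm, ← ht', ← ht2, h2]
      exact mul_inv_eq_iff_eq_mul.mp h4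
    have h4 : r ^ 1 * t = t * r ^ 1 := by
      rw [pow_one]
      exact comm_of_sq hlodd hrl1 h3
    rw [pow_one] at h4
    rw [ht', h4, mul_inv_cancel_right]
  have ht2e : t2 = t * t' := by
    rcases hcase t2 ht2S with h2 | h2 | h2 | h2
    · exact absurd h2 ht21
    · exact absurd h2 hne2
    · exact absurd h2 hne
    · exact h2
  have ht3 : r * t2 * r⁻¹ = t := by
    rw [ht2e]
    have h2 : r * (t * t') * r⁻¹ = (r * t * r⁻¹) * (r * t' * r⁻¹) := by group
    rw [h2, ← ht', ← ht2, ht2e]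
    calc t' * (t * t') = t' * (t' * t) := by rw [h.two_comm S.isPGroup' t ht t' ht'S]
      _ = t := by rw [← mul_assoc, h.two_el' S.isPGroup' ht'S, one_mul]
  have hr3 : Commute (r ^ 3) t := by
    have h4 : r ^ 3 * t * (r ^ 3)⁻¹ = t := by
      have : r ^ 3 = r * (r * r) := by rw [pow_succ, pow_two, mul_assoc]
      rw [this, cm, cm, ← ht', ← ht2, ht3]
    exact mul_inv_eq_iff_eq_mul.mp h4
  have hl3 : l = 3 := by
    by_contra hl3
    apply hrt
    have hcop : Nat.Coprime (orderOf r) 3 := by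
      rw [hrl]; exact (Nat.coprime_primes hl Nat.prime_three).mpr hl3
    obtain ⟨k, hk⟩ := exists_pow_eq_self_of_coprime hcop.symm
    have h4 : Commute ((r ^ 3) ^ k) t := hr3.pow_left k
    rw [hk] at h4
    rw [ht', h4.eq, mul_inv_cancel_right]
  refine ⟨r, t, hr, by rw [hrl, hl3], ht, ht1, hrt, ht2e, ?_⟩
  rw [← ht', ← ht2e]
  exact ht3

end Sp

/-- groups of order `2 * odd` -/
theorem exists_index_two {C : Type*} [Group C] [Finite C] (h2 : 2 ∣ Nat.card C) (h4 : ¬ 4 ∣ Nat.card C) :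
    ∃ N : Subgroup C, N.Normal ∧ N.index = 2 ∧ Odd (Nat.card N) := by
  haveI : Fact (Nat.Prime 2) := ⟨Nat.prime_two⟩
  obtain ⟨P⟩ : Nonempty (Sylow 2 C) := inferInstance
  have hPc : Nat.card P = 2 := by
    obtain ⟨n, hn⟩ := IsPGroup.iff_card.mp P.isPGroup'
    change Nat.card P = 2 ^ n at hn
    have h5 : 2 ∣ Nat.card P := P.dvd_card_of_dvd_card h2
    have h6 : Nat.card P ∣ Nat.card C := Subgroup.card_subgroup_dvd_card _
    rcases Nat.lt_or_ge n 2 with h7 | h7
    · have : n = 1 := by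
        interval_cases n
        · rw [hn] at h5; norm_num at h5
        · rfl
      rw [hn, this, pow_one]
    · exfalso
      apply h4
      refine dvd_trans ?_ h6
      rw [hn]
      exact pow_dvd_pow 2 h7
  have hcyc : IsCyclic P := isCyclic_of_prime_card hPc
  have hmin : (Nat.card C).minFac = 2 := by
    rw [Nat.minFac_eq_two_iff]; exact h2
  have h1 := hcyc.isComplement' hmin
  refine ⟨(MonoidHom.transferSylow P (hcyc.normalizer_le_centralizer hmin)).ker, inferInstance, ?_, ?_⟩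
  · rw [h1.symm.index_eq_card]; exact hPc
  · have h3 := MonoidHom.not_dvd_card_ker_transferSylow P (hcyc.normalizer_le_centralizer hmin)
    rw [← Nat.not_even_iff_odd, even_iff_two_dvd]
    exact h3

end H73.Orb
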