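import Mathlib
import Cfsg.Agent.Lib.H73.Orb8
import Cfsg.Agent.Lib.H73.Orb9

/-!
Tools for S3406: the case of Sylow 2-subgroups of order 4, case 2a.
-/

set_option autoImplicit false

open Subgroup Cfsg
open scoped Pointwise

namespace H73.Orb

variable {G : Type*} [Group G] {p q : ℕ}
variable {S : Sylow 2 G} {O : G → Subgroup G}

theorem Sp.no_inv [Finite G] (h : Sp G p q) (S : Sylow 2 G) (hS : Nat.card S = 4)
    (h4 : ∀ x : G, orderOf x = p → 4 ∣ Nat.card (centralizer ({x} : Set G))) {y s : G}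
    (hy : orderOf y = p) (hs : orderOf s = 2) (hsy : s * y * s⁻¹ = y⁻¹) : False := by
  haveI : Fact (Nat.Prime 2) := ⟨Nat.prime_two⟩
  set C := centralizer ({y} : Set G) with hC
  have hsC : s ∉ C := by
    intro h1
    have h2 := mem_centralizer_iff.mp h1 y rfl
    rw [← h2, mul_inv_cancel_right] at hsy
    have h3 : y ^ 2 = 1 := by
      rw [pow_two]
      nth_rewrite 1 [hsy]
      rw [inv_mul_cancel]
    have h4 := orderOf_dvd_of_pow_eq_one h3
    rw [hy] at h4
    exact h.p2 ((Nat.prime_dvd_prime_iff_eq h.hp Nat.prime_two).mp h4)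
  have hnorm : s ∈ normalizer (C : Set G) := by
    have key : ∀ x ∈ C, s * x * s⁻¹ ∈ C := by
      intro x hx
      have h1 := mem_centralizer_iff.mp hx y rfl
      rw [hC, mem_centralizer_iff]
      rintro z rfl
      have h2 : z = s * z⁻¹ * s⁻¹ := by rw [ci, hsy, inv_inv]
      have h3 : z⁻¹ * x = x * z⁻¹ := by
        calc z⁻¹ * x = z⁻¹ * (x * z) * z⁻¹ := by group
          _ = z⁻¹ * (z * x) * z⁻¹ := by rw [h1]
          _ = x * z⁻¹ := by group
      calc z * (s * x * s⁻¹) = (s * z⁻¹ * s⁻¹) * (s * x * s⁻¹) := by rw [← h2]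
        _ = s * (z⁻¹ * x) * s⁻¹ := by group
        _ = s * (x * z⁻¹) * s⁻¹ := by rw [h3]
        _ = (s * x * s⁻¹) * (s * z⁻¹ * s⁻¹) := by group
        _ = s * x * s⁻¹ * z := by rw [← h2]
    rw [mem_normalizer_iff]
    intro x
    refine ⟨key x, fun hx => ?_⟩
    have h1 := key _ hx
    have hsi : s⁻¹ = s := inv_eq_of_mul_eq_one_right (ord2 hs)
    have h2 : s * (s * x * s⁻¹) * s⁻¹ = x := by
      rw [hsi]
      calc s * (s * x * s) * s = (s * s) * x * (s * s) := by group
        _ = x := by rw [ord2 hs, one_mul, mul_one]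
    rwa [h2] at h1
  -- the quotient N(C)/C has an involution
  set N := normalizer (C : Set G) with hN
  have hCN : C ≤ N := le_normalizer
  haveI hn : (C.subgroupOf N).Normal := normal_in_normalizer
  have h1 : orderOf (QuotientGroup.mk' (C.subgroupOf N) ⟨s, hnorm⟩) = 2 := by
    apply of2
    · rw [← map_mul]
      have : (⟨s, hnorm⟩ : N) * ⟨s, hnorm⟩ = 1 := by ext; exact ord2 hs
      rw [this, map_one]
    · intro h2
      have h3 := (QuotientGroup.eq_one_iff _).mp h2
      exact hsC h3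
  have h2 : 2 ∣ C.relIndex N := by
    rw [← h1]; exact orderOf_dvd_natCard _
  have h3 := card_mul_relIndex' hCN
  have h5 : 8 ∣ Nat.card N := by
    rw [← h3]
    exact mul_dvd_mul (h4 y hy) h2
  have h6 : 8 ∣ Nat.card G := h5.trans (Subgroup.card_subgroup_dvd_card N)
  have h7 := Subgroup.card_mul_index (S : Subgroup G)
  have h8 : Nat.card (S : Subgroup G) = 4 := hS
  rw [← h7, h8] at h6
  apply S.not_dvd_index
  obtain ⟨k, hk⟩ := h6
  exact ⟨k, by omega⟩

theorem Dat.comm_2a [Finite G] (h : Sp G p q) (hd : Dat S O) (hS : Nat.card S = 4)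
    (h4 : ∀ x : G, orderOf x = p → 4 ∣ Nat.card (centralizer ({x} : Set G))) :
    ∀ s ∈ S, s ≠ 1 → ∀ t ∈ S, t ≠ 1 → ∀ x ∈ O s, ∀ y ∈ O t, x * y = y * x := by
  intro s hs hs1 t ht ht1 x hx y hy
  have hXS := hd.norm h hs hs1
  have hXp := hd.isPGroup h hs hs1
  have hfix : t * x * t⁻¹ = x := by
    obtain ⟨a, b, hab⟩ := exists_split (S := (S : Set G)) (r := t) (h.p_comm hXp)
      (h.two_el' S.isPGroup' ht)
      (fun x hx => H1.Coprime.conj_mem_of_le_normalizer hXS ht hx)
      (fun s hs => h.two_comm S.isPGroup' s hs t ht) hx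
    have hb1 : b = 1 := by
      by_contra hb1
      exact h.no_inv S hS h4 (h.p_ord hXp hab.bm hb1) (h.ord_two S ht ht1) hab.rb
    have h1 : x ^ 2 = a := by rw [hab.eq, hb1, mul_one]
    have h2 : x ^ 2 * t = t * x ^ 2 := by
      rw [h1]
      exact (mul_inv_eq_iff_eq_mul.mp hab.ra).symm
    have h3 := comm_of_sq h.podd (h.p_el' hXp hx) h2
    rw [← h3, mul_inv_cancel_right]
  exact hd.comm_of_fix h ht ht1 (hd.rel s hs hs1).odd hXS (hd.rel t ht ht1).odd
    (hd.norm h ht ht1) hx hfix hy (hd.fix ht ht1 hy)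

end H73.Orb
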