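import Mathlib
import Cfsg.Agent.Lib.H73.Orb10

/-!
Tools for S3406: the case of Sylow 2-subgroups of order 4, case 2b.
-/

set_option autoImplicit false

open Subgroup Cfsg
open scoped Pointwise

namespace H73.Orb

variable {G : Type*} [Group G] {p q : ℕ}
variable {S : Sylow 2 G} {O : G → Subgroup G}

structure NX (p : ℕ) (x : G) (N : Subgroup G) : Prop where
  le : N ≤ centralizer ({x} : Set G)
  odd : Odd (Nat.card N)
  mem : ∀ g : G, x * g = g * x → g ^ p = 1 → g ∈ N
  exp : ∀ g ∈ N, g ^ p = 1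
  comm : ∀ a ∈ N, ∀ b ∈ N, a * b = b * a
  idx : ∀ u v : G, x * u = u * x → x * v = v * x → u ∉ N → v ∉ N → u * v ∈ N

theorem eq_one_of_sq_pow {g : G} (hp : Odd p) (h1 : g ^ p = 1) (h2 : g * g = 1) : g = 1 := by
  obtain ⟨m, hm⟩ := hp
  rw [hm, pow_succ, pow_mul, pow_two, h2, one_pow, one_mul] at h1
  exact h1

theorem eq_pow_sq {g : G} (hp : Odd p) (h1 : g ^ p = 1) : ∃ m : ℕ, g = (g ^ 2) ^ m := by
  obtain ⟨m, hm⟩ := hp
  refine ⟨m + 1, ?_⟩
  rw [← pow_mul]
  have : 2 * (m + 1) = p + 1 := by omega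
  rw [this, pow_succ, h1, one_mul]

theorem Sp.exists_NX [Finite G] (h : Sp G p q)
    (h4 : ∀ x : G, orderOf x = p → ¬ 4 ∣ Nat.card (centralizer ({x} : Set G))) {x : G}
    (hx : orderOf x = p) : ∃ N : Subgroup G, NX p x N := by
  set C := centralizer ({x} : Set G) with hC
  have h2 : 2 ∣ Nat.card C := by
    obtain ⟨t, ht, htx⟩ := h.exists_two_of_p hx
    have htC : t ∈ C := by rw [hC, mem_centralizer_iff]; rintro z rfl; exact htx.symm
    have h1 : orderOf (⟨t, htC⟩ : C) ∣ Nat.card C := orderOf_dvd_natCard _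
    rw [← Subgroup.orderOf_coe] at h1
    change orderOf t ∣ _ at h1
    rwa [ht] at h1
  obtain ⟨N', hN'n, hN'i, hN'o⟩ := exists_index_two h2 (h4 x hx)
  have hmemC : ∀ g : G, g ∈ C ↔ x * g = g * x := by
    intro g
    rw [hC, mem_centralizer_iff]
    exact ⟨fun h => h x rfl, by rintro h z rfl; exact h⟩
  have hodd : Odd (Nat.card (N'.map C.subtype)) := by
    rw [Nat.card_congr (Subgroup.equivMapOfInjective N' C.subtype C.subtype_injective).toEquiv.symm]
    exact hN'o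
  have hle : N'.map C.subtype ≤ C := map_subtype_le _
  have hP : IsPGroup p (N'.map C.subtype) := h.isPGroup_of_odd (Or.inr hx) hle hodd
  have hidx : ∀ u v : G, x * u = u * x → x * v = v * x → u ∉ N'.map C.subtype → v ∉ N'.map C.subtype →
      u * v ∈ N'.map C.subtype := by
    intro u v hu hv huN hvN
    have hu' : (⟨u, (hmemC u).mpr hu⟩ : C) ∉ N' := fun h1 => huN ⟨_, h1, rfl⟩
    have hv' : (⟨v, (hmemC v).mpr hv⟩ : C) ∉ N' := fun h1 => hvN ⟨_, h1, rfl⟩
    have h3 := (Subgroup.mul_mem_iff_of_index_two hN'i (a := ⟨u, (hmemC u).mpr hu⟩)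
      (b := ⟨v, (hmemC v).mpr hv⟩)).mpr (by simp [hu', hv'])
    exact ⟨_, h3, rfl⟩
  refine ⟨N'.map C.subtype, hle, hodd, ?_, fun g hg => h.p_el' hP hg, h.p_comm hP, hidx⟩
  intro g hg hgp
  by_contra hgN
  have h3 := hidx g g hg hg hgN hgN
  obtain ⟨m, hm⟩ := eq_pow_sq h.podd hgp
  apply hgN
  rw [hm, pow_two]
  exact pow_mem h3 m

theorem NX.eq {x v : G} {N N' : Subgroup G} (hx : NX p x N) (hv : NX p v N')
    (hxp : x ^ p = 1) (hvp : v ^ p = 1) (hc : x * v = v * x) : N = N' := by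
  have hxN : x ∈ N := hx.mem x rfl hxp
  have hvN : v ∈ N := hx.mem v hc hvp
  have hxN' : x ∈ N' := hv.mem x hc.symm hxp
  have hvN' : v ∈ N' := hv.mem v rfl hvp
  apply le_antisymm
  · intro g hg
    exact hv.mem g (hx.comm v hvN g hg) (hx.exp g hg)
  · intro g hg
    exact hx.mem g (hv.comm x hxN' g hg) (hv.exp g hg)

/-- another involution of S inverts `O t` -/
theorem Dat.inv_of [Finite G] (h : Sp G p q) (hd : Dat S O) (hS : Nat.card S = 4)
    (h4 : ∀ x : G, orderOf x = p → ¬ 4 ∣ Nat.card (centralizer ({x} : Set G)))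
    {t s : G} (ht : t ∈ S) (ht1 : t ≠ 1) (hs : s ∈ S) (hs1 : s ≠ 1) (hst : s ≠ t) :
    ∀ x ∈ O t, s * x * s⁻¹ = x⁻¹ := by
  haveI : Fact (Nat.Prime 2) := ⟨Nat.prime_two⟩
  apply inv_of_fpf (h.two_el' S.isPGroup' hs)
  · intro x hx
    exact H1.Coprime.conj_mem_of_le_normalizer (hd.norm h ht ht1) hs hx
  · intro x hx hfix
    by_contra hx1
    have hxo := h.p_ord (hd.isPGroup h ht ht1) hx hx1
    apply h4 x hxo
    have h1 : (S : Subgroup G) ≤ centralizer ({x} : Set G) := by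
      have htx := mul_inv_eq_iff_eq_mul.mp (hd.fix ht ht1 hx)
      have hsx := mul_inv_eq_iff_eq_mul.mp hfix
      intro u hu
      rw [mem_centralizer_iff]
      rintro z rfl
      rcases h.four_cases S hS hs ht hs1 ht1 hst u hu with rfl | rfl | rfl | rfl
      · simp
      · exact hsx.symm
      · exact htx.symm
      · rw [← mul_assoc, ← hsx, mul_assoc, ← htx, mul_assoc]
    have h2 := Subgroup.card_dvd_of_le h1
    change Nat.card S ∣ _ at h2
    rwa [hS] at h2

/-- the contradiction from a common p-element -/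
theorem Dat.key_Z [Finite G] (h : Sp G p q) (hd : Dat S O) (hS : Nat.card S = 4)
    (h4 : ∀ x : G, orderOf x = p → ¬ 4 ∣ Nat.card (centralizer ({x} : Set G)))
    {r t b b' : G} (hr : r ∈ normalizer (S : Set G)) (hro : orderOf r = 3) (ht : t ∈ S) (ht1 : t ≠ 1)
    (hb : b ∈ S) (hb1 : b ≠ 1) (hb' : b' ∈ S) (hb'1 : b' ≠ 1) (htb : t ≠ b) (htb' : t ≠ b')
    (h1 : r * t * r⁻¹ = b) (h2 : r * b * r⁻¹ = b') {x v : G} (hx : x ∈ O t)
    (hx1 : x ≠ 1) (hv : v ∈ O b) (hv1 : v ≠ 1) (hc : x * v = v * x) : False := by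
  haveI : Fact p.Prime := ⟨h.hp⟩
  have hxo := h.p_ord (hd.isPGroup h ht ht1) hx hx1
  have hvo := h.p_ord (hd.isPGroup h hb hb1) hv hv1
  have hxp : x ^ p = 1 := by rw [← hxo, pow_orderOf_eq_one]
  have hvp : v ^ p = 1 := by rw [← hvo, pow_orderOf_eq_one]
  obtain ⟨N, hN⟩ := h.exists_NX h4 hxo
  obtain ⟨N', hN'⟩ := h.exists_NX h4 hvo
  set x' := r * x * r⁻¹ with hx'
  have hx'b : x' ∈ O b := by rw [← h1]; exact hd.conj_mem h ht ht1 hr hx
  have hx'o : orderOf x' = p := by rw [hx', ordc]; exact hxo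
  have hx'p : x' ^ p = 1 := by rw [← hx'o, pow_orderOf_eq_one]
  obtain ⟨N'', hN''⟩ := h.exists_NX h4 hx'o
  have e1 : N = N' := hN.eq hN' hxp hvp hc
  have e2 : N'' = N' := hN''.eq hN' hx'p hvp (h.p_comm (hd.isPGroup h hb hb1) x' hx'b v hv)
  have e3 : N'' = N := by rw [e1, e2]
  rw [e3] at hN''
  have hrN : r ∈ normalizer (N : Set G) := by
    rw [mem_normalizer_iff]
    intro g
    constructor
    · intro hg
      apply hN''.mem
      · have h3 := mem_centralizer_iff.mp (hN.le hg) x rfl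
        calc x' * (r * g * r⁻¹) = r * (x * g) * r⁻¹ := by rw [hx']; group
          _ = r * (g * x) * r⁻¹ := by rw [h3]
          _ = r * g * r⁻¹ * x' := by rw [hx']; group
      · rw [conj_pow, hN.exp g hg]; simp
    · intro hg
      have h3 := mem_centralizer_iff.mp (hN''.le hg) x' rfl
      apply hN.mem
      · calc x * g = r⁻¹ * (x' * (r * g * r⁻¹)) * r := by rw [hx']; group
          _ = r⁻¹ * (r * g * r⁻¹ * x') * r := by rw [h3]
          _ = g * x := by rw [hx']; group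
      · have h5 := hN''.exp _ hg
        rw [conj_pow] at h5
        exact conj_eq_one_iff.mp h5
  have hxN : x ∈ N := hN.mem x rfl hxp
  have hx'N : x' ∈ N := hN''.mem x' rfl hx'p
  rcases h.prime_dvd Nat.prime_three hro with h3 | h3 | h3
  · omega
  · -- p = 3
    have hNp : IsPGroup p N := by
      rintro ⟨y, hy⟩
      refine ⟨1, ?_⟩
      ext
      simpa using hN.exp y hy
    have hzx : IsPGroup p (zpowers x) := hNp.to_le (by rw [zpowers_le]; exact hxN)
    obtain ⟨R, hR⟩ := hzx.exists_le_sylow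
    have hxR : x ∈ R := hR (mem_zpowers x)
    have hRN : (R : Subgroup G) ≤ N := by
      intro y hy
      exact hN.mem y (h.sylow_comm R x hxR y hy) (h.p_el' R.isPGroup' hy)
    have hRe : N = R := R.is_maximal' hNp hRN
    have hrp : IsPGroup p (zpowers r) := by
      rintro ⟨y, k, rfl⟩
      refine ⟨1, ?_⟩
      ext
      simp only [SubmonoidClass.coe_pow, OneMemClass.coe_one, pow_one]
      rw [← zpow_natCast, ← zpow_mul, mul_comm, zpow_mul]
      have : r ^ ((p : ℕ) : ℤ) = 1 := by rw [zpow_natCast, ← h3, ← hro, pow_orderOf_eq_one]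
      rw [this, one_zpow]
    have hrR : r ∈ R := by
      have h5 := hrp.inf_normalizer_sylow R
      have h6 : r ∈ zpowers r ⊓ normalizer ((R : Subgroup G) : Set G) :=
        ⟨mem_zpowers r, by rw [← hRe]; exact hrN⟩
      have h7 : r ∈ zpowers r ⊓ (R : Subgroup G) := by rw [← h5]; exact h6
      exact h7.2
    have hrN' : r ∈ N := by rw [hRe]; exact hrR
    have htx : t * x = x * t := mul_inv_eq_iff_eq_mul.mp (hd.fix ht ht1 hx)
    have htr : t * r * t⁻¹ ∈ N := by
      apply hN.mem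
      · have h5 := mem_centralizer_iff.mp (hN.le hrN') x rfl
        have h6 : x = t * x * t⁻¹ := (hd.fix ht ht1 hx).symm
        calc x * (t * r * t⁻¹) = (t * x * t⁻¹) * (t * r * t⁻¹) := by rw [← h6]
          _ = t * (x * r) * t⁻¹ := by group
          _ = t * (r * x) * t⁻¹ := by rw [h5]
          _ = (t * r * t⁻¹) * (t * x * t⁻¹) := by group
          _ = t * r * t⁻¹ * x := by rw [← h6]
      · rw [conj_pow, hN.exp r hrN']; simp
    have he1 : t * r * t⁻¹ * r⁻¹ ∈ N := mul_mem htr (inv_mem hrN')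
    have he2 : t * r * t⁻¹ * r⁻¹ ∈ S := by
      have h5 : t * r * t⁻¹ * r⁻¹ = t * (r * t⁻¹ * r⁻¹) := by group
      rw [h5]
      exact mul_mem ht ((mem_normalizer_iff.mp hr t⁻¹).mp (inv_mem ht))
    have he3 : t * r * t⁻¹ * r⁻¹ = 1 :=
      eq_one_of_sq_pow h.podd (hN.exp _ he1) (h.two_el' S.isPGroup' he2)
    apply htb
    rw [← h1]
    have h5 : t * r * t⁻¹ = r := mul_inv_eq_one.mp he3
    have h6 : t * r = r * t := mul_inv_eq_iff_eq_mul.mp h5
    rw [← h6, mul_inv_cancel_right]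
  · -- q = 3
    set x2 := r * x' * r⁻¹ with hx2
    have hx2b : x2 ∈ O b' := by rw [← h2]; exact hd.conj_mem h hb hb1 hr hx'b
    have hx2N : x2 ∈ N := (mem_normalizer_iff.mp hrN x').mp hx'N
    have hr3 : r * r * r = 1 := by
      have h5 : r ^ 3 = 1 := by rw [← hro, pow_orderOf_eq_one]
      rw [← h5, pow_succ, pow_two]
    have hrx2 : r * x2 * r⁻¹ = x := by
      rw [hx2, hx', ← cm, ← cm, hr3]; group
    have hw : x * x' * x2 = 1 := by
      by_contra hw1
      have hwN : x * x' * x2 ∈ N := mul_mem (mul_mem hxN hx'N) hx2N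
      have hwo : orderOf (x * x' * x2) = p := orderOf_eq_prime (hN.exp _ hwN) hw1
      have hfix : r * (x * x' * x2) * r⁻¹ = x * x' * x2 := by
        calc r * (x * x' * x2) * r⁻¹ = (r * x * r⁻¹) * (r * x' * r⁻¹) * (r * x2 * r⁻¹) := by group
          _ = x' * x2 * x := by rw [← hx', ← hx2, hrx2]
          _ = x * (x' * x2) := hN.comm _ (mul_mem hx'N hx2N) _ hxN
          _ = x * x' * x2 := by group
      exact h.nopq hwo (hro.trans h3) (mul_inv_eq_iff_eq_mul.mp hfix).symm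
    have ht1' := hd.fix ht ht1 hx
    have ht2' := hd.inv_of h hS h4 hb hb1 ht ht1 htb x' hx'b
    have ht3' := hd.inv_of h hS h4 hb' hb'1 ht ht1 htb' x2 hx2b
    have hw2 : x * x'⁻¹ * x2⁻¹ = 1 := by
      calc x * x'⁻¹ * x2⁻¹ = (t * x * t⁻¹) * (t * x' * t⁻¹) * (t * x2 * t⁻¹) := by rw [ht1', ht2', ht3']
        _ = t * (x * x' * x2) * t⁻¹ := by group
        _ = 1 := by rw [hw]; group
    have h5 : x * x = 1 := by
      have h6 : x'⁻¹ * x2⁻¹ = (x' * x2)⁻¹ :=
        (hN.comm _ (inv_mem hx'N) _ (inv_mem hx2N)).trans (mul_inv_rev x' x2).symm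
      have h7 : x = x' * x2 := by
        rw [mul_assoc, h6] at hw2
        exact mul_inv_eq_one.mp hw2
      have h8 : x * (x' * x2) = 1 := by rw [← mul_assoc]; exact hw
      rwa [← h7] at h8
    exact hx1 (eq_one_of_sq_pow h.podd hxp h5)

end H73.Orb
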