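import Mathlib
import Cfsg.Agent.Lib.H73.Orb11
import Cfsg.Agent.S3282

/-!
Tools for S3406: the case of Sylow 2-subgroups of order 4, case 2b, end.
-/

set_option autoImplicit false

open Subgroup Cfsg
open scoped Pointwise

namespace H73.Orb

variable {G : Type*} [Group G] {p q : ℕ}
variable {S : Sylow 2 G} {O : G → Subgroup G}

/-- the situation of case 2b -/
structure Sit (p q : ℕ) (S : Sylow 2 G) (O : G → Subgroup G) (r t a : G) : Prop where
  h : Sp G p q
  hd : Dat S O
  hS : Nat.card S = 4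
  h4 : ∀ x : G, orderOf x = p → ¬ 4 ∣ Nat.card (centralizer ({x} : Set G))
  hr : r ∈ normalizer (S : Set G)
  hro : orderOf r = 3
  ht : t ∈ S
  ht1 : t ≠ 1
  ha : r * t * r⁻¹ = a
  hta : a ≠ t
  hb : r * a * r⁻¹ = t * a
  hc : r * (t * a) * r⁻¹ = t

namespace Sit

variable {r t a : G} (s : Sit p q S O r t a)
include s

theorem haS : a ∈ S := by
  rw [← s.ha]; exact (mem_normalizer_iff.mp s.hr t).mp s.ht

theorem ha1 : a ≠ 1 := by
  intro h1
  exact s.ht1 (conj_eq_one_iff.mp (s.ha.trans h1))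

theorem hta1 : t * a ≠ 1 := by
  intro h1
  exact s.ha1 (conj_eq_one_iff.mp (s.hb.trans h1))

theorem two (x : G) (hx : x ∈ S) : x * x = 1 := s.h.two_el' S.isPGroup' hx

theorem tne : t * a ≠ t := fun h => s.ha1 (mul_eq_left.mp h)
theorem ane : t * a ≠ a := fun h => s.ht1 (mul_eq_right.mp h)

theorem S_norm [Finite G] {x : G} (hx : x ∈ O t) {N : Subgroup G} (hN : NX p x N) :
    (S : Subgroup G) ≤ normalizer (N : Set G) := by
  have h := s.h
  apply H1.Coprime.le_normalizer_of_conj_mem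
  intro u hu g hg
  have hux : u * x * u⁻¹ = x ∨ u * x * u⁻¹ = x⁻¹ := by
    by_cases h1 : u = 1
    · left; rw [h1]; group
    by_cases h2 : u = t
    · left; rw [h2]; exact s.hd.fix s.ht s.ht1 hx
    · right; exact s.hd.inv_of h s.hS s.h4 s.ht s.ht1 hu h1 h2 x hx
  have h3 := mem_centralizer_iff.mp (hN.le hg) x rfl
  have h5 : (u * x * u⁻¹) * (u * g * u⁻¹) = (u * g * u⁻¹) * (u * x * u⁻¹) := by
    calc (u * x * u⁻¹) * (u * g * u⁻¹) = u * (x * g) * u⁻¹ := by group
      _ = u * (g * x) * u⁻¹ := by rw [h3]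
      _ = (u * g * u⁻¹) * (u * x * u⁻¹) := by group
  apply hN.mem
  · rcases hux with h6 | h6 <;> rw [h6] at h5
    · exact h5
    · have h7 : Commute x⁻¹ (u * g * u⁻¹) := h5
      have h8 : Commute x (u * g * u⁻¹) := by
        have := h7.inv_left
        rwa [inv_inv] at this
      exact h8
  · rw [conj_pow, hN.exp g hg]; simp

theorem NX_eq [Finite G] {x : G} (hx : x ∈ O t) (hx1 : x ≠ 1) {N : Subgroup G} (hN : NX p x N) :
    N = O t := by
  have h := s.h
  have hd := s.hd
  have hOp := hd.isPGroup h s.ht s.ht1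
  have hSN := s.S_norm hx hN
  have htwo := s.two
  have hSc := h.two_comm S.isPGroup'
  have hxp : x ^ p = 1 := h.p_el' hOp hx
  have hxN : x ∈ N := hN.mem x rfl hxp
  apply le_antisymm
  · intro g hg
    have sp : ∀ u ∈ S, ∀ x ∈ N, ∃ a b, Split (S : Set G) N u x a b := by
      intro u hu x hx
      exact exists_split hN.comm (htwo u hu) (fun x hx => H1.Coprime.conj_mem_of_le_normalizer hSN hu hx)
        (fun v hv => hSc v hv u hu) hx
    have inO : ∀ c ∈ S, c ≠ 1 → ∀ y ∈ N, c * y * c⁻¹ = y → y ∈ O c := by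
      intro c hc hc1 y hy hcy
      exact hd.mem h hc hc1 hN.odd hSN hy hcy
    obtain ⟨g1, g2, e1⟩ := sp t s.ht g hg
    obtain ⟨g3, g4, e2⟩ := sp a s.haS g2 e1.bm
    have h3 : g3 = 1 := by
      by_contra h31
      have h32 := inO a s.haS s.ha1 g3 e2.am e2.ra
      exact hd.key_Z h s.hS s.h4 s.hr s.hro s.ht s.ht1 s.haS s.ha1 (mul_mem s.ht s.haS) s.hta1
        s.hta.symm s.tne.symm s.ha s.hb hx hx1 h32 h31 (hN.comm x hxN g3 e2.am)
    have h4 : g4 = 1 := by
      by_contra h41
      have h42 : t * a * g4 * (t * a)⁻¹ = g4 := by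
        rw [cm, e2.rb, ci, e2.invb t s.ht e1.rb, inv_inv]
      have h43 := inO (t * a) (mul_mem s.ht s.haS) s.hta1 g4 e2.bm h42
      refine hd.key_Z h s.hS s.h4 (inv_mem s.hr) (by rw [orderOf_inv]; exact s.hro) s.ht s.ht1
        (mul_mem s.ht s.haS) s.hta1 s.haS s.ha1 s.tne.symm s.hta.symm ?_ ?_ hx hx1 h43 h41
        (hN.comm x hxN g4 e2.bm)
      · rw [inv_inv]
        calc r⁻¹ * t * r = r⁻¹ * (r * (t * a) * r⁻¹) * r := by rw [s.hc]
          _ = t * a := by group
      · rw [inv_inv, ← s.hb]; group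
    have h5 : g2 * g2 = 1 := by
      have := e2.eq
      rw [h3, h4, mul_one, pow_two] at this
      exact this
    have h6 : g2 = 1 := eq_one_of_sq_pow h.podd (hN.exp g2 e1.bm) h5
    have h7 : g ^ 2 ∈ O t := by
      rw [e1.eq, h6, mul_one]
      exact inO t s.ht s.ht1 g1 e1.am e1.ra
    obtain ⟨m, hm⟩ := eq_pow_sq h.podd (hN.exp g hg)
    rw [hm]
    exact pow_mem h7 m
  · intro g hg
    exact hN.mem g (h.p_comm hOp x hx g hg) (h.p_el' hOp hg)

theorem exp [Finite G] {x : G} (hx : x ∈ O t) : x ^ p = 1 :=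
  s.h.p_el' (s.hd.isPGroup s.h s.ht s.ht1) hx

theorem comm [Finite G] {x y : G} (hx : x ∈ O t) (hy : y ∈ O t) : x * y = y * x :=
  s.h.p_comm (s.hd.isPGroup s.h s.ht s.ht1) x hx y hy

theorem one_of [Finite G] {x : G} (hx : x ∈ O t) (hx2 : x * x = 1) : x = 1 :=
  eq_one_of_sq_pow s.h.podd (s.exp hx) hx2

theorem tc [Finite G] {x : G} (hx : x ∈ O t) : t * x = x * t :=
  mul_inv_eq_iff_eq_mul.mp (s.hd.fix s.ht s.ht1 hx)

theorem uniq_inv [Finite G] {w u : G} (hw : w ∈ O t) (hw1 : w ≠ 1) (hu : orderOf u = 2)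
    (huw : w * u = u * w) : u = t := by
  have hwo := s.h.p_ord (s.hd.isPGroup s.h s.ht s.ht1) hw hw1
  obtain ⟨N, hN⟩ := s.h.exists_NX s.h4 hwo
  have hNe := s.NX_eq hw hw1 hN
  have htN : t ∉ N := by
    intro h1
    rw [hNe] at h1
    exact s.ht1 (s.one_of h1 (s.two t s.ht))
  have huN : u ∉ N := by
    intro h1
    rw [hNe] at h1
    exact ord2ne hu (s.one_of h1 (ord2 hu))
  have h1 := hN.idx u t huw (s.tc hw).symm huN htN
  rw [hNe] at h1
  have h2 := s.tc h1
  have htt := s.two t s.ht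
  have h3 : t * u = u * t := by
    have h4 : (t * u) * t = (u * t) * t := by rw [mul_assoc]; exact h2
    exact mul_right_cancel h4
  have h4 : (u * t) * (u * t) = 1 := by
    calc (u * t) * (u * t) = u * (t * u) * t := by group
      _ = u * (u * t) * t := by rw [h3]
      _ = (u * u) * (t * t) := by group
      _ = 1 := by rw [ord2 hu, htt, one_mul]
  have h5 := s.one_of h1 h4
  have h6 : u = t⁻¹ := eq_inv_of_mul_eq_one_left h5
  rw [h6]; exact inv_eq_of_mul_eq_one_left htt

theorem nop [Finite G] {n : G} (hn : n ∈ normalizer (S : Set G)) (hnt : t * n = n * t)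
    (hno : orderOf n = p) : False := by
  haveI : Fact (Nat.Prime 2) := ⟨Nat.prime_two⟩
  have h := s.h
  have hnp : n ^ p = 1 := by rw [← hno, pow_orderOf_eq_one]
  have h1 : n * a * n⁻¹ ∈ S := (mem_normalizer_iff.mp hn a).mp s.haS
  have key : n * a = a * n → False := by
    intro hna
    apply s.h4 n hno
    have h2 : (S : Subgroup G) ≤ centralizer ({n} : Set G) := by
      intro u hu
      rw [mem_centralizer_iff]
      rintro z rfl
      rcases h.four_cases S s.hS s.ht s.haS s.ht1 s.ha1 s.hta.symm u hu with rfl | rfl | rfl | rfl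
      · simp
      · exact hnt.symm
      · exact hna
      · rw [← mul_assoc, ← hnt, mul_assoc, hna, mul_assoc]
    have h3 := Subgroup.card_dvd_of_le h2
    change Nat.card S ∣ _ at h3
    rwa [s.hS] at h3
  rcases h.four_cases S s.hS s.ht s.haS s.ht1 s.ha1 s.hta.symm _ h1 with h2 | h2 | h2 | h2
  · exact s.ha1 (conj_eq_one_iff.mp h2)
  · apply s.hta
    have h3 : a = n⁻¹ * t * n := by rw [← h2]; group
    rw [h3]
    calc n⁻¹ * t * n = n⁻¹ * (t * n) := by group
      _ = n⁻¹ * (n * t) := by rw [hnt]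
      _ = t := by group
  · exact key (mul_inv_eq_iff_eq_mul.mp h2)
  · have h3 : n ^ 2 * a = a * n ^ 2 := by
      have h4 : n ^ 2 * a * (n ^ 2)⁻¹ = a := by
        rw [pow_two, cm, h2]
        calc n * (t * a) * n⁻¹ = (n * t) * a * n⁻¹ := by group
          _ = (t * n) * a * n⁻¹ := by rw [hnt]
          _ = t * (n * a * n⁻¹) := by group
          _ = t * (t * a) := by rw [h2]
          _ = a := by rw [← mul_assoc, s.two t s.ht, one_mul]
      exact mul_inv_eq_iff_eq_mul.mp h4
    exact key (comm_of_sq h.podd hnp h3)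

theorem cent_le [Finite G] {x : G} (hx : t * x = x * t) : ∃ o ∈ O t, ∃ v ∈ S, x = o * v := by
  have h := s.h
  have hxC : x ∈ centralizer ({t} : Set G) := by
    rw [mem_centralizer_iff]; rintro z rfl; exact hx
  obtain ⟨o, ho, n, hn, hnS, rfl⟩ := (s.hd.rel t s.ht s.ht1).fac x hxC
  refine ⟨o, ho, n, ?_, rfl⟩
  have hnt : t * n = n * t := mem_centralizer_iff.mp hn t rfl
  rcases h.spec n with h1 | h1 | h1 | h1 | h1
  · rw [orderOf_eq_one_iff] at h1
    rw [h1]; exact one_mem _
  · exact mem_sylow_of_norm S hnS (ord2 h1)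
  · exact (s.nop hnS hnt h1).elim
  · exact (h.no2q (h.ord_two S s.ht s.ht1) h1 hnt).elim
  · have h2 : orderOf (n ^ 2) = p := by
      rw [orderOf_pow_of_dvd (by norm_num) (by rw [h1]; exact Dvd.intro p rfl), h1]
      exact Nat.mul_div_cancel_left _ (by norm_num)
    have h3 : Commute t n := hnt
    exact (s.nop (pow_mem hnS 2) (h3.pow_right 2) h2).elim

theorem exists_ne [Finite G] : ∃ o ∈ O t, o ≠ 1 := by
  have h := s.h
  obtain ⟨x, hx, hxt⟩ := h.exists_p_of_two (h.ord_two S s.ht s.ht1)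
  obtain ⟨o, ho, v, hv, hxe⟩ := s.cent_le hxt
  refine ⟨o, ho, ?_⟩
  rintro rfl
  rw [one_mul] at hxe
  have h1 : orderOf x ∣ 2 := by
    rw [orderOf_dvd_iff_pow_eq_one, pow_two, hxe]
    exact s.two v hv
  rw [hx] at h1
  exact h.p2 ((Nat.prime_dvd_prime_iff_eq h.hp Nat.prime_two).mp h1)

/-- the subgroup `O t * ⟨t⟩` -/
def K [Finite G] : Subgroup G where
  carrier := {k | k ∈ O t ∨ k * t ∈ O t}
  one_mem' := Or.inl (one_mem _)
  mul_mem' := by
    intro k l hk hl
    have htt := s.two t s.ht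
    rcases hk with hk | hk <;> rcases hl with hl | hl
    · exact Or.inl (mul_mem hk hl)
    · right
      rw [mul_assoc]
      exact mul_mem hk hl
    · right
      have : k * l * t = (k * t) * l := by
        rw [mul_assoc, mul_assoc, s.tc hl]
      rw [this]
      exact mul_mem hk hl
    · left
      have : k * l = (k * t) * (l * t) := by
        calc k * l = k * (l * t) * t := by rw [mul_assoc, mul_assoc, htt, mul_one]
          _ = k * (t * (l * t)) := by rw [s.tc hl, mul_assoc]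
          _ = (k * t) * (l * t) := by group
      rw [this]
      exact mul_mem hk hl
  inv_mem' := by
    intro k hk
    have htt := s.two t s.ht
    have hti : t⁻¹ = t := inv_eq_of_mul_eq_one_right htt
    rcases hk with hk | hk
    · exact Or.inl (inv_mem hk)
    · right
      have h1 : t * k = k * t := by
        have h2 := s.tc hk
        rw [← mul_assoc] at h2
        exact mul_right_cancel h2
      have h2 : k⁻¹ * t = (k * t)⁻¹ := by
        rw [mul_inv_rev, hti]
        exact (Commute.inv_left (h1.symm : Commute k t)).eq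
      rw [h2]
      exact inv_mem hk

theorem mem_K [Finite G] {k : G} (hk : k ∈ s.K) : ∃ o ∈ O t, k = o ∨ k = o * t := by
  rcases hk with hk | hk
  · exact ⟨k, hk, Or.inl rfl⟩
  · exact ⟨k * t, hk, Or.inr (by rw [mul_assoc, s.two t s.ht, mul_one])⟩

theorem K_t [Finite G] {k : G} (hk : k ∈ s.K) : t * k = k * t := by
  obtain ⟨o, ho, rfl | rfl⟩ := s.mem_K hk
  · exact s.tc ho
  · rw [← mul_assoc, s.tc ho]

theorem K_comm [Finite G] {k l : G} (hk : k ∈ s.K) (hl : l ∈ s.K) : k * l = l * k := by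
  obtain ⟨o, ho, rfl | rfl⟩ := s.mem_K hk
  · obtain ⟨o', ho', rfl | rfl⟩ := s.mem_K hl
    · exact s.comm ho ho'
    · have c1 : Commute k o' := s.comm ho ho'
      have c2 : Commute k t := (s.tc ho).symm
      exact c1.mul_right c2
  · have c3 : Commute t l := s.K_t hl
    obtain ⟨o', ho', rfl | rfl⟩ := s.mem_K hl
    · have c1 : Commute o l := s.comm ho ho'
      exact c1.mul_left c3
    · have c1 : Commute o o' := s.comm ho ho'
      have c2 : Commute o t := (s.tc ho).symm
      exact (c1.mul_right c2).mul_left c3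

theorem K_sq [Finite G] {k : G} (hk : k ∈ s.K) : k * k ∈ O t := by
  rcases hk with hk | hk
  · exact mul_mem hk hk
  · have h1 : t * k = k * t := by
      have h2 := s.tc hk
      rw [← mul_assoc] at h2
      exact mul_right_cancel h2
    have h2 : k * k = (k * t) * (k * t) := by
      calc k * k = k * k * (t * t) := by rw [s.two t s.ht, mul_one]
        _ = k * (k * t) * t := by group
        _ = k * (t * k) * t := by rw [h1]
        _ = (k * t) * (k * t) := by group
    rw [h2]
    exact mul_mem hk hk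

/-- an element of `K` of order dividing 2 -/
theorem K_two [Finite G] {k : G} (hk : k ∈ s.K) (hk2 : k * k = 1) : k = 1 ∨ k = t := by
  obtain ⟨o, ho, rfl | rfl⟩ := s.mem_K hk
  · exact Or.inl (s.one_of ho hk2)
  · right
    have h1 : o * o = 1 := by
      calc o * o = o * o * (t * t) := by rw [s.two t s.ht, mul_one]
        _ = o * (o * t) * t := by group
        _ = o * (t * o) * t := by rw [s.tc ho]
        _ = 1 := by rw [← hk2]; group
    rw [s.one_of ho h1, one_mul]

theorem K_inv [Finite G] {k : G} (hk : k ∈ s.K) : a * k * a⁻¹ = k⁻¹ := by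
  have hO := s.hd.inv_of s.h s.hS s.h4 s.ht s.ht1 s.haS s.ha1 s.hta
  obtain ⟨o, ho, rfl | rfl⟩ := s.mem_K hk
  · exact hO k ho
  · have h1 : a * (o * t) * a⁻¹ = (a * o * a⁻¹) * (a * t * a⁻¹) := by group
    have h2 : a * t * a⁻¹ = t := by
      rw [s.h.two_comm S.isPGroup' a s.haS t s.ht, mul_inv_cancel_right]
    rw [h1, hO o ho, h2, mul_inv_rev, inv_eq_of_mul_eq_one_right (s.two t s.ht)]
    have h3 : Commute o t := (s.tc ho).symm
    exact h3.inv_left.eq

theorem conj_t [Finite G] {x : G} (hx : orderOf x = 2) : IsConj t x := by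
  obtain ⟨k, hk⟩ := conj_into' S (ord2 hx)
  have h1 : IsConj x (k * x * k⁻¹) := isConj_iff.mpr ⟨k, rfl⟩
  refine IsConj.trans ?_ h1.symm
  have hne : k * x * k⁻¹ ≠ 1 := fun h2 => ord2ne hx (conj_eq_one_iff.mp h2)
  have hta : IsConj t a := isConj_iff.mpr ⟨r, s.ha⟩
  have hat : IsConj a (t * a) := isConj_iff.mpr ⟨r, s.hb⟩
  rcases s.h.four_cases S s.hS s.ht s.haS s.ht1 s.ha1 s.hta.symm _ hk with h2 | h2 | h2 | h2
  · exact absurd h2 hne
  · rw [h2]
  · rw [h2]; exact hta
  · rw [h2]; exact hta.trans hat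

theorem TI [Finite G] {g w : G} (hw : w ∈ O t) (hw1 : w ≠ 1) (hg : g⁻¹ * w * g ∈ O t) :
    g * t * g⁻¹ = t := by
  have h1 := s.tc hg
  apply s.uniq_inv hw hw1 (by rw [ordc]; exact s.h.ord_two S s.ht s.ht1)
  calc w * (g * t * g⁻¹) = g * ((g⁻¹ * w * g) * t) * g⁻¹ := by group
    _ = g * (t * (g⁻¹ * w * g)) * g⁻¹ := by rw [h1]
    _ = g * t * g⁻¹ * w := by group

end Sit

end H73.Orb
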