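import Mathlib
import Cfsg.Agent.Lib.H73.Orb12

/-!
Tools for S3406: end of the case 2b, and of the case where some order is `2p`.
-/

set_option autoImplicit false

open Subgroup Cfsg
open scoped Pointwise

namespace H73.Orb

variable {G : Type*} [Group G] {p q : ℕ}
variable {S : Sylow 2 G} {O : G → Subgroup G}

/-- the diophantine equation -/
theorem dioph {r P A : ℕ} (hp : P.Prime) (hP2 : P ≠ 2) (hr : 2 ≤ r) (hA : 1 ≤ A) (hrodd : Odd r)
    (h : (r + 1) * (r - 1) = 8 * P ^ A) : r = 5 ∧ P = 3 := by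
  obtain ⟨k, hk⟩ := hrodd
  have hk1 : 1 ≤ k := by omega
  have h1 : k * (k + 1) = 2 * P ^ A := by
    have h2 : r - 1 = 2 * k := by omega
    have h3 : r + 1 = 2 * (k + 1) := by omega
    rw [h2, h3] at h
    have h4 : 4 * (k * (k + 1)) = 4 * (2 * P ^ A) := by
      calc 4 * (k * (k + 1)) = 2 * (k + 1) * (2 * k) := by ring
        _ = 8 * P ^ A := h
        _ = 4 * (2 * P ^ A) := by ring
    omega
  have hPA : P ∣ P ^ A := dvd_pow_self P (by omega)
  have hP3 : 3 ≤ P := by have := hp.two_le; omega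
  have hPA3 : 3 ≤ P ^ A := hP3.trans (Nat.le_of_dvd (Nat.pow_pos hp.pos) hPA)
  have hcop : Nat.Coprime k (k + 1) := by simp
  have hor : P ^ A ∣ k ∨ P ^ A ∣ k + 1 := by
    have h2 : P ^ A ∣ k * (k + 1) := by rw [h1]; exact Dvd.intro_left 2 rfl
    by_cases h3 : P ∣ k
    · left
      have h4 : ¬ P ∣ k + 1 := by
        intro h5
        have h6 : P ∣ Nat.gcd k (k + 1) := Nat.dvd_gcd h3 h5
        rw [hcop] at h6
        exact hp.one_lt.ne' (Nat.dvd_one.mp h6)
      exact (Nat.Coprime.pow_left A ((Nat.Prime.coprime_iff_not_dvd hp).mpr h4)).dvd_of_dvd_mul_right h2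
    · right
      exact (Nat.Coprime.pow_left A ((Nat.Prime.coprime_iff_not_dvd hp).mpr h3)).dvd_of_dvd_mul_left h2
  rcases hor with ⟨j, hj⟩ | ⟨j, hj⟩
  · have h2 : j * (k + 1) = 2 := by
      have h3 : P ^ A * (j * (k + 1)) = P ^ A * 2 := by
        calc P ^ A * (j * (k + 1)) = (P ^ A * j) * (k + 1) := by ring
          _ = P ^ A * 2 := by rw [← hj, h1]; ring
      exact Nat.eq_of_mul_eq_mul_left (by omega) h3
    have hj0 : j ≠ 0 := by rintro rfl; omega
    have hk3 : 3 ≤ k := by rw [hj]; nlinarith [Nat.pos_of_ne_zero hj0]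
    nlinarith [Nat.pos_of_ne_zero hj0]
  · have h2 : k * j = 2 := by
      have h3 : P ^ A * (k * j) = P ^ A * 2 := by
        calc P ^ A * (k * j) = k * (P ^ A * j) := by ring
          _ = P ^ A * 2 := by rw [← hj, h1]; ring
      exact Nat.eq_of_mul_eq_mul_left (by omega) h3
    have hk2 : k ≤ 2 := Nat.le_of_dvd (by norm_num) (Dvd.intro _ h2)
    interval_cases k
    · have : j = 2 := by omega
      rw [this] at hj; omega
    · have hj1 : j = 1 := by omega
      rw [hj1, mul_one] at hj
      have h4 : P ∣ 3 := by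
        have : P ∣ 2 + 1 := by rw [hj]; exact hPA
        exact this
      have h5 := (Nat.prime_dvd_prime_iff_eq hp Nat.prime_three).mp h4
      exact ⟨by omega, h5⟩

theorem Sit.false [Finite G] [IsSimpleGroup G] {r t a : G} (s : Sit p q S O r t a) : False := by
  have h := s.h
  haveI : Fact p.Prime := ⟨h.hp⟩
  haveI : Fact q.Prime := ⟨h.hq⟩
  haveI : Fact (Nat.Prime 2) := ⟨Nat.prime_two⟩
  have hto := h.ord_two S s.ht s.ht1
  have hao := h.ord_two S s.haS s.ha1
  have htt := s.two t s.ht
  have hmemC : ∀ g : G, g ∈ centralizer ({t} : Set G) ↔ t * g = g * t := by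
    intro g
    rw [mem_centralizer_iff]
    exact ⟨fun h => h t rfl, by rintro h z rfl; exact h⟩
  have htK : t ∈ s.K := Or.inr (by rw [htt]; exact one_mem _)
  have hOK : O t ≤ s.K := fun x hx => Or.inl hx
  have hta : t * a = a * t := h.two_comm S.isPGroup' t s.ht a s.haS
  have haK : a ∉ s.K := by
    intro h1
    rcases s.K_two h1 (s.two a s.haS) with h2 | h2
    · exact s.ha1 h2
    · exact s.hta h2
  obtain ⟨Q, D, hQ1, hQ2, -⟩ := Cfsg.Agent.S3282.result t hto s.K
    ⟨⟨fun a b => Subtype.ext (s.K_comm a.2 b.2)⟩⟩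
    (fun k hk => (hmemC k).mpr (s.K_t hk)) htK a hao ((hmemC a).mpr hta) haK
    (by
      apply le_antisymm
      · apply sup_le
        · intro k hk; exact (hmemC k).mpr (s.K_t hk)
        · rw [zpowers_le]; exact (hmemC a).mpr hta
      · intro x hx
        obtain ⟨o, ho, v, hv, rfl⟩ := s.cent_le ((hmemC x).mp hx)
        have haZ : a ∈ s.K ⊔ zpowers a := mem_sup_right (mem_zpowers a)
        refine mul_mem (mem_sup_left (hOK ho)) ?_
        rcases h.four_cases S s.hS s.ht s.haS s.ht1 s.ha1 s.hta.symm v hv with rfl | rfl | rfl | rfl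
        · exact one_mem _
        · exact mem_sup_left htK
        · exact haZ
        · exact mul_mem (mem_sup_left htK) haZ)
    (by
      apply le_antisymm
      · rintro k ⟨hk1, hk2⟩
        have h1 := s.K_inv hk1
        have h2 : a * k = k * a := mem_centralizer_iff.mp hk2 a rfl
        rw [h2, mul_inv_cancel_right] at h1
        have h3 : k * k = 1 := by
          nth_rewrite 1 [h1]
          rw [inv_mul_cancel]
        rcases s.K_two hk1 h3 with rfl | rfl
        · exact one_mem _
        · exact mem_zpowers _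
      · rw [zpowers_le]
        refine ⟨htK, ?_⟩
        change t ∈ centralizer ({a} : Set G)
        rw [mem_centralizer_iff]
        rintro z rfl
        exact hta.symm)
    (fun x hx => s.K_inv hx)
    (by
      intro g hg
      rw [eq_bot_iff]
      rintro z ⟨hz1, hz2⟩
      obtain ⟨z', hz', hzz⟩ := hz2
      have hz3 : g * z' * g⁻¹ = z := hzz
      rw [mem_bot]
      by_contra hne
      apply hg
      rw [hmemC]
      have hfin : g * t * g⁻¹ = t := by
        by_cases hzz1 : z * z = 1
        · rcases s.K_two hz1 hzz1 with h1 | h1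
          · exact absurd h1 hne
          · have h2 : z' * z' = 1 := by
              have h3 : g * (z' * z') * g⁻¹ = 1 := by
                calc g * (z' * z') * g⁻¹ = (g * z' * g⁻¹) * (g * z' * g⁻¹) := by group
                  _ = 1 := by rw [hz3, hzz1]
              exact conj_eq_one_iff.mp h3
            rcases s.K_two hz' h2 with h3 | h3
            · exfalso
              apply hne
              rw [← hz3, h3]; group
            · rw [h3, h1] at hz3
              exact hz3
        · apply s.TI (s.K_sq hz1) hzz1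
          have h3 : g⁻¹ * (z * z) * g = z' * z' := by rw [← hz3]; group
          rw [h3]
          exact s.K_sq hz'
      exact (mul_inv_eq_iff_eq_mul.mp hfin).symm)
    (by
      intro x y hx hy
      exact (s.conj_t hx).symm.trans (s.conj_t hy))
  -- the order of Q
  set r' := Nat.card Q with hr'
  have hG0 : 0 < Nat.card G := Nat.card_pos
  have hr2 : 2 ≤ r' := by
    by_contra h1
    have h2 : r' - 1 = 0 := by omega
    rw [h2, mul_zero] at hQ1
    omega
  obtain ⟨o1, ho1, ho11⟩ := s.exists_ne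
  -- centralizers of involutions are not abelian
  have hnab : ∀ u : G, orderOf u = 2 → u ∉ Q := by
    intro u hu huQ
    have h1 := hQ2 u huQ (ord2ne hu)
    obtain ⟨α, hα⟩ := h.tr u t (by rw [hu, hto])
    have key : ∀ y ∈ centralizer ({t} : Set G), α.symm y ∈ Q := by
      intro y hy
      rw [← h1, mem_centralizer_iff]
      rintro z rfl
      apply α.injective
      rw [map_mul, map_mul, MulEquiv.apply_symm_apply, hα]
      exact (hmemC y).mp hy
    have h2 := key a ((hmemC a).mpr hta)
    have h3 := key o1 ((hmemC o1).mpr (s.tc ho1))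
    have h5 : α.symm o1 ≠ 1 := by
      intro h6
      apply ho11
      rw [← MulEquiv.apply_symm_apply α o1, h6, map_one]
    have h6 := hQ2 _ h3 h5
    rw [← h6, mem_centralizer_iff] at h2
    have h7 := h2 _ rfl
    rw [← map_mul, ← map_mul] at h7
    have h8 := α.symm.injective h7
    have h9 := s.K_inv (hOK ho1)
    rw [← h8, mul_inv_cancel_right] at h9
    have h10 : o1 * o1 = 1 := by
      nth_rewrite 1 [h9]
      rw [inv_mul_cancel]
    exact ho11 (s.one_of ho1 h10)
  have hprQ : ∀ l : ℕ, l.Prime → l ∣ r' → l = q := by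
    intro l hl hld
    haveI : Fact l.Prime := ⟨hl⟩
    obtain ⟨x, hx⟩ := exists_prime_orderOf_dvd_card' l hld
    rw [← Subgroup.orderOf_coe] at hx
    rcases h.prime_dvd hl hx with h1 | h1 | h1
    · exfalso
      rw [h1] at hx
      exact hnab _ hx x.2
    · exfalso
      rw [h1] at hx
      obtain ⟨u, hu, hux⟩ := h.exists_two_of_p hx
      have hx1 : (x : G) ≠ 1 := by
        intro h2
        rw [h2, orderOf_one] at hx
        exact h.hp.one_lt.ne hx
      have h2 := hQ2 x x.2 hx1
      apply hnab u hu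
      rw [← h2, mem_centralizer_iff]
      rintro z rfl
      exact hux.symm
    · exact h1
  have hrodd : Odd r' := by
    rw [← Nat.not_even_iff_odd, even_iff_two_dvd]
    intro h1
    exact h.q2 (hprQ 2 Nat.prime_two h1).symm
  have hqr : q ∣ r' := by
    obtain ⟨l, hl, hld⟩ := Nat.exists_prime_and_dvd (show r' ≠ 1 by omega)
    rw [← hprQ l hl hld]; exact hld
  -- M = (r+1)(r-1) = 8 p^A
  set M := (r' + 1) * (r' - 1) with hM
  have hGM : 2 * Nat.card G = r' * M := by rw [hQ1, hM, mul_assoc]
  have hMq : ¬ q ∣ M := by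
    intro h1
    rcases (Nat.Prime.dvd_mul h.hq).mp h1 with h2 | h2
    · have h3 : q ∣ r' + 1 - r' := Nat.dvd_sub h2 hqr
      rw [Nat.add_sub_cancel_left] at h3
      exact h.hq.one_lt.ne' (Nat.dvd_one.mp h3)
    · have h3 : q ∣ r' - (r' - 1) := Nat.dvd_sub hqr h2
      have h4 : r' - (r' - 1) = 1 := by omega
      rw [h4] at h3
      exact h.hq.one_lt.ne' (Nat.dvd_one.mp h3)
  have hMpos : M ≠ 0 := by
    rw [hM]
    have : r' - 1 ≠ 0 := by omega
    positivity
  have hprG : ∀ l : ℕ, l.Prime → l ∣ Nat.card G → l = 2 ∨ l = p ∨ l = q := by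
    intro l hl hld
    haveI : Fact l.Prime := ⟨hl⟩
    obtain ⟨x, hx⟩ := exists_prime_orderOf_dvd_card' l hld
    exact h.prime_dvd hl hx
  have hMpr : ∀ l : ℕ, l.Prime → l ∣ M → l = 2 ∨ l = p := by
    intro l hl hld
    have h1 : l ∣ 2 * Nat.card G := by rw [hGM]; exact Dvd.dvd.mul_left hld _
    rcases (Nat.Prime.dvd_mul hl).mp h1 with h2 | h2
    · exact Or.inl ((Nat.prime_dvd_prime_iff_eq hl Nat.prime_two).mp h2)
    · rcases hprG l hl h2 with h3 | h3 | h3
      · exact Or.inl h3
      · exact Or.inr h3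
      · exfalso
        rw [h3] at hld
        exact hMq hld
  obtain ⟨i, A, hiA⟩ := eq_pow_mul_pow hMpos Nat.prime_two h.hp hMpr
  have hS4 : Nat.card (S : Subgroup G) = 4 := s.hS
  have hi3 : i = 3 := by
    have h1 := Subgroup.card_mul_index (S : Subgroup G)
    have h2 := S.not_dvd_index
    rw [hS4] at h1
    have h3 : 8 * (S : Subgroup G).index = r' * (2 ^ i * p ^ A) := by
      rw [← hiA, ← hGM, ← h1]; ring
    have hodd1 : Odd (S : Subgroup G).index := by
      rw [← Nat.not_even_iff_odd, even_iff_two_dvd]; exact h2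
    have hodd2 : Odd (r' * p ^ A) := hrodd.mul h.podd.pow
    have h5 : 2 ^ 3 * (S : Subgroup G).index = 2 ^ i * (r' * p ^ A) := by
      rw [show (2 : ℕ) ^ 3 = 8 by norm_num, h3]; ring
    rcases lt_trichotomy i 3 with h6 | h6 | h6
    · exfalso
      have h7 : 2 ^ 3 = 2 ^ i * 2 ^ (3 - i) := by rw [← pow_add]; congr 1; omega
      rw [h7, mul_assoc] at h5
      have h8 := Nat.eq_of_mul_eq_mul_left (Nat.pow_pos (by norm_num)) h5
      rw [← h8] at hodd2
      have h9 : 2 ∣ 2 ^ (3 - i) * (S : Subgroup G).index :=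
        Dvd.dvd.mul_right (dvd_pow_self 2 (by omega)) _
      exact (Nat.not_even_iff_odd.mpr hodd2) (even_iff_two_dvd.mpr h9)
    · exact h6
    · exfalso
      have h7 : 2 ^ i = 2 ^ 3 * 2 ^ (i - 3) := by rw [← pow_add]; congr 1; omega
      rw [h7, mul_assoc] at h5
      have h8 := Nat.eq_of_mul_eq_mul_left (Nat.pow_pos (by norm_num)) h5
      rw [h8] at hodd1
      have h9 : 2 ∣ 2 ^ (i - 3) * (r' * p ^ A) :=
        Dvd.dvd.mul_right (dvd_pow_self 2 (by omega)) _
      exact (Nat.not_even_iff_odd.mpr hodd1) (even_iff_two_dvd.mpr h9)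
  have hpG : p ∣ Nat.card G := by
    have h1 := orderOf_dvd_natCard o1
    rw [h.p_ord (s.hd.isPGroup h s.ht s.ht1) ho1 ho11] at h1
    exact h1
  have hA1 : 1 ≤ A := by
    by_contra h1
    have hA0 : A = 0 := by omega
    rw [hA0, pow_zero, mul_one] at hiA
    have h2 : p ∣ r' * M := by rw [← hGM]; exact Dvd.dvd.mul_left hpG 2
    rcases (Nat.Prime.dvd_mul h.hp).mp h2 with h3 | h3
    · exact h.pq (hprQ p h.hp h3)
    · rw [hiA] at h3
      exact h.p2 ((Nat.prime_dvd_prime_iff_eq h.hp Nat.prime_two).mp (h.hp.dvd_of_dvd_pow h3))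
  have hdio := dioph h.hp h.p2 hr2 hA1 hrodd (by
    rw [← hM, hiA, hi3]; norm_num)
  obtain ⟨hr5, hp3⟩ := hdio
  have hG60 : Nat.card G = 60 := by
    rw [hr5] at hGM hM
    rw [hM] at hGM
    omega
  subst hp3
  -- Sylow 3-subgroup
  obtain ⟨R, hR⟩ := (s.hd.isPGroup h s.ht s.ht1).exists_le_sylow
  have hRc : Nat.card R = 3 := by
    rw [R.card_eq_multiplicity, hG60]
    have : (60 : ℕ).factorization 3 = 1 := by
      rw [show (60 : ℕ) = 3 * 20 by norm_num, Nat.factorization_mul (by norm_num) (by norm_num)]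
      simp only [Finsupp.coe_add, Pi.add_apply]
      rw [Nat.Prime.factorization_self Nat.prime_three]
      have : (20 : ℕ).factorization 3 = 0 := Nat.factorization_eq_zero_of_not_dvd (by norm_num)
      rw [this]
    rw [this, pow_one]
  have hORe : O t = R := by
    apply Subgroup.eq_of_le_of_card_ge hR
    have h1 : (3 : ℕ) ∣ Nat.card (O t) := by
      have h2 : orderOf (⟨o1, ho1⟩ : O t) ∣ Nat.card (O t) := orderOf_dvd_natCard _
      rw [← Subgroup.orderOf_coe] at h2
      change orderOf o1 ∣ _ at h2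
      rwa [h.p_ord (s.hd.isPGroup h s.ht s.ht1) ho1 ho11] at h2
    change Nat.card R ≤ _
    rw [hRc]
    exact Nat.le_of_dvd Nat.card_pos h1
  set N := normalizer ((R : Subgroup G) : Set G) with hN
  have hSN : (S : Subgroup G) ≤ N := by
    rw [hN, ← hORe]
    exact s.hd.norm h s.ht s.ht1
  have hRN : (R : Subgroup G) ≤ N := le_normalizer
  have h4N : 4 ∣ Nat.card N := by
    have := Subgroup.card_dvd_of_le hSN
    rwa [hS4] at this
  have h3N : 3 ∣ Nat.card N := by
    have := Subgroup.card_dvd_of_le hRN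
    change Nat.card R ∣ _ at this
    rwa [hRc] at this
  have h12 : 12 ∣ Nat.card N := by
    have := Nat.Coprime.mul_dvd_of_dvd_of_dvd (by norm_num : Nat.Coprime 4 3) h4N h3N
    exact this
  have hNi := N.card_mul_index
  rw [hG60] at hNi
  have hmod := card_sylow_modEq_one 3 G
  rw [R.card_eq_index_normalizer] at hmod
  change N.index ≡ 1 [MOD 3] at hmod
  obtain ⟨j, hj⟩ := h12
  rw [hj] at hNi
  have h5 : j * N.index = 5 := by
    have h6 : 12 * (j * N.index) = 12 * 5 := by rw [← mul_assoc, hNi]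
    omega
  have h6 : N.index ∣ 5 := Dvd.intro_left _ h5
  rcases (Nat.dvd_prime (by norm_num)).mp h6 with h7 | h7
  · have h8 : N = ⊤ := Subgroup.index_eq_one.mp h7
    have h9 : (R : Subgroup G).Normal := normalizer_eq_top_iff.mp h8
    rcases h9.eq_bot_or_eq_top with h10 | h10
    · have h11 : Nat.card (R : Subgroup G) = 3 := hRc
      rw [h10, card_bot] at h11
      omega
    · have h11 : Nat.card (R : Subgroup G) = 3 := hRc
      rw [h10, card_top, hG60] at h11
      omega
  · rw [h7] at hmod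
    revert hmod
    decide

/-- no group in case B -/
theorem Sp.false [Finite G] [IsSimpleGroup G] (h : Sp G p q) : False := by
  obtain ⟨S⟩ : Nonempty (Sylow 2 G) := inferInstance
  obtain ⟨O, hd⟩ := h.exists_dat S
  have hcard := h.card_S S
  have hSb : (S : Subgroup G) ≠ ⊥ := by
    intro h1
    have h2 : Nat.card (S : Subgroup G) = 1 := by rw [h1, card_bot]
    change 4 ≤ Nat.card (S : Subgroup G) at hcard
    omega
  rcases h.eight_of S with h4 | h8
  · by_cases hx : ∃ x : G, orderOf x = p ∧ 4 ∣ Nat.card (centralizer ({x} : Set G))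
    · obtain ⟨x, hx, hx4⟩ := hx
      have hall : ∀ y : G, orderOf y = p → 4 ∣ Nat.card (centralizer ({y} : Set G)) := by
        intro y hy
        rw [← h.aut_card (hx.trans hy.symm)]; exact hx4
      obtain ⟨H, hH⟩ := hd.exists_HH h hSb (hd.comm_2a h h4 hall)
      exact hH.false h (by omega)
    · push Not at hx
      obtain ⟨r, t, hr, hro, ht, ht1, hne, e1, e2⟩ := h.exists_rho S h4
      exact Sit.false (S := S) (O := O) (r := r) (t := t) (a := r * t * r⁻¹)
        ⟨h, hd, h4, hx, hr, hro, ht, ht1, rfl, hne, e1, e2⟩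
  · obtain ⟨H, hH⟩ := hd.exists_HH h hSb (hd.comm_big h h8)
    exact hH.false h (by omega)

end H73.Orb
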