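import Mathlib
import Cfsg.Agent.Lib.H73.Orb13
import Cfsg.Agent.Lib.H11.Eppo4
import Cfsg.Agent.S1230
import Cfsg.Agent.S0252

/-!
Tools for S3406: counting orders; CIT groups with few element orders.
-/

set_option autoImplicit false

open Subgroup Cfsg
open scoped Pointwise

namespace H73.Orb

section count

variable {G : Type*} [Group G] [Finite G]

theorem exists_inj (l : List ℕ) (hl : ∀ n ∈ l, ∃ g : G, orderOf g = n) :
    ∃ f : {n // n ∈ l.toFinset} → MulAction.orbitRel.Quotient (MulAut G) G,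
      Function.Injective f ∧ ∀ n : {n // n ∈ l.toFinset}, ∃ g : G, orderOf g = n.1 ∧ f n = Quotient.mk'' g := by
  classical
  have h1 : ∀ n : {n // n ∈ l.toFinset}, ∃ g : G, orderOf g = n.1 := fun n =>
    hl n (List.mem_toFinset.mp n.2)
  choose g hg using h1
  refine ⟨fun n => Quotient.mk'' (g n), ?_, fun n => ⟨g n, hg n, rfl⟩⟩
  intro a b hab
  have h2 : g a ∈ MulAction.orbit (MulAut G) (g b) := MulAction.orbitRel_apply.mp (Quotient.exact hab)
  obtain ⟨α, hα⟩ := h2
  have h3 : α (g b) = g a := hα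
  ext
  rw [← hg a, ← hg b, ← h3, MulEquiv.orderOf_eq]

theorem card_orders (h5 : Nat.card (MulAction.orbitRel.Quotient (MulAut G) G) ≤ 5) (l : List ℕ)
    (hnd : l.Nodup) (hl : ∀ n ∈ l, ∃ g : G, orderOf g = n) : l.length ≤ 5 := by
  classical
  obtain ⟨f, hf, -⟩ := exists_inj l hl
  have h1 := Nat.card_le_card_of_injective f hf
  rw [Nat.card_eq_fintype_card, Fintype.card_coe, List.toFinset_card_of_nodup hnd] at h1
  exact h1.trans h5

theorem of_five (h5 : Nat.card (MulAction.orbitRel.Quotient (MulAut G) G) ≤ 5) (l : List ℕ)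
    (hnd : l.Nodup) (hlen : l.length = 5) (hl : ∀ n ∈ l, ∃ g : G, orderOf g = n) :
    (∀ g : G, orderOf g ∈ l) ∧ ∀ x y : G, orderOf x = orderOf y → ∃ α : MulAut G, α x = y := by
  classical
  obtain ⟨f, hf, hf2⟩ := exists_inj l hl
  constructor
  · intro g
    by_contra hg
    have h1 := card_orders h5 (orderOf g :: l) (List.nodup_cons.mpr ⟨hg, hnd⟩) (by
      intro n hn
      rcases List.mem_cons.mp hn with rfl | hn
      · exact ⟨g, rfl⟩
      · exact hl n hn)
    rw [List.length_cons, hlen] at h1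
    omega
  · have hbij : Function.Bijective f := by
      apply hf.bijective_of_nat_card_le
      rw [Nat.card_eq_fintype_card (α := {n // n ∈ l.toFinset}), Fintype.card_coe,
        List.toFinset_card_of_nodup hnd, hlen]
      exact h5
    have key : ∀ x : G, ∃ n, orderOf x = n.1 ∧ f n = Quotient.mk'' x := by
      intro x
      obtain ⟨n, hn⟩ := hbij.2 (Quotient.mk'' x)
      obtain ⟨g, hg, hg2⟩ := hf2 n
      refine ⟨n, ?_, hn⟩
      rw [hg2] at hn
      have h2 : g ∈ MulAction.orbit (MulAut G) x := MulAction.orbitRel_apply.mp (Quotient.exact hn)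
      obtain ⟨α, hα⟩ := h2
      have h3 : α x = g := hα
      rw [← hg, ← h3, MulEquiv.orderOf_eq]
    intro x y hxy
    obtain ⟨n, hn, hn2⟩ := key x
    obtain ⟨n', hn', hn2'⟩ := key y
    have h1 : n = n' := by
      ext
      rw [← hn, ← hn', hxy]
    rw [h1, hn2'] at hn2
    have h2 : y ∈ MulAction.orbit (MulAut G) x := MulAction.orbitRel_apply.mp (Quotient.exact hn2)
    obtain ⟨α, hα⟩ := h2
    exact ⟨α, hα⟩

theorem six (h5 : Nat.card (MulAction.orbitRel.Quotient (MulAut G) G) ≤ 5) {a b c d e f : ℕ}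
    (hnd : [a, b, c, d, e, f].Nodup) (ha : ∃ g : G, orderOf g = a) (hb : ∃ g : G, orderOf g = b)
    (hc : ∃ g : G, orderOf g = c) (hd : ∃ g : G, orderOf g = d) (he : ∃ g : G, orderOf g = e)
    (hf : ∃ g : G, orderOf g = f) : False := by
  have h1 := card_orders h5 [a, b, c, d, e, f] hnd (by
    intro n hn
    simp only [List.mem_cons, List.not_mem_nil, or_false] at hn
    rcases hn with rfl | rfl | rfl | rfl | rfl | rfl <;> assumption)
  simp at h1

end count

section lists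

variable {M : Type*} [Group M] [Finite M] [IsSimpleGroup M]

/-- `PSL₂(2^n)` -/
theorem psl_even (hna : ∃ a b : M, a * b ≠ b * a)
    (h5 : Nat.card (MulAction.orbitRel.Quotient (MulAut M) M) ≤ 5)
    {F : Type} [Field F] [Fintype F] {n : ℕ} (hF : Fintype.card F = 2 ^ n)
    (e : M ≃* Matrix.ProjectiveSpecialLinearGroup (Fin 2) F) :
    Nonempty (M ≃* ↥(alternatingGroup (Fin 5))) ∨ Fintype.card F = 8 := by
  have hn0 : n ≠ 0 := by
    rintro rfl
    have := Fintype.one_lt_card (α := F)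
    omega
  have hn1 : n ≠ 1 := by
    rintro rfl
    have h6 := H11.Eppo.card_psl_two hF e
    exact H11.Eppo.false_of_solvable_card hna Nat.prime_two Nat.prime_three (a := 1) (b := 1)
      (by rw [h6]; norm_num)
  by_cases hn2 : n = 2
  · left
    obtain ⟨e2⟩ := Cfsg.Agent.S0252.result (F := F) (by rw [hF, hn2]; norm_num)
    exact ⟨e.trans e2⟩
  by_cases hn3 : n = 3
  · right
    rw [hF, hn3]; norm_num
  exfalso
  have hn4 : 4 ≤ n := by omega
  have g1 : ∃ g : M, orderOf g = 1 := ⟨1, orderOf_one⟩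
  have g2 := H11.Eppo.psl_orders_even hF e (m := 2) (Or.inl dvd_rfl)
  have gm := H11.Eppo.psl_orders_even hF e (m := 2 ^ n - 1) (Or.inr (Or.inl dvd_rfl))
  have gp := H11.Eppo.psl_orders_even hF e (m := 2 ^ n + 1) (Or.inr (Or.inr dvd_rfl))
  rcases Nat.even_or_odd' n with ⟨k, hk | hk⟩
  · have hk2 : 2 ≤ k := by omega
    have h4 : 4 ≤ 2 ^ k := by
      calc 4 = 2 ^ 2 := by norm_num
        _ ≤ 2 ^ k := Nat.pow_le_pow_right (by norm_num) hk2
    have hpow : 2 ^ n = 2 ^ k * 2 ^ k := by rw [hk, ← pow_add]; congr 1; omega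
    obtain ⟨x, hx⟩ : ∃ x, 2 ^ k = x + 1 := ⟨2 ^ k - 1, by omega⟩
    have hprod : 2 ^ n - 1 = x * (x + 2) := by
      rw [hpow, hx]
      have : (x + 1) * (x + 1) = x * (x + 2) + 1 := by ring
      omega
    have ga := H11.Eppo.psl_orders_even hF e (m := x) (Or.inr (Or.inl (by rw [hprod]; exact Dvd.intro _ rfl)))
    have gb := H11.Eppo.psl_orders_even hF e (m := x + 2) (Or.inr (Or.inl (by rw [hprod]; exact Dvd.intro_left _ rfl)))
    have hx3 : 3 ≤ x := by omega
    have hlt : x + 2 < 2 ^ n - 1 := by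
      rw [hprod]; nlinarith
    refine six h5 (a := 1) (b := 2) (c := x) (d := x + 2) (e := 2 ^ n - 1) (f := 2 ^ n + 1) ?_ g1 g2 ga gb gm gp
    simp only [List.nodup_cons, List.mem_cons, List.not_mem_nil, or_false, List.nodup_nil,
      and_true, not_false_eq_true, not_or]
    omega
  · have h3 : 3 ∣ 2 ^ n + 1 := by
      rw [hk, pow_succ, pow_mul]
      have h1 : (2 ^ 2) ^ k ≡ 1 ^ k [MOD 3] := Nat.ModEq.pow k (by decide)
      rw [one_pow] at h1
      have h2 : (2 ^ 2) ^ k * 2 + 1 ≡ 1 * 2 + 1 [MOD 3] := (h1.mul_right 2).add_right 1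
      exact Nat.modEq_zero_iff_dvd.mp (h2.trans (by decide))
    have hn5 : 5 ≤ n := by omega
    have h32 : 32 ≤ 2 ^ n := by
      calc 32 = 2 ^ 5 := by norm_num
        _ ≤ 2 ^ n := Nat.pow_le_pow_right (by norm_num) hn5
    obtain ⟨c, hc⟩ := h3
    have ga := H11.Eppo.psl_orders_even hF e (m := 3) (Or.inr (Or.inr (by rw [hc]; exact Dvd.intro _ rfl)))
    have gb := H11.Eppo.psl_orders_even hF e (m := c) (Or.inr (Or.inr (by rw [hc]; exact Dvd.intro_left _ rfl)))
    refine six h5 (a := 1) (b := 2) (c := 3) (d := c) (e := 2 ^ n - 1) (f := 2 ^ n + 1) ?_ g1 g2 ga gb gm gp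
    simp only [List.nodup_cons, List.mem_cons, List.not_mem_nil, or_false, List.nodup_nil,
      and_true, not_false_eq_true, not_or]
    omega

/-- Fermat and Mersenne primes -/
theorem psl_prime (hna : ∃ a b : M, a * b ≠ b * a)
    (h5 : Nat.card (MulAction.orbitRel.Quotient (MulAut M) M) ≤ 5)
    {F : Type} [Field F] [Fintype F] (hp : (Fintype.card F).Prime)
    (hk : ∃ k : ℕ, Fintype.card F = 2 ^ k + 1 ∨ Fintype.card F + 1 = 2 ^ k)
    (e : M ≃* Matrix.ProjectiveSpecialLinearGroup (Fin 2) F) :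
    Nonempty (M ≃* ↥(alternatingGroup (Fin 5))) ∨ Fintype.card F = 7 := by
  have hq2 : Fintype.card F ≠ 2 := by
    intro hq2
    have h6 := H11.Eppo.card_psl_two hq2 e
    exact H11.Eppo.false_of_solvable_card hna Nat.prime_two Nat.prime_three (a := 1) (b := 1)
      (by rw [h6]; norm_num)
  have hq3 : Fintype.card F ≠ 3 := by
    intro hq3
    have h6 := H11.Eppo.card_psl_three hq3 e
    exact H11.Eppo.false_of_solvable_card hna Nat.prime_two Nat.prime_three (a := 2) (b := 1)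
      (by rw [h6]; norm_num)
  by_cases hq5 : Fintype.card F = 5
  · left
    obtain ⟨e2⟩ := H6.SmallIsoA.psl2_five hq5
    exact ⟨e.trans e2⟩
  by_cases hq7 : Fintype.card F = 7
  · exact Or.inr hq7
  exfalso
  have hq9 : Fintype.card F ≠ 9 := by
    intro h; rw [h] at hp; exact absurd hp (by norm_num)
  have hq4 : Fintype.card F ≠ 4 := by
    intro h; rw [h] at hp; exact absurd hp (by norm_num)
  have g1 : ∃ g : M, orderOf g = 1 := ⟨1, orderOf_one⟩
  have gq := H11.Eppo.psl_orders_prime hp rfl hq2 e (m := Fintype.card F) (Or.inl dvd_rfl)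
  have h2le := hp.two_le
  obtain ⟨k, hk | hk⟩ := hk
  · have hk4 : 4 ≤ k := by
      by_contra h
      have : k = 0 ∨ k = 1 ∨ k = 2 ∨ k = 3 := by omega
      rcases this with rfl | rfl | rfl | rfl <;> norm_num at hk <;> omega
    obtain ⟨j, rfl⟩ : ∃ j, k = j + 4 := ⟨k - 4, by omega⟩
    have hpow : 2 ^ (j + 4) = 16 * 2 ^ j := by ring
    have hj : 1 ≤ 2 ^ j := Nat.one_le_two_pow
    have hhalf : (Fintype.card F - 1) / 2 = 8 * 2 ^ j := by omega
    have hhalf2 : (Fintype.card F + 1) / 2 = 8 * 2 ^ j + 1 := by omega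
    have ho : ∀ m, m ∣ 8 → ∃ g : M, orderOf g = m := by
      intro m hm
      apply H11.Eppo.psl_orders_prime hp rfl hq2 e
      right; left
      rw [hhalf]
      exact Dvd.dvd.mul_right hm _
    have gh := H11.Eppo.psl_orders_prime hp rfl hq2 e (m := 8 * 2 ^ j + 1)
      (Or.inr (Or.inr (by rw [hhalf2])))
    refine six h5 (a := 1) (b := 2) (c := 4) (d := 8) (e := 8 * 2 ^ j + 1) (f := Fintype.card F) ?_ g1
      (ho 2 (by norm_num)) (ho 4 (by norm_num)) (ho 8 (by norm_num)) gh gq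
    simp only [List.nodup_cons, List.mem_cons, List.not_mem_nil, or_false, List.nodup_nil,
      and_true, not_false_eq_true, not_or]
    omega
  · have hk4 : 4 ≤ k := by
      by_contra h
      have : k = 0 ∨ k = 1 ∨ k = 2 ∨ k = 3 := by omega
      rcases this with rfl | rfl | rfl | rfl <;> norm_num at hk <;> omega
    obtain ⟨j, rfl⟩ : ∃ j, k = j + 4 := ⟨k - 4, by omega⟩
    have hpow : 2 ^ (j + 4) = 16 * 2 ^ j := by ring
    have hj : 1 ≤ 2 ^ j := Nat.one_le_two_pow
    have hhalf : (Fintype.card F + 1) / 2 = 8 * 2 ^ j := by omega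
    have hhalf2 : (Fintype.card F - 1) / 2 = 8 * 2 ^ j - 1 := by omega
    have ho : ∀ m, m ∣ 8 → ∃ g : M, orderOf g = m := by
      intro m hm
      apply H11.Eppo.psl_orders_prime hp rfl hq2 e
      right; right
      rw [hhalf]
      exact Dvd.dvd.mul_right hm _
    have gh := H11.Eppo.psl_orders_prime hp rfl hq2 e (m := 8 * 2 ^ j - 1)
      (Or.inr (Or.inl (by rw [hhalf2])))
    refine six h5 (a := 1) (b := 2) (c := 4) (d := 8) (e := 8 * 2 ^ j - 1) (f := Fintype.card F) ?_ g1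
      (ho 2 (by norm_num)) (ho 4 (by norm_num)) (ho 8 (by norm_num)) gh gq
    simp only [List.nodup_cons, List.mem_cons, List.not_mem_nil, or_false, List.nodup_nil,
      and_true, not_false_eq_true, not_or]
    omega

omit [IsSimpleGroup M] in
/-- three odd primes and an element of order 4 -/
theorem no_three (h5 : Nat.card (MulAction.orbitRel.Quotient (MulAut M) M) ≤ 5)
    (h4 : ∃ g : M, orderOf g = 4) {a b c : ℕ} (ha : a.Prime) (hb : b.Prime) (hc : c.Prime)
    (ha2 : a ≠ 2) (hb2 : b ≠ 2) (hc2 : c ≠ 2) (hab : a ≠ b) (hac : a ≠ c) (hbc : b ≠ c)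
    (hda : a ∣ Nat.card M) (hdb : b ∣ Nat.card M) (hdc : c ∣ Nat.card M) : False := by
  have g1 : ∃ g : M, orderOf g = 1 := ⟨1, orderOf_one⟩
  have g2 : ∃ g : M, orderOf g = 2 := by
    obtain ⟨g, hg⟩ := h4
    refine ⟨g ^ 2, ?_⟩
    rw [orderOf_pow_of_dvd (by norm_num) (by rw [hg]; norm_num), hg]
  have n4 : ∀ l : ℕ, l.Prime → l ≠ 4 := by
    rintro l hl rfl
    exact absurd hl (by norm_num)
  have := n4 a ha
  have := n4 b hb
  have := n4 c hc
  have := ha.two_le
  have := hb.two_le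
  have := hc.two_le
  refine six h5 (a := 1) (b := 2) (c := 4) (d := a) (e := b) (f := c) ?_ g1 g2 h4
    (H11.Eppo.exists_order_prime ha hda) (H11.Eppo.exists_order_prime hb hdb)
    (H11.Eppo.exists_order_prime hc hdc)
  simp only [List.nodup_cons, List.mem_cons, List.not_mem_nil, or_false, List.nodup_nil,
    and_true, not_false_eq_true, not_or]
  omega

/-- three primes dividing the order of a Suzuki group -/
theorem suzuki_primes {m : ℕ} (hm : 1 ≤ m) : ∃ a b c : ℕ, a.Prime ∧ b.Prime ∧ c.Prime ∧ a ≠ 2 ∧ b ≠ 2 ∧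
    c ≠ 2 ∧ a ≠ b ∧ a ≠ c ∧ b ≠ c ∧ a ∣ 2 ^ (2 * m + 1) - 1 ∧ b ∣ (2 ^ (2 * m + 1)) ^ 2 + 1 ∧
    c ∣ (2 ^ (2 * m + 1)) ^ 2 + 1 := by
  set r := 2 ^ (m + 1) with hr
  set q := 2 ^ (2 * m + 1) with hq
  have hrr : r * r = 2 * q := by
    rw [hr, hq, ← pow_add, ← pow_succ']; congr 1; omega
  have hq8 : 8 ≤ q := by
    rw [hq]
    calc 8 = 2 ^ 3 := by norm_num
      _ ≤ 2 ^ (2 * m + 1) := Nat.pow_le_pow_right (by norm_num) (by omega)
  have hr4 : 4 ≤ r := by
    rw [hr]
    calc 4 = 2 ^ 2 := by norm_num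
      _ ≤ 2 ^ (m + 1) := Nat.pow_le_pow_right (by norm_num) (by omega)
  have hrq : r < q := by nlinarith
  have hqe : 2 ∣ q := by rw [hq]; exact dvd_pow_self 2 (by omega)
  have hre : 2 ∣ r := by rw [hr]; exact dvd_pow_self 2 (by omega)
  obtain ⟨s, hs⟩ : ∃ s, q = r + s := ⟨q - r, by omega⟩
  have hfac : q ^ 2 + 1 = (s + 1) * (q + r + 1) := by
    have h1 : r * r = 2 * (r + s) := by rw [hrr, hs]
    rw [hs]
    nlinarith
  obtain ⟨a, ha, had⟩ := Nat.exists_prime_and_dvd (n := q - 1) (by omega)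
  obtain ⟨b, hb, hbd⟩ := Nat.exists_prime_and_dvd (n := s + 1) (by omega)
  obtain ⟨c, hc, hcd⟩ := Nat.exists_prime_and_dvd (n := q + r + 1) (by omega)
  have hbq : b ∣ q ^ 2 + 1 := by rw [hfac]; exact Dvd.dvd.mul_right hbd _
  have hcq : c ∣ q ^ 2 + 1 := by rw [hfac]; exact Dvd.dvd.mul_left hcd _
  have ha2 : a ≠ 2 := by rintro rfl; omega
  have hb2 : b ≠ 2 := by rintro rfl; omega
  have hc2 : c ≠ 2 := by rintro rfl; omega
  have key : ∀ l : ℕ, l.Prime → l ∣ q - 1 → l ∣ q ^ 2 + 1 → l = 2 := by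
    intro l hl h1 h2
    have h3 : l ∣ (q + 1) * (q - 1) := Dvd.dvd.mul_left h1 _
    have h4 : q ^ 2 + 1 - (q + 1) * (q - 1) = 2 := by
      obtain ⟨x, hx⟩ : ∃ x, q = x + 1 := ⟨q - 1, by omega⟩
      rw [hx, Nat.add_sub_cancel]
      have : (x + 1) ^ 2 + 1 = (x + 1 + 1) * x + 2 := by ring
      omega
    have h5 := Nat.dvd_sub h2 h3
    rw [h4] at h5
    exact (Nat.prime_dvd_prime_iff_eq hl Nat.prime_two).mp h5
  refine ⟨a, b, c, ha, hb, hc, ha2, hb2, hc2, ?_, ?_, ?_, had, hbq, hcq⟩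
  · rintro rfl; exact ha2 (key a ha had hbq)
  · rintro rfl; exact ha2 (key a ha had hcq)
  · rintro rfl
    have h1 : q + r + 1 - (s + 1) = 2 * r := by omega
    have h2 := Nat.dvd_sub hcd hbd
    rw [h1] at h2
    have h3 : 2 * r = 2 ^ (m + 2) := by rw [hr]; ring
    rw [h3] at h2
    exact hb2 ((Nat.prime_dvd_prime_iff_eq hb Nat.prime_two).mp (hb.dvd_of_dvd_pow h2))

end lists

end H73.Orb
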