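import Mathlib
import Cfsg.Agent.Lib.H73.Orb14
import Cfsg.Agent.S0348
import Cfsg.Agent.S0205

/-!
Finite simple groups whose automorphism group has at most five orbits on elements (S3406).
-/

set_option autoImplicit false

open Subgroup Cfsg
open scoped Pointwise

namespace H73.Orb

variable {G : Type*} [Group G] [Finite G] [IsSimpleGroup G]

theorem not_solv (hna : ∃ a b : G, a * b ≠ b * a) : ¬ Group.IsSolvable G := by
  intro hs
  obtain ⟨x, y, hxy⟩ := hna
  exact hxy (IsSimpleGroup.comm_iff_isSolvable.mpr hs x y)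

theorem even_order (hna : ∃ a b : G, a * b ≠ b * a) : 2 ∣ Nat.card G := by
  by_contra h
  apply not_solv hna
  apply Cfsg.Agent.S0205.result
  rw [← Nat.not_even_iff_odd, even_iff_two_dvd]
  exact h

theorem sylow_facts (hna : ∃ a b : G, a * b ≠ b * a) (T : Sylow 2 G) :
    (T : Subgroup G) ≠ ⊥ ∧ (T : Subgroup G) ≠ ⊤ ∧ ¬ IsCyclic (T : Subgroup G) := by
  haveI : Fact (Nat.Prime 2) := ⟨Nat.prime_two⟩
  have h2 := even_order hna
  have hbot : (T : Subgroup G) ≠ ⊥ := by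
    intro h1
    have h3 := T.dvd_card_of_dvd_card h2
    rw [h1, card_bot] at h3
    omega
  have htop : (T : Subgroup G) ≠ ⊤ := by
    intro h1
    apply not_solv hna
    apply solv_of_two_primes Nat.prime_two Nat.prime_two
    intro l hl hld
    left
    obtain ⟨k, hk⟩ := IsPGroup.iff_card.mp T.isPGroup'
    change Nat.card (T : Subgroup G) = 2 ^ k at hk
    rw [h1, card_top] at hk
    rw [hk] at hld
    exact (Nat.prime_dvd_prime_iff_eq hl Nat.prime_two).mp (hl.dvd_of_dvd_pow hld)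
  refine ⟨hbot, htop, ?_⟩
  intro hcyc
  have hmin : (Nat.card G).minFac = 2 := by
    rw [Nat.minFac_eq_two_iff]; exact h2
  have h1 := hcyc.isComplement' hmin
  rcases (inferInstance : (MonoidHom.transferSylow T (hcyc.normalizer_le_centralizer hmin)).ker.Normal).eq_bot_or_eq_top with h3 | h3
  · rw [h3] at h1
    exact htop (isComplement'_bot_left.mp h1)
  · rw [h3] at h1
    exact hbot (isComplement'_top_left.mp h1)

theorem caseB (hna : ∃ a b : G, a * b ≠ b * a)
    (h5 : Nat.card (MulAction.orbitRel.Quotient (MulAut G) G) ≤ 5) {t : G} (ht : orderOf t = 2)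
    (hC : ¬ IsPGroup 2 (centralizer ({t} : Set G))) : False := by
  haveI : Fact (Nat.Prime 2) := ⟨Nat.prime_two⟩
  obtain ⟨p, hp, hpd, hp2⟩ : ∃ p : ℕ, p.Prime ∧ p ∣ Nat.card (centralizer ({t} : Set G)) ∧ p ≠ 2 := by
    by_contra hcon
    push Not at hcon
    apply hC
    apply IsPGroup.of_card (n := (Nat.card (centralizer ({t} : Set G))).primeFactorsList.length)
    apply Nat.eq_prime_pow_of_unique_prime_dvd Nat.card_pos.ne'
    intro d hd hdd
    exact hcon d hd hdd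
  haveI : Fact p.Prime := ⟨hp⟩
  obtain ⟨x, hx⟩ := exists_prime_orderOf_dvd_card' p hpd
  rw [← Subgroup.orderOf_coe] at hx
  have hc : Commute t x := mem_centralizer_iff.mp x.2 t rfl
  have htx : orderOf (t * x) = 2 * p := by
    rw [hc.orderOf_mul_eq_mul_orderOf_of_coprime (by
      rw [ht, hx]; exact (Nat.coprime_primes Nat.prime_two hp).mpr hp2.symm), ht, hx]
  obtain ⟨q, hq, hqd, hq2, hqp⟩ : ∃ q : ℕ, q.Prime ∧ q ∣ Nat.card G ∧ q ≠ 2 ∧ q ≠ p := by
    by_contra hcon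
    push Not at hcon
    apply not_solv hna
    apply solv_of_two_primes Nat.prime_two hp
    intro l hl hld
    by_cases h2 : l = 2
    · exact Or.inl h2
    · exact Or.inr (hcon l hl hld h2)
  haveI : Fact q.Prime := ⟨hq⟩
  obtain ⟨y, hy⟩ := exists_prime_orderOf_dvd_card' q hqd
  have hp2' := hp.two_le
  have hq2' := hq.two_le
  have hq2p : q ≠ 2 * p := by
    intro h1
    apply hq2
    have : 2 ∣ q := ⟨p, h1⟩
    exact ((Nat.prime_dvd_prime_iff_eq Nat.prime_two hq).mp this).symm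
  obtain ⟨h6, h7⟩ := of_five h5 [1, 2, p, q, 2 * p] (by
    simp only [List.nodup_cons, List.mem_cons, List.not_mem_nil, or_false, List.nodup_nil,
      and_true, not_false_eq_true, not_or]
    omega) rfl (by
    intro n hn
    simp only [List.mem_cons, List.not_mem_nil, or_false] at hn
    rcases hn with rfl | rfl | rfl | rfl | rfl
    · exact ⟨1, orderOf_one⟩
    · exact ⟨t, ht⟩
    · exact ⟨x, hx⟩
    · exact ⟨y, hy⟩
    · exact ⟨t * x, htx⟩)
  have hSp : Sp G p q := ⟨hp, hq, hp2, hq2, hqp.symm, by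
    intro g
    have := h6 g
    simpa using this, ⟨_, htx⟩, ⟨_, hy⟩, h7⟩
  exact hSp.false

/-- no elements of order 4 -/
theorem case_no4 (hna : ∃ a b : G, a * b ≠ b * a)
    (h5 : Nat.card (MulAction.orbitRel.Quotient (MulAut G) G) ≤ 5)
    (hC : ∀ t : G, orderOf t = 2 → IsPGroup 2 (centralizer ({t} : Set G)))
    (h4 : ¬ ∃ g : G, orderOf g = 4) :
    Nonempty (G ≃* ↥(alternatingGroup (Fin 5))) ∨
      (∃ (F : Type) (_ : Field F) (_ : Fintype F), Fintype.card F = 8 ∧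
        Nonempty (G ≃* Matrix.ProjectiveSpecialLinearGroup (Fin 2) F)) := by
  haveI : Fact (Nat.Prime 2) := ⟨Nat.prime_two⟩
  obtain ⟨T⟩ : Nonempty (Sylow 2 G) := inferInstance
  obtain ⟨hT1, hT2, hT3⟩ := sylow_facts hna T
  have hsq : ∀ g : G, (∃ k : ℕ, g ^ 2 ^ k = 1) → g ^ 2 = 1 := by
    rintro g ⟨k, hk⟩
    have h1 : orderOf g ∣ 2 ^ k := orderOf_dvd_of_pow_eq_one hk
    obtain ⟨j, -, hj⟩ := (Nat.dvd_prime_pow Nat.prime_two).mp h1
    rcases Nat.lt_or_ge j 2 with h2 | h2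
    · apply orderOf_dvd_iff_pow_eq_one.mp
      rw [hj]
      calc 2 ^ j ∣ 2 ^ 1 := pow_dvd_pow 2 (by omega)
        _ = 2 := by norm_num
    · exfalso
      apply h4
      refine ⟨g ^ 2 ^ (j - 2), ?_⟩
      rw [orderOf_pow_of_dvd (by positivity) (by rw [hj]; exact pow_dvd_pow 2 (by omega)), hj]
      rw [Nat.pow_div (by omega) (by norm_num)]
      have : j - (j - 2) = 2 := by omega
      rw [this]
  obtain ⟨F, i1, i2, hF, ⟨e⟩⟩ := Cfsg.Agent.S1230.result T hT3 (by
    intro hn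
    rcases hn.eq_bot_or_eq_top with h1 | h1
    · exact hT1 h1
    · exact hT2 h1) (by
    intro t ht
    have hexp : ∀ c ∈ centralizer ({t} : Set G), c ^ 2 = 1 := by
      intro c hc
      obtain ⟨k, hk⟩ := hC t ht ⟨c, hc⟩
      exact hsq c ⟨k, by simpa using congrArg Subtype.val hk⟩
    refine ⟨⟨⟨?_⟩⟩, hexp⟩
    rintro ⟨a, ha⟩ ⟨b, hb⟩
    ext
    have h1 := hexp a ha
    have h2 := hexp b hb
    have h3 := hexp (a * b) (mul_mem ha hb)
    rw [pow_two] at h1 h2 h3
    have e4 : a⁻¹ = a := inv_eq_of_mul_eq_one_left h1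
    have e5 : b⁻¹ = b := inv_eq_of_mul_eq_one_left h2
    have e6 : (a * b)⁻¹ = a * b := inv_eq_of_mul_eq_one_left h3
    rw [mul_inv_rev, e4, e5] at e6
    exact e6.symm)
  obtain ⟨n, hn⟩ := IsPGroup.iff_card.mp T.isPGroup'
  change Nat.card T = 2 ^ n at hn
  rw [hn] at hF
  rcases psl_even hna h5 hF e with h1 | h1
  · exact Or.inl h1
  · exact Or.inr ⟨F, i1, i2, h1, ⟨e⟩⟩

theorem main (hG : ¬ IsMulCommutative G)
    (h5 : Nat.card (MulAction.orbitRel.Quotient (MulAut G) G) ≤ 5) :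
    Nonempty (G ≃* ↥(alternatingGroup (Fin 5))) ∨ Nonempty (G ≃* ↥(alternatingGroup (Fin 6))) ∨
      (∃ (F : Type) (_ : Field F) (_ : Fintype F), (Fintype.card F = 7 ∨ Fintype.card F = 8) ∧
        Nonempty (G ≃* Matrix.ProjectiveSpecialLinearGroup (Fin 2) F)) := by
  have hna : ∃ a b : G, a * b ≠ b * a := by
    by_contra hcon
    push Not at hcon
    exact hG ⟨⟨hcon⟩⟩
  have hC : ∀ t : G, orderOf t = 2 → IsPGroup 2 (centralizer ({t} : Set G)) := by
    intro t ht
    by_contra h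
    exact caseB hna h5 ht h
  by_cases h4 : ∃ g : G, orderOf g = 4
  · rcases Cfsg.Agent.S0348.result hna hC with ⟨F, i1, i2, hF, ⟨e⟩⟩ | ⟨F, i1, i2, hF, ⟨e⟩⟩ | ⟨-, m, hm, hcard⟩
    · rcases hF with hF | ⟨n, hF⟩ | ⟨hp, hk⟩
      · obtain ⟨e2⟩ := H6.SmallIsoB.psl2_nine hF
        exact Or.inr (Or.inl ⟨e.trans e2⟩)
      · rcases psl_even hna h5 hF e with h1 | h1
        · exact Or.inl h1
        · exact Or.inr (Or.inr ⟨F, i1, i2, Or.inr h1, ⟨e⟩⟩)
      · rcases psl_prime hna h5 hp hk e with h1 | h1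
        · exact Or.inl h1
        · exact Or.inr (Or.inr ⟨F, i1, i2, Or.inl h1, ⟨e⟩⟩)
    · exfalso
      have hc := H11.Eppo.card_psl3_four hF e
      exact no_three h5 h4 (a := 3) (b := 5) (c := 7) (by norm_num) (by norm_num) (by norm_num)
        (by norm_num) (by norm_num) (by norm_num) (by norm_num) (by norm_num) (by norm_num)
        (by rw [hc]; norm_num) (by rw [hc]; norm_num) (by rw [hc]; norm_num)
    · exfalso
      obtain ⟨a, b, c, ha, hb, hc, ha2, hb2, hc2, hab, hac, hbc, hda, hdb, hdc⟩ := suzuki_primes hm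
      refine no_three h5 h4 ha hb hc ha2 hb2 hc2 hab hac hbc ?_ ?_ ?_
      · rw [hcard]; exact Dvd.dvd.mul_left hda _
      · rw [hcard, mul_assoc]; exact Dvd.dvd.mul_left (Dvd.dvd.mul_right hdb _) _
      · rw [hcard, mul_assoc]; exact Dvd.dvd.mul_left (Dvd.dvd.mul_right hdc _) _
  · rcases case_no4 hna h5 hC h4 with h1 | ⟨F, i1, i2, h1, h2⟩
    · exact Or.inl h1
    · exact Or.inr (Or.inr ⟨F, i1, i2, Or.inr h1, h2⟩)

end H73.Orb
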