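import Mathlib
import Cfsg.Agent.Lib.H55.BaerSuzuki

/-! S3930: Brauer's permutation lemma for a finite abelian group and its dual. -/

set_option autoImplicit false

namespace H73.Pyr

/-- the dual group -/
structure Dual (E : Type*) [CommGroup E] where
  /-- the character -/
  hom : E →* ℂˣ

section dual

variable {A E : Type*} [Group A] [CommGroup E] [MulDistribMulAction A E]

/-- evaluation -/
def ev (l : Dual E) (x : E) : ℂˣ := l.hom x

theorem ev_mul (l : Dual E) (x y : E) : ev l (x * y) = ev l x * ev l y := map_mul l.hom x y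

theorem ev_one (l : Dual E) : ev l 1 = 1 := map_one l.hom

theorem ev_inv (l : Dual E) (x : E) : ev l x⁻¹ = (ev l x)⁻¹ := map_inv l.hom x

theorem ext_ev {l m : Dual E} (h : ∀ x, ev l x = ev m x) : l = m := by
  cases l; cases m
  congr 1
  exact MonoidHom.ext h

noncomputable instance : MulAction A (Dual E) where
  smul a l := ⟨MonoidHom.comp l.hom (MulDistribMulAction.toMonoidHom E a⁻¹)⟩
  one_smul l := by
    apply ext_ev; intro x
    change l.hom ((1 : A)⁻¹ • x) = _
    rw [inv_one, one_smul]
    rfl
  mul_smul a b l := by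
    apply ext_ev; intro x
    change l.hom ((a * b)⁻¹ • x) = l.hom (b⁻¹ • a⁻¹ • x)
    rw [mul_inv_rev, mul_smul]

theorem ev_smul (a : A) (l : Dual E) (x : E) : ev (a • l) x = ev l (a⁻¹ • x) := rfl

/-- `Dual E` is the group of characters -/
def dualEquiv : Dual E ≃ (E →* ℂˣ) where
  toFun l := l.hom
  invFun m := ⟨m⟩
  left_inv _ := rfl
  right_inv _ := rfl

variable [Finite E]

instance : Finite (Dual E) := Finite.of_equiv _ (dualEquiv (E := E)).symm

theorem card_dual (H : Type*) [CommGroup H] [Finite H] : Nat.card (H →* ℂˣ) = Nat.card H := by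
  exact CommGroup.card_monoidHom_of_hasEnoughRootsOfUnity H ℂ

/-- the commutator homomorphism -/
def del (b : A) : E →* E where
  toFun x := (b⁻¹ • x) * x⁻¹
  map_one' := by simp
  map_mul' x y := by
    rw [smul_mul', mul_inv_rev]
    rw [mul_comm y⁻¹ x⁻¹]
    exact mul_mul_mul_comm _ _ _ _

theorem card_ann (D : Subgroup E) :
    Nat.card {l : Dual E // ∀ x ∈ D, ev l x = 1} = Nat.card (E ⧸ D) := by
  rw [← card_dual (E ⧸ D)]
  refine Nat.card_congr ⟨fun l => QuotientGroup.lift D l.1.hom (fun x hx => l.2 x hx),
    fun m => ⟨⟨m.comp (QuotientGroup.mk' D)⟩, fun x hx => ?_⟩, fun l => ?_, fun m => ?_⟩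
  · change m (QuotientGroup.mk' D x) = 1
    have : QuotientGroup.mk' D x = 1 := by simpa using hx
    rw [this, map_one]
  · apply Subtype.ext
    apply ext_ev; intro x
    rfl
  · apply MonoidHom.ext; intro x
    obtain ⟨x, rfl⟩ := QuotientGroup.mk_surjective x
    rfl

theorem card_fixed (b : A) :
    Nat.card (MulAction.fixedBy (Dual E) b) = Nat.card (MulAction.fixedBy E b) := by
  have h1 : Nat.card (MulAction.fixedBy (Dual E) b) =
      Nat.card {l : Dual E // ∀ x ∈ (del (E := E) b).range, ev l x = 1} := by
    apply Nat.card_congr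
    refine Equiv.subtypeEquivRight (fun l => ?_)
    constructor
    · rintro hl x ⟨y, rfl⟩
      have h2 : ev (b • l) y = ev l y := by rw [show b • l = l from hl]
      rw [ev_smul] at h2
      change ev l ((b⁻¹ • y) * y⁻¹) = 1
      rw [ev_mul, ev_inv, h2, mul_inv_cancel]
    · intro hl
      change b • l = l
      apply ext_ev
      intro y
      rw [ev_smul]
      have h2 := hl ((b⁻¹ • y) * y⁻¹) ⟨y, rfl⟩
      rw [ev_mul, ev_inv, mul_inv_eq_one] at h2
      exact h2
  rw [h1, card_ann]
  have h3 : Nat.card (E ⧸ (del (E := E) b).range) * Nat.card (del (E := E) b).range = Nat.card E :=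
    (Subgroup.card_eq_card_quotient_mul_card_subgroup _).symm
  have h4 : Nat.card (del (E := E) b).ker * Nat.card (del (E := E) b).range = Nat.card E := by
    rw [mul_comm, ← Subgroup.index_ker]
    exact Subgroup.index_mul_card _
  have h5 : 0 < Nat.card (del (E := E) b).range := Nat.card_pos
  have h6 : Nat.card (E ⧸ (del (E := E) b).range) = Nat.card (del (E := E) b).ker :=
    Nat.eq_of_mul_eq_mul_right h5 (h3.trans h4.symm)
  rw [h6]
  apply Nat.card_congr
  refine Equiv.subtypeEquivRight (fun x => ?_)
  constructor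
  · intro hx
    have h7 : (b⁻¹ • x) * x⁻¹ = 1 := hx
    rw [mul_inv_eq_one] at h7
    change b • x = x
    nth_rw 1 [← h7]
    rw [smul_inv_smul]
  · intro hx
    change (b⁻¹ • x) * x⁻¹ = 1
    rw [mul_inv_eq_one, inv_smul_eq_iff]
    exact (show b • x = x from hx).symm

variable [Finite A]

/-- Brauer's permutation lemma -/
theorem card_orbits :
    Nat.card (Quotient (MulAction.orbitRel A (Dual E))) =
      Nat.card (Quotient (MulAction.orbitRel A E)) := by
  classical
  have := Fintype.ofFinite A
  have := Fintype.ofFinite E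
  have := Fintype.ofFinite (Dual E)
  have h1 := MulAction.sum_card_fixedBy_eq_card_orbits_mul_card_group A (Dual E)
  have h2 := MulAction.sum_card_fixedBy_eq_card_orbits_mul_card_group A E
  have h3 : ∀ b : A, Fintype.card (MulAction.fixedBy (Dual E) b) =
      Fintype.card (MulAction.fixedBy E b) := by
    intro b
    rw [← Nat.card_eq_fintype_card, ← Nat.card_eq_fintype_card, card_fixed]
  rw [Finset.sum_congr rfl (fun b _ => h3 b), h2] at h1
  have h4 : 0 < Fintype.card A := Fintype.card_pos
  have h5 := Nat.eq_of_mul_eq_mul_right h4 h1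
  rw [Nat.card_eq_fintype_card, Nat.card_eq_fintype_card, h5]

end dual

end H73.Pyr
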