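import Mathlib
import Cfsg.Agent.Lib.H73.PyrLin1

/-! S3930: stabilisers of points are transitive on the characters killing the point. -/

set_option autoImplicit false

namespace H73.Pyr

/-- 2-transitive on the non-identity elements -/
def T2 (A E : Type*) [Group A] [CommGroup E] [MulDistribMulAction A E] : Prop :=
  ∀ e f e' f' : E, e ≠ 1 → f ≠ 1 → e ≠ f → e' ≠ 1 → f' ≠ 1 → e' ≠ f' →
    ∃ a : A, a • e = e' ∧ a • f = f'

variable {A E : Type*} [Group A] [CommGroup E] [MulDistribMulAction A E] [Finite E] [Finite A]

omit [Finite A] in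
theorem exists_ne {D : Subgroup E} (hD : D ≠ ⊥) : ∃ l : Dual E, ∃ x ∈ D, ev l x ≠ 1 := by
  by_contra hcon
  push_neg at hcon
  have h1 : Nat.card {l : Dual E // ∀ x ∈ D, ev l x = 1} = Nat.card (Dual E) := by
    apply Nat.card_congr
    exact ⟨fun l => l.1, fun l => ⟨l, hcon l⟩, fun l => rfl, fun l => rfl⟩
  rw [card_ann, Nat.card_congr (dualEquiv (E := E)), card_dual] at h1
  have h2 := Subgroup.card_eq_card_quotient_mul_card_subgroup D
  have h3 : 1 < Nat.card D := by
    rw [Subgroup.one_lt_card_iff_ne_bot]; exact hD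
  have h4 : 0 < Nat.card (E ⧸ D) := Nat.card_pos
  rw [h1] at h2 h4
  nlinarith

omit [Finite A] in
theorem exists_of_ne_one {e : E} (he : e ≠ 1) : ∃ l : Dual E, ev l e ≠ 1 := by
  obtain ⟨l, x, hx, h⟩ := exists_ne (D := Subgroup.zpowers e) (by simpa using he)
  refine ⟨l, fun h1 => h ?_⟩
  obtain ⟨k, rfl⟩ := hx
  change l.hom (e ^ k) = 1
  rw [map_zpow]
  have : l.hom e = 1 := h1
  rw [this, one_zpow]

omit [Finite A] in
/-- a proper subgroup is killed by a nontrivial character -/
theorem exists_ann {D : Subgroup E} (hD : D ≠ ⊤) :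
    ∃ l : Dual E, (∀ x ∈ D, ev l x = 1) ∧ ∃ x, ev l x ≠ 1 := by
  obtain ⟨x, hx⟩ : ∃ x, x ∉ D := by
    by_contra hcon
    push_neg at hcon
    exact hD (by rw [eq_top_iff]; intro y _; exact hcon y)
  have h1 : (QuotientGroup.mk' D x) ≠ 1 := by
    intro h
    exact hx (by simpa using h)
  obtain ⟨l, hl⟩ := exists_of_ne_one (E := E ⧸ D) h1
  refine ⟨⟨l.hom.comp (QuotientGroup.mk' D)⟩, ?_, x, hl⟩
  intro y hy
  change l.hom (QuotientGroup.mk' D y) = 1
  have : QuotientGroup.mk' D y = 1 := by simpa using hy
  rw [this, map_one]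

open Classical in
/-- invariant of a point -/
noncomputable def c1 (e x : E) : Fin 3 := if x = 1 then 0 else if x = e then 1 else 2

open Classical in
/-- invariant of a character -/
noncomputable def c2 (e : E) (l : Dual E) : Fin 3 :=
  if (∀ x, ev l x = 1) then 0 else if ev l e = 1 then 1 else 2

theorem trans_ann (hT : T2 A E) (e : E) (he : e ≠ 1)
    (l m : Dual E) (hl : ∃ x, ev l x ≠ 1) (hm : ∃ x, ev m x ≠ 1) (hle : ev l e = 1)
    (hme : ev m e = 1) : ∃ a : A, a • e = e ∧ a • l = m := by
  classical
  set B := MulAction.stabilizer A e with hB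
  have hBe : ∀ b : B, (b : A) • e = e := fun b => b.2
  -- orbits on points
  have hq1 : ∀ x y : E, MulAction.orbitRel B E x y → c1 e x = c1 e y := by
    rintro x y ⟨b, hb⟩
    have hb' : (b : A) • y = x := hb
    have h1 : x = 1 ↔ y = 1 := by
      rw [← hb']
      constructor
      · intro h
        rw [smul_eq_iff_eq_inv_smul, smul_one] at h
        exact h
      · intro h; rw [h, smul_one]
    have h2 : x = e ↔ y = e := by
      rw [← hb']
      constructor
      · intro h
        have h3 := hBe b
        exact smul_left_cancel (b : A) (h.trans h3.symm)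
      · intro h; rw [h]; exact hBe b
    unfold c1
    simp only [h1, h2]
  let F1 : Quotient (MulAction.orbitRel B E) → Fin 3 := Quotient.lift (c1 e) hq1
  have hF1 : Function.Injective F1 := by
    intro X Y hXY
    induction X using Quotient.inductionOn with
    | h x =>
    induction Y using Quotient.inductionOn with
    | h y =>
    have h1 : c1 e x = c1 e y := hXY
    apply Quotient.sound
    change MulAction.orbitRel B E x y
    unfold c1 at h1
    by_cases hx1 : x = 1
    · by_cases hy1 : y = 1
      · rw [hx1, hy1]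
      · rw [if_pos hx1, if_neg hy1] at h1
        by_cases hye : y = e
        · rw [if_pos hye] at h1; exact absurd h1 (by decide)
        · rw [if_neg hye] at h1; exact absurd h1 (by decide)
    · rw [if_neg hx1] at h1
      by_cases hy1 : y = 1
      · rw [if_pos hy1] at h1
        by_cases hxe : x = e
        · rw [if_pos hxe] at h1; exact absurd h1 (by decide)
        · rw [if_neg hxe] at h1; exact absurd h1 (by decide)
      · rw [if_neg hy1] at h1
        by_cases hxe : x = e
        · by_cases hye : y = e
          · rw [hxe, hye]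
          · rw [if_pos hxe, if_neg hye] at h1; exact absurd h1 (by decide)
        · by_cases hye : y = e
          · rw [if_neg hxe, if_pos hye] at h1; exact absurd h1 (by decide)
          · obtain ⟨a, ha1, ha2⟩ := hT e y e x he hy1 (fun h => hye h.symm) he hx1
              (fun h => hxe h.symm)
            exact ⟨⟨a, ha1⟩, ha2⟩
  have hc1 : Nat.card (Quotient (MulAction.orbitRel B E)) ≤ 3 := by
    have := Nat.card_le_card_of_injective F1 hF1
    simpa using this
  -- orbits on characters
  have hq2 : ∀ x y : Dual E, MulAction.orbitRel B (Dual E) x y → c2 e x = c2 e y := by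
    rintro x y ⟨b, hb⟩
    have hb' : (b : A) • y = x := hb
    have h1 : (∀ z, ev x z = 1) ↔ (∀ z, ev y z = 1) := by
      rw [← hb']
      constructor
      · intro h z
        have h3 := h ((b : A) • z)
        rw [ev_smul, inv_smul_smul] at h3
        exact h3
      · intro h z
        rw [ev_smul]; exact h _
    have h2 : ev x e = 1 ↔ ev y e = 1 := by
      rw [← hb', ev_smul]
      have h3 : (b : A)⁻¹ • e = e := by
        rw [inv_smul_eq_iff]; exact (hBe b).symm
      rw [h3]
    unfold c2
    simp only [h1, h2]
  let F2 : Quotient (MulAction.orbitRel B (Dual E)) → Fin 3 := Quotient.lift (c2 e) hq2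
  have hF2 : Function.Surjective F2 := by
    intro i
    fin_cases i
    · refine ⟨Quotient.mk _ ⟨1⟩, ?_⟩
      change c2 e ⟨1⟩ = 0
      unfold c2
      rw [if_pos]
      intro x; rfl
    · refine ⟨Quotient.mk _ l, ?_⟩
      change c2 e l = 1
      unfold c2
      rw [if_neg, if_pos hle]
      push_neg; exact hl
    · obtain ⟨k, hk⟩ := exists_of_ne_one he
      refine ⟨Quotient.mk _ k, ?_⟩
      change c2 e k = 2
      unfold c2
      rw [if_neg (not_forall.mpr ⟨e, hk⟩), if_neg hk]
  have hc2 : 3 ≤ Nat.card (Quotient (MulAction.orbitRel B (Dual E))) := by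
    have := Nat.card_le_card_of_surjective F2 hF2
    simpa using this
  have hc3 : Nat.card (Quotient (MulAction.orbitRel B (Dual E))) =
      Nat.card (Quotient (MulAction.orbitRel B E)) := card_orbits (A := B) (E := E)
  have hbij : Function.Bijective F2 := by
    rw [Nat.bijective_iff_surjective_and_card]
    refine ⟨hF2, ?_⟩
    rw [Nat.card_eq_fintype_card (α := Fin 3), Fintype.card_fin]
    omega
  have h1 : F2 (Quotient.mk _ m) = F2 (Quotient.mk _ l) := by
    change c2 e m = c2 e l
    unfold c2
    rw [if_neg (not_forall.mpr hm), if_pos hme, if_neg (not_forall.mpr hl), if_pos hle]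
  have h2 := Quotient.exact (hbij.1 h1)
  obtain ⟨b, hb⟩ := h2
  exact ⟨b, hBe b, hb⟩

end H73.Pyr
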