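import Mathlib
import Cfsg.Agent.Lib.H73.PyrLin2

/-! S3930: a 2-transitive linear group over F_2 whose two-point stabilisers are 2-groups has
dimension at most 3. -/

set_option autoImplicit false

namespace H73.Pyr

section fx
variable {A E : Type*} [Group A] [CommGroup E] [MulDistribMulAction A E]

/-- fixed points of an element -/
def Fx (E : Type*) [CommGroup E] [MulDistribMulAction A E] (a : A) : Subgroup E where
  carrier := {x | a • x = x}
  one_mem' := smul_one a
  mul_mem' := by
    intro x y hx hy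
    change a • (x * y) = x * y
    rw [smul_mul', show a • x = x from hx, show a • y = y from hy]
  inv_mem' := by
    intro x hx
    change a • x⁻¹ = x⁻¹
    rw [smul_inv', show a • x = x from hx]

theorem mem_Fx {a : A} {x : E} : x ∈ Fx E a ↔ a • x = x := Iff.rfl

variable [Finite E]

theorem Fx_sq (hE : ∀ x : E, x * x = 1) (a : A) (ha : a * a = 1) :
    Nat.card E ≤ Nat.card (Fx E a) * Nat.card (Fx E a) := by
  let d : E →* E :=
    { toFun := fun x => x * (a • x)
      map_one' := by simp
      map_mul' := fun x y => by rw [smul_mul']; exact mul_mul_mul_comm _ _ _ _ }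
  have h1 : d.ker ≤ Fx E a := by
    intro x hx
    have h2 : x * (a • x) = 1 := hx
    rw [mem_Fx]
    have h3 := hE x
    exact mul_left_cancel (h2.trans h3.symm)
  have h2 : d.range ≤ Fx E a := by
    rintro _ ⟨x, rfl⟩
    rw [mem_Fx]
    change a • (x * (a • x)) = x * (a • x)
    rw [smul_mul', smul_smul, ha, one_smul, mul_comm]
  have h3 : Nat.card d.range * Nat.card d.ker = Nat.card E := by
    rw [← Subgroup.index_ker]; exact Subgroup.index_mul_card _
  rw [← h3]
  exact Nat.mul_le_mul (Subgroup.card_le_of_le h2) (Subgroup.card_le_of_le h1)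

theorem fix_of_sq {g : A} (hg : Odd (orderOf g)) {x : E} (h : (g * g) • x = x) : g • x = x := by
  obtain ⟨k, hk⟩ := hg
  have h1 : ∀ n : ℕ, (g * g) ^ n • x = x := by
    intro n
    induction n with
    | zero => rw [pow_zero, one_smul]
    | succ n ih => rw [pow_succ, mul_smul, h, ih]
  have h2 : (g * g) ^ (k + 1) = g := by
    rw [← pow_two, ← pow_mul, show 2 * (k + 1) = orderOf g + 1 by omega, pow_succ, pow_orderOf_eq_one,
      one_mul]
  have h3 := h1 (k + 1)
  rwa [h2] at h3

/-- the key inequality -/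
theorem key (a g : A) (haa : a * a = 1) (hg : Odd (orderOf g)) (hag : a * g * a⁻¹ = g⁻¹)
    (F D : Subgroup E) (hF : ∀ x ∈ F, a • x = x) (hFD : F ≤ D) (hD : ∀ x ∈ D, g • x ∈ D) (k : ℕ)
    (hk : Nat.card ↥(D ⊓ Fx E g) ≤ k) : Nat.card F * Nat.card F ≤ k * Nat.card D := by
  let φ : F × F →* E :=
    { toFun := fun z => (z.1 : E) * (g • (z.2 : E))
      map_one' := by simp
      map_mul' := fun x y => by
        simp only [Prod.fst_mul, Prod.snd_mul, Subgroup.coe_mul, smul_mul']
        exact mul_mul_mul_comm _ _ _ _ }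
  have hrange : φ.range ≤ D := by
    rintro _ ⟨z, rfl⟩
    exact D.mul_mem (hFD z.1.2) (hD _ (hFD z.2.2))
  have hkmem : ∀ z : F × F, z ∈ φ.ker → (z.1 : E) ∈ D ⊓ Fx E g := by
    intro z hz
    refine ⟨hFD z.1.2, ?_⟩
    change g • (z.1 : E) = z.1
    have h1 : (z.1 : E) * (g • (z.2 : E)) = 1 := hz
    have h2 : (z.1 : E) = g • ((z.2 : E)⁻¹) := by
      rw [smul_inv']; exact eq_inv_of_mul_eq_one_left h1
    have h3 : a • (z.1 : E) = z.1 := hF _ z.1.2
    have h4 : (g * a * g⁻¹) • (z.1 : E) = z.1 := by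
      rw [h2, mul_smul, mul_smul, inv_smul_smul, hF _ (F.inv_mem z.2.2)]
    have h5 : (a * (g * a * g⁻¹)) • (z.1 : E) = z.1 := by rw [mul_smul, h4, h3]
    have hainv : a⁻¹ = a := by rw [inv_eq_iff_mul_eq_one]; exact haa
    have h6 : a * (g * a * g⁻¹) = (g * g)⁻¹ := by
      rw [hainv] at hag
      calc a * (g * a * g⁻¹) = (a * g * a) * g⁻¹ := by group
        _ = g⁻¹ * g⁻¹ := by rw [hag]
        _ = (g * g)⁻¹ := by group
    rw [h6, inv_smul_eq_iff] at h5
    exact fix_of_sq hg h5.symm
  have hker : Nat.card φ.ker ≤ k := by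
    refine le_trans ?_ hk
    let ι : φ.ker → ↥(D ⊓ Fx E g) := fun z => ⟨(z.1.1 : E), hkmem z.1 z.2⟩
    refine Nat.card_le_card_of_injective ι ?_
    intro z w hzw
    have h1 : (z.1.1 : E) = (w.1.1 : E) := congrArg (fun t : ↥(D ⊓ Fx E g) => (t : E)) hzw
    have hz : (z.1.1 : E) * (g • (z.1.2 : E)) = 1 := z.2
    have hw : (w.1.1 : E) * (g • (w.1.2 : E)) = 1 := w.2
    have h2 : g • (z.1.2 : E) = g • (w.1.2 : E) := by
      rw [h1] at hz
      exact mul_left_cancel (hz.trans hw.symm)
    have h3 : (z.1.2 : E) = (w.1.2 : E) := smul_left_cancel g h2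
    exact Subtype.ext (Prod.ext (Subtype.ext h1) (Subtype.ext h3))
  have h3 : Nat.card φ.range * Nat.card φ.ker = Nat.card (F × F) := by
    rw [← Subgroup.index_ker]; exact Subgroup.index_mul_card _
  rw [Nat.card_prod] at h3
  rw [← h3, mul_comm k]
  exact Nat.mul_le_mul (Subgroup.card_le_of_le hrange) hker

end fx

/-- a prime-order inverted element -/
theorem exists_prime_inv {X : Type*} [Group X] [Finite X] (t x : X) (hx : Odd (orderOf x)) (hx1 : x ≠ 1)
    (hinv : t * x * t⁻¹ = x⁻¹) :
    ∃ g : X, (orderOf g).Prime ∧ Odd (orderOf g) ∧ t * g * t⁻¹ = g⁻¹ := by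
  have h1 : orderOf x ≠ 1 := by rw [Ne, orderOf_eq_one_iff]; exact hx1
  obtain ⟨r, hr, hrx⟩ := Nat.exists_prime_and_dvd h1
  have hpos : 0 < orderOf x := orderOf_pos x
  obtain ⟨m, hm⟩ := hrx
  have hm0 : m ≠ 0 := by rintro rfl; omega
  have ho : orderOf (x ^ m) = r := by
    rw [orderOf_pow' _ hm0, hm, Nat.gcd_eq_right (Dvd.intro_left r rfl)]
    exact Nat.mul_div_cancel _ (Nat.pos_of_ne_zero hm0)
  refine ⟨x ^ m, by rw [ho]; exact hr, ?_, ?_⟩
  · rw [ho]
    rw [hm] at hx
    exact (Nat.odd_mul.mp hx).1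
  · rw [← conj_pow, hinv, inv_pow]

section main
variable {A E : Type*} [Group A] [CommGroup E] [MulDistribMulAction A E] [Finite E] [Finite A]

theorem T1 (h4 : 4 ≤ Nat.card E) (hT : T2 A E) (e f : E) (he : e ≠ 1) (hf : f ≠ 1) :
    ∃ a : A, a • e = f := by
  have hex : ∀ e : E, ∃ x : E, x ≠ 1 ∧ x ≠ e := by
    intro e
    by_contra hcon
    push Not at hcon
    have : Nat.card E ≤ 2 := by
      classical
      have := Fintype.ofFinite E
      rw [Nat.card_eq_fintype_card, ← Finset.card_univ]
      have hsub : (Finset.univ : Finset E) ⊆ {1, e} := by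
        intro x _
        by_cases hx : x = 1
        · simp [hx]
        · simp [hcon x hx]
      exact le_trans (Finset.card_le_card hsub) Finset.card_le_two
    omega
  obtain ⟨x, hx1, hxe⟩ := hex e
  obtain ⟨y, hy1, hyf⟩ := hex f
  obtain ⟨a, ha, _⟩ := hT e x f y he hx1 (Ne.symm hxe) hf hy1 (Ne.symm hyf)
  exact ⟨a, ha⟩

theorem lin (hE : ∀ x : E, x * x = 1) (h4 : 4 ≤ Nat.card E) (hT : T2 A E)
    (hf : ∀ a : A, (∀ x : E, a • x = x) → a = 1)
    (hP : ∀ e f : E, e ≠ 1 → f ≠ 1 → e ≠ f → ∀ a : A, Odd (orderOf a) → a • e = e → a • f = f → a = 1) :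
    Nat.card E ≤ 8 := by
  classical
  have : Fact (Nat.Prime 2) := ⟨Nat.prime_two⟩
  have hEp : IsPGroup 2 E := by
    intro x; exact ⟨1, by rw [pow_one, pow_two]; exact hE x⟩
  -- an involution
  obtain ⟨e, he⟩ : ∃ e : E, e ≠ 1 := by
    by_contra hcon
    push Not at hcon
    have : Nat.card E ≤ 1 := by
      have : Subsingleton E := ⟨fun x y => by rw [hcon x, hcon y]⟩
      exact Finite.card_le_one_iff_subsingleton.mpr this
    omega
  obtain ⟨f, hf1, hfe⟩ : ∃ x : E, x ≠ 1 ∧ x ≠ e := by
    by_contra hcon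
    push Not at hcon
    have : Nat.card E ≤ 2 := by
      have := Fintype.ofFinite E
      rw [Nat.card_eq_fintype_card, ← Finset.card_univ]
      have hsub : (Finset.univ : Finset E) ⊆ {1, e} := by
        intro x _
        by_cases hx : x = 1
        · simp [hx]
        · simp [hcon x hx]
      exact le_trans (Finset.card_le_card hsub) Finset.card_le_two
    omega
  obtain ⟨s, hs1, hs2⟩ := hT e f f e he hf1 (Ne.symm hfe) hf1 he hfe
  have hseven : ¬ Odd (orderOf s) := by
    intro hodd
    have h1 : s • e = e := by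
      apply fix_of_sq hodd
      rw [mul_smul, hs1, hs2]
    exact hfe (hs1.symm.trans h1)
  rw [Nat.not_odd_iff_even] at hseven
  obtain ⟨a, ha1, haa⟩ : ∃ a : A, a ≠ 1 ∧ a * a = 1 := by
    obtain ⟨m, hm⟩ := hseven
    have hpos := orderOf_pos s
    refine ⟨s ^ m, ?_, ?_⟩
    · intro h
      have := orderOf_dvd_of_pow_eq_one h
      have := Nat.le_of_dvd (by omega) this
      omega
    · rw [← pow_add, ← hm, pow_orderOf_eq_one]
  have hainv : a⁻¹ = a := by rw [inv_eq_iff_mul_eq_one]; exact haa
  set F := Fx E a with hFdef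
  have hFs := Fx_sq hE a haa
  have hFtop : F ≠ ⊤ := by
    intro h
    apply ha1
    apply hf
    intro x
    have : x ∈ F := by rw [h]; trivial
    exact this
  obtain ⟨l, hl1, y0, hy0⟩ := exists_ann hFtop
  have hval : ∀ (m : Dual E) (x : E), ev m x * ev m x = 1 := by
    intro m x
    rw [← ev_mul, hE x, ev_one]
  have hvinv : ∀ (m : Dual E) (x : E), (ev m x)⁻¹ = ev m x := by
    intro m x; rw [inv_eq_iff_mul_eq_one]; exact hval m x
  -- `a` fixes `l`
  have hal : a • l = l := by
    apply ext_ev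
    intro x
    rw [ev_smul, hainv]
    have h1 : (a • x) * x ∈ F := by
      rw [hFdef, mem_Fx, smul_mul', smul_smul, haa, one_smul, mul_comm]
    have h2 := hl1 _ h1
    rw [ev_mul, mul_eq_one_iff_eq_inv, hvinv] at h2
    exact h2
  -- the kernel of l
  set D : Subgroup E := l.hom.ker with hD
  have hDm : ∀ x : E, x ∈ D ↔ ev l x = 1 := fun x => Iff.rfl
  have hFD : F ≤ D := fun x hx => hl1 x hx
  have hDcard : Nat.card D * 2 = Nat.card E := by
    rw [← Subgroup.index_mul_card D, mul_comm]
    congr 1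
    rw [Subgroup.index_ker]
    have : Finite l.hom.range := Finite.of_surjective _ l.hom.rangeRestrict_surjective
    have h1 : Nat.card l.hom.range ≤ 2 := by
      have hsub : (l.hom.range : Set ℂˣ) ⊆ {1, -1} := by
        rintro _ ⟨x, rfl⟩
        have h2 := hval l x
        have h3 : ((ev l x : ℂˣ) : ℂ) * ((ev l x : ℂˣ) : ℂ) = 1 := by
          rw [← Units.val_mul, h2, Units.val_one]
        have h4 : ((ev l x : ℂˣ) : ℂ) = 1 ∨ ((ev l x : ℂˣ) : ℂ) = -1 := mul_self_eq_one_iff.mp h3
        rcases h4 with h4 | h4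
        · left; exact Units.ext h4
        · right; exact Units.ext h4
      have h5 : Set.ncard (l.hom.range : Set ℂˣ) ≤ 2 :=
        le_trans (Set.ncard_le_ncard hsub (Set.toFinite _)) (Set.ncard_insert_le _ _ |>.trans (by simp))
      exact h5
    have h2 : 1 < Nat.card l.hom.range := by
      rw [Subgroup.one_lt_card_iff_ne_bot]
      intro h
      apply hy0
      have : l.hom y0 ∈ l.hom.range := ⟨y0, rfl⟩
      rw [h] at this
      exact this
    omega
  have hstab : ∀ b : A, b • l = l → ∀ x, ev l (b • x) = ev l x := by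
    intro b hb x
    have h1 : ev (b • l) (b • x) = ev l (b • x) := by rw [hb]
    rw [ev_smul, inv_smul_smul] at h1
    exact h1.symm
  set S := MulAction.stabilizer A l with hS
  -- first claim: a lies in a normal 2-subgroup of S
  have hclaim : ∃ N : Subgroup S, N.Normal ∧ IsPGroup 2 N ∧ (⟨a, hal⟩ : S) ∈ N := by
    apply H55.BaerSuzuki.exists_normal_of_involution
    · exact Subtype.ext haa
    · intro x hxo hxi
      by_contra hx1
      obtain ⟨g, hgp, hgo, hgi⟩ := exists_prime_inv _ x hxo hx1 hxi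
      have hgA : orderOf (g : A) = orderOf g := Subgroup.orderOf_coe g
      have hgl : (g : A) • l = l := g.2
      have hgi' : a * (g : A) * a⁻¹ = (g : A)⁻¹ := congrArg Subtype.val hgi
      have hgo' : Odd (orderOf (g : A)) := by rw [hgA]; exact hgo
      have hg1 : (g : A) ≠ 1 := by
        intro h
        rw [← orderOf_eq_one_iff, hgA] at h
        exact hgp.one_lt.ne' h
      have hk := key (a := a) (g := (g : A)) haa hgo' hgi' F D (fun x hx => hx) hFD
        (fun x hx => by rw [hDm] at hx ⊢; rw [hstab _ hgl, hx]) 1 ?_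
      · have h1 : 0 < Nat.card D := Nat.card_pos
        rw [one_mul] at hk
        have h2 : Nat.card E ≤ Nat.card D := le_trans hFs hk
        omega
      · -- fixed points of g in D are trivial
        have hbot : D ⊓ Fx E (g : A) = ⊥ := by
          rw [Subgroup.eq_bot_iff_forall]
          rintro z ⟨hzD, hzg⟩
          by_contra hz1
          replace hzg : (g : A) • z = z := hzg
          set r := orderOf (g : A) with hr
          set w : E := ∏ i ∈ Finset.range r, ((g : A) ^ i • y0) with hw
          have hgw : (g : A) • w = w := by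
            rw [hw, Finset.smul_prod']
            have h1 : ∀ i ∈ Finset.range r, (g : A) • ((g : A) ^ i • y0) = (g : A) ^ (i + 1) • y0 := by
              intro i _
              rw [smul_smul, ← pow_succ']
            rw [Finset.prod_congr rfl h1]
            have h2 := Finset.prod_range_succ (fun i => (g : A) ^ i • y0) r
            have h3 := Finset.prod_range_succ' (fun i => (g : A) ^ i • y0) r
            rw [h2] at h3
            rw [hr, pow_orderOf_eq_one, pow_zero] at h3
            exact (mul_right_cancel h3).symm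
          have hlw : ev l w = ev l y0 := by
            have h1 : ∀ n : ℕ, ev l (∏ i ∈ Finset.range n, ((g : A) ^ i • y0)) = ev l y0 ^ n := by
              intro n
              induction n with
              | zero => simp [ev_one]
              | succ n ih =>
                rw [Finset.prod_range_succ, ev_mul, ih, pow_succ]
                congr 1
                apply hstab
                have : ∀ n : ℕ, (g : A) ^ n • l = l := by
                  intro n
                  induction n with
                  | zero => rw [pow_zero, one_smul]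
                  | succ n ih => rw [pow_succ, mul_smul, hgl, ih]
                exact this n
            rw [hw, h1]
            obtain ⟨k, hk⟩ := hgo'
            rw [hk, pow_succ, pow_mul, pow_two, hval, one_pow, one_mul]
          have hw1 : w ≠ 1 := by
            intro h
            rw [h, ev_one] at hlw
            exact hy0 hlw.symm
          have hwz : z ≠ w := by
            intro h
            have hzD' : ev l z = 1 := hzD
            rw [h, hlw] at hzD'
            exact hy0 hzD'
          exact hg1 (hP z w hz1 hw1 hwz _ hgo' hzg hgw)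
        rw [hbot]
        simp
  obtain ⟨N, hNn, hNp, haN⟩ := hclaim
  -- S is transitive on D \ 1
  have hStr : ∀ x y : E, x ∈ D → y ∈ D → x ≠ 1 → y ≠ 1 → ∃ b : A, b • l = l ∧ b • x = y := by
    intro x y hx hy hx1 hy1
    obtain ⟨c, hc⟩ := T1 h4 hT x y hx1 hy1
    have h1 : ev (c • l) y = 1 := by
      rw [ev_smul, ← hc, inv_smul_smul]; exact hx
    obtain ⟨b, hb1, hb2⟩ := trans_ann hT y hy1 (c • l) l ⟨c • y0, by
      rw [ev_smul, inv_smul_smul]; exact hy0⟩ ⟨y0, hy0⟩ h1 hy
    exact ⟨b * c, by rw [mul_smul, hb2], by rw [mul_smul, hc, hb1]⟩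
  -- N fixes D pointwise if |E| > 4
  by_contra hcon
  push Not at hcon
  have hD4 : 2 ∣ Nat.card D := by
    obtain ⟨k, hk⟩ := (IsPGroup.iff_card.mp (hEp.to_subgroup D))
    rw [hk]
    have hk0 : k ≠ 0 := by
      rintro rfl
      rw [pow_zero] at hk
      omega
    exact dvd_pow_self 2 hk0
  have hNfix : ∃ x : E, x ∈ D ∧ x ≠ 1 ∧ ∀ b : S, b ∈ N → (b : A) • x = x := by
    letI : MulAction N D :=
      { smul := fun b x => ⟨((b : S) : A) • (x : E), by
          rw [hDm, hstab _ (b : S).2]; exact x.2⟩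
        one_smul := fun x => Subtype.ext (one_smul A (x : E))
        mul_smul := fun b c x => Subtype.ext (mul_smul ((b : S) : A) ((c : S) : A) (x : E)) }
    have h1 : (1 : D) ∈ MulAction.fixedPoints N D := by
      intro b
      exact Subtype.ext (smul_one ((b : S) : A))
    obtain ⟨x, hx, hx1⟩ := hNp.exists_fixed_point_of_prime_dvd_card_of_fixed_point (α := D) hD4 h1
    refine ⟨x, x.2, fun h => hx1 (Subtype.ext h.symm), ?_⟩
    intro b hb
    exact congrArg Subtype.val (hx ⟨b, hb⟩)
  obtain ⟨x, hxD, hx1, hxN⟩ := hNfix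
  have haD : ∀ y ∈ D, a • y = y := by
    intro y hy
    by_cases hy1 : y = 1
    · rw [hy1, smul_one]
    obtain ⟨b, hb1, hb2⟩ := hStr x y hxD hy hx1 hy1
    have h1 := hNn.conj_mem _ haN (⟨b, hb1⟩ : S)⁻¹
    have h2 := hxN _ h1
    have h3 : (b⁻¹ * a * b⁻¹⁻¹) • x = x := h2
    rw [inv_inv, mul_smul, mul_smul, hb2, inv_smul_eq_iff, hb2] at h3
    exact h3
  have hFD' : F = D := le_antisymm hFD (fun y hy => haD y hy)
  -- second claim
  have hclaim2 : ¬ ∃ N : Subgroup A, N.Normal ∧ IsPGroup 2 N ∧ a ∈ N := by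
    rintro ⟨N, hNn, hNp, haN⟩
    have h2E : 2 ∣ Nat.card E := ⟨Nat.card D, by omega⟩
    have h1 : (1 : E) ∈ MulAction.fixedPoints N E := by
      intro b
      exact smul_one (b : A)
    obtain ⟨x, hx, hx1⟩ := hNp.exists_fixed_point_of_prime_dvd_card_of_fixed_point (α := E) h2E h1
    apply ha1
    apply hf
    intro y
    by_cases hy1 : y = 1
    · rw [hy1, smul_one]
    obtain ⟨b, hb2⟩ := T1 h4 hT x y (Ne.symm hx1) hy1
    have h1 := hNn.conj_mem _ haN b⁻¹
    have h3 : (b⁻¹ * a * b⁻¹⁻¹) • x = x := hx ⟨_, h1⟩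
    rw [inv_inv, mul_smul, mul_smul, hb2, inv_smul_eq_iff, hb2] at h3
    exact h3
  apply hclaim2
  apply H55.BaerSuzuki.exists_normal_of_involution a haa
  intro x hxo hxi
  by_contra hx1
  obtain ⟨g, hgp, hgo, hgi⟩ := exists_prime_inv _ x hxo hx1 hxi
  have hg1 : g ≠ 1 := by
    intro h
    rw [← orderOf_eq_one_iff] at h
    exact hgp.one_lt.ne' h
  have hk := key (a := a) (g := g) haa hgo hgi F ⊤ (fun x hx => hx) le_top
    (fun x _ => trivial) 2 ?_
  · rw [Subgroup.card_top, hFD'] at hk
    nlinarith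
  · by_contra hcon2
    push Not at hcon2
    have h3 : 2 < Nat.card ↥(⊤ ⊓ Fx E g) := hcon2
    have hex : ∃ z w : E, z ∈ Fx E g ∧ w ∈ Fx E g ∧ z ≠ 1 ∧ w ≠ 1 ∧ z ≠ w := by
      rw [top_inf_eq] at h3
      have := Fintype.ofFinite (Fx E g)
      rw [Nat.card_eq_fintype_card] at h3
      obtain ⟨z, w, v, hzw, hzv, hwv⟩ := Fintype.two_lt_card_iff.mp h3
      by_cases hz : z = 1
      · exact ⟨w, v, w.2, v.2, fun h => hzw (hz.trans (Subtype.ext h).symm),
          fun h => hzv (hz.trans (Subtype.ext h).symm), fun h => hwv (Subtype.ext h)⟩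
      · by_cases hw : w = 1
        · exact ⟨z, v, z.2, v.2, fun h => hz (Subtype.ext h),
            fun h => hwv (hw.trans (Subtype.ext h).symm), fun h => hzv (Subtype.ext h)⟩
        · exact ⟨z, w, z.2, w.2, fun h => hz (Subtype.ext h), fun h => hw (Subtype.ext h),
            fun h => hzw (Subtype.ext h)⟩
    obtain ⟨z, w, hz, hw, hz1, hw1, hzw⟩ := hex
    exact hg1 (hP z w hz1 hw1 hzw g hgo hz hw)

end main

end H73.Pyr
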