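import Mathlib
import Cfsg.Agent.Lib.H73.PyrDef
import Cfsg.Agent.Lib.H73.PyrLin3

/-! S3930: the case |E| = 4. -/

set_option autoImplicit false

namespace H73.Pyr

variable {G : Type*} [Group G]

theorem Big.comm {E : Subgroup G} (hE : Big E) {x y : G} (hx : x ∈ E) (hy : y ∈ E) : x * y = y * x := by
  have h1 := hE.sq _ (E.mul_mem hx hy)
  have h2 := hE.sq x hx
  have h3 := hE.sq y hy
  have h2' : x⁻¹ = x := by rw [inv_eq_iff_mul_eq_one]; exact h2
  have h3' : y⁻¹ = y := by rw [inv_eq_iff_mul_eq_one]; exact h3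
  calc x * y = (x * y)⁻¹ := (inv_eq_iff_mul_eq_one.mpr h1).symm
    _ = y⁻¹ * x⁻¹ := mul_inv_rev _ _
    _ = y * x := by rw [h2', h3']

theorem Big.conj_mem {E : Subgroup G} (hE : Big E) {x : G} (hx : x ∈ E) (g : G) : g * x * g⁻¹ ∈ E :=
  hE.nor.conj_mem x hx g

/-- an involution normalising an odd order subgroup centralises it -/
theorem Big.cent {E D : Subgroup G} (hE : Big E) (hD : ∀ d ∈ D, d * d = 1 → d = 1) {x : G}
    (hx : x ∈ E) (hxD : x ∈ Subgroup.normalizer (D : Set G)) : ∀ d ∈ D, x * d = d * x := by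
  intro d hd
  have h1 : x * d * x⁻¹ * d⁻¹ ∈ D := by
    have h2 : x * d * x⁻¹ ∈ D := (Subgroup.mem_normalizer_iff.mp hxD d).mp hd
    exact D.mul_mem h2 (D.inv_mem hd)
  have h2 : x * d * x⁻¹ * d⁻¹ ∈ E := by
    have h3 : d * x⁻¹ * d⁻¹ ∈ E := hE.conj_mem (E.inv_mem hx) d
    have h4 := E.mul_mem hx h3
    convert h4 using 1
    group
  have h3 := hD _ h1 (hE.sq _ h2)
  have h4 : x * d * x⁻¹ = d := by rw [mul_inv_eq_one] at h3; exact h3
  rw [mul_inv_eq_iff_eq_mul] at h4
  exact h4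

/-- an even-order element has an involution among its powers -/
theorem exists_inv_pow [Finite G] {z : G} (hz : Even (orderOf z)) :
    ∃ m : ℕ, z ^ m ≠ 1 ∧ z ^ m * z ^ m = 1 := by
  obtain ⟨m, hm⟩ := hz
  have hpos := orderOf_pos z
  refine ⟨m, ?_, ?_⟩
  · intro h
    have := orderOf_dvd_of_pow_eq_one h
    have := Nat.le_of_dvd (by omega) this
    omega
  · rw [← pow_add, ← hm, pow_orderOf_eq_one]

theorem conj_sq_fix {d u : G} (hd : Odd (orderOf d)) (h : d * (d * u * d⁻¹) * d⁻¹ = u) :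
    d * u * d⁻¹ = u := by
  have h1 : (d * d) * u = u * (d * d) := by
    have h2 : (d * d) * u * (d * d)⁻¹ = u := by
      calc (d * d) * u * (d * d)⁻¹ = d * (d * u * d⁻¹) * d⁻¹ := by group
        _ = u := h
    rw [mul_inv_eq_iff_eq_mul] at h2
    exact h2
  obtain ⟨k, hk⟩ := hd
  have h2 : (d * d) ^ (k + 1) = d := by
    rw [← pow_two, ← pow_mul, show 2 * (k + 1) = orderOf d + 1 by omega, pow_succ, pow_orderOf_eq_one,
      one_mul]
  have h3 : Commute ((d * d) ^ (k + 1)) u := (show Commute (d * d) u from h1).pow_left _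
  rw [h2] at h3
  rw [h3.eq, mul_inv_cancel_right]

theorem four_elems [Finite G] {E : Subgroup G} (hE : Big E) (h4 : Nat.card E = 4) {a b : G} (ha : a ∈ E)
    (hb : b ∈ E) (ha1 : a ≠ 1) (hb1 : b ≠ 1) (hab : a ≠ b) {w : G} (hw : w ∈ E) :
    w = 1 ∨ w = a ∨ w = b ∨ w = a * b := by
  classical
  by_contra hcon
  push Not at hcon
  obtain ⟨h1, h2, h3, h5⟩ := hcon
  have hab1 : a * b ≠ 1 := by
    intro h
    have h6 := hE.sq b hb
    exact hab (mul_right_cancel (h.trans h6.symm))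
  have hs : ({1, a, b, a * b, w} : Finset G) ⊆ (Set.Finite.toFinset (Set.toFinite (E : Set G))) := by
    intro x hx
    simp only [Finset.mem_insert, Finset.mem_singleton] at hx
    rw [Set.Finite.mem_toFinset]
    rcases hx with rfl | rfl | rfl | rfl | rfl
    · exact E.one_mem
    · exact ha
    · exact hb
    · exact E.mul_mem ha hb
    · exact hw
  have hc := Finset.card_le_card hs
  have hc2 : (Set.Finite.toFinset (Set.toFinite (E : Set G))).card = 4 := by
    rw [← h4, ← Set.ncard_eq_toFinset_card]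
    rfl
  have hc3 : ({1, a, b, a * b, w} : Finset G).card = 5 := by
    rw [Finset.card_insert_of_notMem, Finset.card_insert_of_notMem, Finset.card_insert_of_notMem,
      Finset.card_insert_of_notMem, Finset.card_singleton]
    · simp only [Finset.mem_singleton]; exact fun h => h5 h.symm
    · simp only [Finset.mem_insert, Finset.mem_singleton, not_or]
      refine ⟨fun h => ha1 ?_, fun h => h3 h.symm⟩
      exact mul_right_cancel ((one_mul b).trans h).symm
    · simp only [Finset.mem_insert, Finset.mem_singleton, not_or]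
      refine ⟨hab, fun h => hb1 ?_, fun h => h2 h.symm⟩
      exact mul_left_cancel ((mul_one a).trans h).symm
    · simp only [Finset.mem_insert, Finset.mem_singleton, not_or]
      exact ⟨fun h => ha1 h.symm, fun h => hb1 h.symm, fun h => hab1 h.symm, fun h => h1 h.symm⟩
  omega

/-- the case `|E| = 4` -/
theorem no4 [Finite G] (E : Subgroup G) (hE : Big E) (h4 : Nat.card E = 4) (h2 : TTr E) : False := by
  classical
  have : Fact (Nat.Prime 3) := ⟨Nat.prime_three⟩
  -- two elements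
  obtain ⟨a, ha, ha1⟩ : ∃ a ∈ E, a ≠ 1 := by
    by_contra hcon
    push Not at hcon
    have : E = ⊥ := by rw [Subgroup.eq_bot_iff_forall]; exact hcon
    rw [this] at h4; simp at h4
  obtain ⟨b, hb, hb1, hba⟩ : ∃ b ∈ E, b ≠ 1 ∧ b ≠ a := by
    by_contra hcon
    push Not at hcon
    have h5 : E ≤ Subgroup.zpowers a := by
      intro x hx
      by_cases hx1 : x = 1
      · rw [hx1]; exact Subgroup.one_mem _
      · rw [hcon x hx hx1]; exact Subgroup.mem_zpowers a
    have h6 := Subgroup.card_le_of_le h5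
    rw [Nat.card_zpowers, h4] at h6
    have h7 : orderOf a ∣ 2 := orderOf_dvd_of_pow_eq_one (by rw [pow_two]; exact hE.sq a ha)
    have := Nat.le_of_dvd (by norm_num) h7
    omega
  have hab : a ≠ b := Ne.symm hba
  have hEl := fun {w : G} (hw : w ∈ E) => four_elems hE h4 ha hb ha1 hb1 hab hw
  have hab' : a * b ∈ E := E.mul_mem ha hb
  have haba : a * b ≠ a := by
    intro h; exact hb1 (mul_left_cancel (h.trans (mul_one a).symm))
  have habb : a * b ≠ b := by
    intro h; exact ha1 (mul_right_cancel (h.trans (one_mul b).symm))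
  have hab1 : a * b ≠ 1 := by
    intro h
    exact hab (mul_right_cancel (h.trans (hE.sq b hb).symm))
  obtain ⟨s, hs1, hs2⟩ := h2 a ha b hb b hb (a * b) hab' ha1 hb1 hab hb1 hab1 (Ne.symm habb)
  obtain ⟨y, hy1, hy2⟩ := h2 a ha b hb b hb a ha ha1 hb1 hab hb1 ha1 hba
  have := hE.nor
  -- the centralizer and the action
  set φ : G →* MulAut E := MulAut.conjNormal with hφ
  have hφv : ∀ (g : G) (x : E), ((φ g x : E) : G) = g * x * g⁻¹ := fun g x => MulAut.conjNormal_apply g x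
  have hext : ∀ f g : MulAut E, f ⟨a, ha⟩ = g ⟨a, ha⟩ → f ⟨b, hb⟩ = g ⟨b, hb⟩ → f = g := by
    intro f g h5 h6
    apply MulEquiv.ext
    rintro ⟨x, hx⟩
    rcases hEl hx with rfl | rfl | rfl | rfl
    · exact (map_one f).trans (map_one g).symm
    · exact h5
    · exact h6
    · have h7 : (⟨a * b, hx⟩ : E) = ⟨a, ha⟩ * ⟨b, hb⟩ := rfl
      rw [h7, map_mul, map_mul, h5, h6]
  have hsa : φ s ⟨a, ha⟩ = ⟨b, hb⟩ := Subtype.ext (by rw [hφv]; exact hs1)
  have hsb : φ s ⟨b, hb⟩ = ⟨a, ha⟩ * ⟨b, hb⟩ := Subtype.ext (by rw [hφv]; exact hs2)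
  have hya : φ y ⟨a, ha⟩ = ⟨b, hb⟩ := Subtype.ext (by rw [hφv]; exact hy1)
  have hyb : φ y ⟨b, hb⟩ = ⟨a, ha⟩ := Subtype.ext (by rw [hφv]; exact hy2)
  have hcomm : (⟨b, hb⟩ : E) * ⟨a, ha⟩ = ⟨a, ha⟩ * ⟨b, hb⟩ := Subtype.ext (hE.comm hb ha)
  have haa : (⟨a, ha⟩ : E) * ⟨a, ha⟩ = 1 := Subtype.ext (hE.sq a ha)
  have hbb : (⟨b, hb⟩ : E) * ⟨b, hb⟩ = 1 := Subtype.ext (hE.sq b hb)
  -- relations
  have hyy : φ y * φ y = 1 := by
    apply hext
    · change φ y (φ y _) = _; rw [hya, hyb]; rfl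
    · change φ y (φ y _) = _; rw [hyb, hya]; rfl
  have hsss : φ s * φ s * φ s = 1 := by
    apply hext
    · change φ s (φ s (φ s _)) = _
      rw [hsa, hsb, map_mul, hsa, hsb, ← mul_assoc, hcomm, mul_assoc, hbb, mul_one]; rfl
    · change φ s (φ s (φ s _)) = _
      rw [hsb, map_mul, hsa, hsb, ← mul_assoc, hcomm, mul_assoc, hbb, mul_one, hsa]; rfl
  have hys : φ y * φ s = (φ s)⁻¹ * φ y := by
    rw [eq_inv_mul_iff_mul_eq]
    apply hext
    · change φ s (φ y (φ s _)) = φ y _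
      rw [hsa, hyb, hsa, hya]
    · change φ s (φ y (φ s _)) = φ y _
      rw [hsb, map_mul, hya, hyb, hcomm, map_mul, hsa, hsb, ← mul_assoc, hcomm, mul_assoc, hbb,
        mul_one]
  have hy1' : φ y ≠ 1 := by
    intro h
    have : φ y ⟨a, ha⟩ = ⟨a, ha⟩ := by rw [h]; rfl
    rw [hya] at this
    exact hba (congrArg Subtype.val this)
  have hs1' : φ s ≠ 1 := by
    intro h
    have : φ s ⟨a, ha⟩ = ⟨a, ha⟩ := by rw [h]; rfl
    rw [hsa] at this
    exact hba (congrArg Subtype.val this)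
  set Z := Subgroup.zpowers (φ s) with hZ
  have hZ3 : Nat.card Z = 3 := by
    rw [hZ, Nat.card_zpowers]
    apply orderOf_eq_prime
    · rw [pow_succ, pow_two]; exact hsss
    · exact hs1'
  -- y inverts Z
  have hyZ : ∀ z ∈ Z, φ y * z = z⁻¹ * φ y := by
    rintro _ ⟨k, rfl⟩
    change φ y * (φ s) ^ k = ((φ s) ^ k)⁻¹ * φ y
    have h5 : φ y * φ s * (φ y)⁻¹ = (φ s)⁻¹ := by rw [hys]; group
    have h6 : φ y * (φ s) ^ k * (φ y)⁻¹ = ((φ s)⁻¹) ^ k := by rw [← conj_zpow, h5]
    rw [mul_inv_eq_iff_eq_mul] at h6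
    rw [h6, inv_zpow]
  set M : Subgroup G := Z.comap φ with hM
  have hyM : ∀ m ∈ M, y * m * y⁻¹ ∈ M := by
    intro m hm
    change φ (y * m * y⁻¹) ∈ Z
    rw [map_mul, map_mul, map_inv, hyZ _ hm, mul_inv_cancel_right]
    exact Z.inv_mem hm
  obtain ⟨D⟩ : Nonempty (Sylow 3 M) := inferInstance
  set D' : Subgroup G := (D : Subgroup M).map M.subtype with hD'
  have hD'M : D' ≤ M := by
    rintro _ ⟨x, _, rfl⟩; exact x.2
  have hDcard : Nat.card D' = Nat.card D :=
    Subgroup.card_map_of_injective M.subtype_injective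
  have hD3 : IsPGroup 3 D' := D.2.map _
  -- find m with m y in the normalizer
  have hex : ∃ m ∈ M, m * y ∈ Subgroup.normalizer (D' : Set G) := by
    set Q' : Subgroup G := D'.map (MulAut.conj y).toMonoidHom with hQ'
    have hQM : Q' ≤ M := by
      rintro _ ⟨x, hx, rfl⟩
      exact hyM x (hD'M hx)
    have hQc : Nat.card (Q'.subgroupOf M) = 3 ^ (Nat.card M).factorization 3 := by
      rw [Nat.card_congr (Subgroup.subgroupOfEquivOfLe hQM).toEquiv, hQ',
        Subgroup.card_map_of_injective (MulAut.conj y).injective, hDcard]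
      exact D.card_eq_multiplicity
    obtain ⟨m, hm⟩ := MulAction.exists_smul_eq M (Sylow.ofCard (Q'.subgroupOf M) hQc) D
    refine ⟨m, m.2, ?_⟩
    have h5 : ∀ x : G, x ∈ D' → (m : G) * y * x * ((m : G) * y)⁻¹ ∈ D' := by
      intro x hx
      have h6 : y * x * y⁻¹ ∈ Q' := ⟨x, hx, rfl⟩
      have h7 : (⟨y * x * y⁻¹, hQM h6⟩ : M) ∈ Q'.subgroupOf M := h6
      have h8 : m * ⟨y * x * y⁻¹, hQM h6⟩ * m⁻¹ ∈ (D : Subgroup M) := by
        have h9 : (D : Subgroup M) = (Q'.subgroupOf M).map (MulAut.conj m).toMonoidHom := by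
          rw [← hm]; rfl
        rw [h9]
        exact ⟨_, h7, rfl⟩
      have h10 : ((m * ⟨y * x * y⁻¹, hQM h6⟩ * m⁻¹ : M) : G) ∈ D' := ⟨_, h8, rfl⟩
      convert h10 using 1
      change (m : G) * y * x * ((m : G) * y)⁻¹ = (m : G) * (y * x * y⁻¹) * (m : G)⁻¹
      group
    have h6 : D'.map (MulAut.conj ((m : G) * y)).toMonoidHom = D' := by
      apply Subgroup.eq_of_le_of_card_ge
      · rintro _ ⟨x, hx, rfl⟩
        exact h5 x hx
      · exact le_of_eq (Subgroup.card_map_of_injective (K := D')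
          (f := (MulAut.conj ((m : G) * y)).toMonoidHom) (MulAut.conj _).injective).symm
    rw [Subgroup.mem_normalizer_iff]
    intro x
    refine ⟨h5 x, fun hx => ?_⟩
    rw [← h6] at hx
    obtain ⟨x', hx', hxx⟩ := hx
    have h7 : x' = x := (MulAut.conj ((m : G) * y)).injective hxx
    rw [← h7]; exact hx'
  obtain ⟨m, hm, hmN⟩ := hex
  have hφm : φ (m * y) * φ (m * y) = 1 := by
    have h5 := hyZ (φ m) hm
    rw [map_mul]
    calc φ m * φ y * (φ m * φ y) = φ m * (φ y * φ m) * φ y := by group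
      _ = φ m * ((φ m)⁻¹ * φ y) * φ y := by rw [h5]
      _ = φ y * φ y := by group
      _ = 1 := hyy
  have hφm1 : φ (m * y) ≠ 1 := by
    intro h
    rw [map_mul] at h
    have h5 : φ y ∈ Z := by
      have h6 : φ y = (φ m)⁻¹ := eq_inv_of_mul_eq_one_right h
      rw [h6]; exact Z.inv_mem hm
    have h6 : orderOf (φ y) ∣ 3 := by
      rw [← hZ3]; exact Subgroup.orderOf_dvd_natCard Z h5
    have h7 : orderOf (φ y) ∣ 2 := orderOf_dvd_of_pow_eq_one (by rw [pow_two]; exact hyy)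
    have h8 : orderOf (φ y) ∣ 1 := by
      have := Nat.dvd_sub h6 h7
      simpa using this
    exact hy1' (orderOf_eq_one_iff.mp (Nat.dvd_one.mp h8))
  have heven : Even (orderOf (m * y)) := by
    have h5 : orderOf (φ (m * y)) = 2 := by
      apply orderOf_eq_prime
      · rw [pow_two]; exact hφm
      · exact hφm1
    have h6 := orderOf_map_dvd φ (m * y)
    rw [h5] at h6
    exact even_iff_two_dvd.mpr h6
  obtain ⟨k, hk1, hk2⟩ := exists_inv_pow heven
  set x := (m * y) ^ k with hx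
  have hxE : x ∈ E := hE.inv x hk2
  have hxN : x ∈ Subgroup.normalizer (D' : Set G) := Subgroup.pow_mem _ hmN k
  have hDodd : ∀ d ∈ D', Odd (orderOf d) := by
    intro d hd
    obtain ⟨j, hj⟩ := hD3 ⟨d, hd⟩
    have h5 : d ^ 3 ^ j = 1 := congrArg Subtype.val hj
    have h6 := orderOf_dvd_of_pow_eq_one h5
    exact Odd.of_dvd_nat (Odd.pow (by decide)) h6
  have hDo : ∀ d ∈ D', d * d = 1 → d = 1 := by
    intro d hd hdd
    obtain ⟨j, hj⟩ := hDodd d hd
    have h5 := pow_orderOf_eq_one d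
    rw [hj, pow_succ, pow_mul, pow_two, hdd, one_pow, one_mul] at h5
    exact h5
  have hcent := hE.cent hDo hxE hxN
  -- D' is not inside the kernel
  obtain ⟨d, hdD, hd1⟩ : ∃ d ∈ D', φ d ≠ 1 := by
    by_contra hcon
    push Not at hcon
    let ψ : M →* MulAut E := φ.comp M.subtype
    have h5 : (D : Subgroup M) ≤ ψ.ker := by
      intro x hx
      exact hcon x ⟨x, hx, rfl⟩
    have h6 : ψ.ker.index ∣ (D : Subgroup M).index := Subgroup.index_dvd_of_le h5
    have h7 : ¬ 3 ∣ (D : Subgroup M).index := D.not_dvd_index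
    apply h7
    refine dvd_trans ?_ h6
    rw [Subgroup.index_ker]
    have hsM : s ∈ M := Subgroup.mem_zpowers (φ s)
    have h8 : Z ≤ ψ.range := by
      rw [hZ, Subgroup.zpowers_le]
      exact ⟨⟨s, hsM⟩, rfl⟩
    rw [← hZ3]
    exact Subgroup.card_dvd_of_le h8
  apply hd1
  -- d centralises x, hence E
  have hxd : d * x * d⁻¹ = x := by
    rw [← hcent d hdD, mul_inv_cancel_right]
  have hfix : ∀ u ∈ E, d * u * d⁻¹ = u := by
    intro u hu
    by_cases hu1 : u = 1
    · rw [hu1]; group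
    by_cases hux : u = x
    · rw [hux]; exact hxd
    rcases four_elems hE h4 hxE hu hk1 hu1 (fun h => hux h.symm) (hE.conj_mem hu d) with h | h | h | h
    · exfalso; apply hu1
      rw [mul_inv_eq_one] at h
      exact mul_left_cancel (h.trans (mul_one d).symm)
    · exfalso; apply hux
      have h5 := h.trans hxd.symm
      exact mul_left_cancel (mul_right_cancel h5)
    · exact h
    · apply conj_sq_fix (hDodd d hdD)
      rw [h]
      have h5 : d * (x * u) * d⁻¹ = (d * x * d⁻¹) * (d * u * d⁻¹) := by group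
      rw [h5, hxd, h, ← mul_assoc, hE.sq x hxE, one_mul]
  apply MulEquiv.ext
  intro u
  exact Subtype.ext (by rw [hφv]; exact hfix u u.2)

end H73.Pyr
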