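import Mathlib
import Cfsg.Agent.Lib.H73.PyrInd1

/-! S3930: the induction. -/

set_option autoImplicit false

namespace H73.Pyr

universe u

theorem witt {G : Type u} [Group G] [Finite G] {E : Subgroup G} (h2 : TTr E) {e f : G}
    (he : e ∈ E) (hf : f ∈ E) (he1 : e ≠ 1) (hf1 : f ≠ 1) (hef : e ≠ f) {r : ℕ} [Fact r.Prime]
    (X : Subgroup G) (hX : ∀ x : G, x ∈ X ↔ x * e = e * x ∧ x * f = f * x)
    (R : Sylow r X)
    {e1 f1 : G} (he1E : e1 ∈ E) (hf1E : f1 ∈ E) (he11 : e1 ≠ 1) (hf11 : f1 ≠ 1) (hef1 : e1 ≠ f1)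
    (hce : ∀ ρ ∈ (R : Subgroup X).map X.subtype, ρ * e1 = e1 * ρ)
    (hcf : ∀ ρ ∈ (R : Subgroup X).map X.subtype, ρ * f1 = f1 * ρ) :
    ∃ w ∈ Subgroup.normalizer (((R : Subgroup X).map X.subtype : Subgroup G) : Set G),
      w * e1 * w⁻¹ = e ∧ w * f1 * w⁻¹ = f := by
  classical
  set D' : Subgroup G := (R : Subgroup X).map X.subtype with hD'
  obtain ⟨g, hg1, hg2⟩ := h2 e1 he1E f1 hf1E e he f hf he11 hf11 hef1 he1 hf1 hef
  set Q' : Subgroup G := D'.map (MulAut.conj g).toMonoidHom with hQ'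
  have hXm : ∀ x : G, x * e = e * x → x * f = f * x → x ∈ X := fun x h1 h3 => (hX x).mpr ⟨h1, h3⟩
  have hXe : ∀ x ∈ X, x * e = e * x := fun x hx => ((hX x).mp hx).1
  have hXf : ∀ x ∈ X, x * f = f * x := fun x hx => ((hX x).mp hx).2
  have hQM : Q' ≤ X := by
    rintro _ ⟨x, hx, rfl⟩
    apply hXm
    · change g * x * g⁻¹ * e = e * (g * x * g⁻¹)
      rw [← hg1]
      have h1 := hce x hx
      calc g * x * g⁻¹ * (g * e1 * g⁻¹) = g * (x * e1) * g⁻¹ := by group
        _ = g * (e1 * x) * g⁻¹ := by rw [h1]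
        _ = g * e1 * g⁻¹ * (g * x * g⁻¹) := by group
    · change g * x * g⁻¹ * f = f * (g * x * g⁻¹)
      rw [← hg2]
      have h1 := hcf x hx
      calc g * x * g⁻¹ * (g * f1 * g⁻¹) = g * (x * f1) * g⁻¹ := by group
        _ = g * (f1 * x) * g⁻¹ := by rw [h1]
        _ = g * f1 * g⁻¹ * (g * x * g⁻¹) := by group
  have hDcard : Nat.card D' = Nat.card R :=
    Subgroup.card_map_of_injective X.subtype_injective
  have hQc : Nat.card (Q'.subgroupOf X) = r ^ (Nat.card X).factorization r := by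
    rw [Nat.card_congr (Subgroup.subgroupOfEquivOfLe hQM).toEquiv, hQ',
      Subgroup.card_map_of_injective (MulAut.conj g).injective, hDcard]
    exact R.card_eq_multiplicity
  obtain ⟨m, hm⟩ := MulAction.exists_smul_eq X (Sylow.ofCard (Q'.subgroupOf X) hQc) R
  have h5 : ∀ x : G, x ∈ D' → (m : G) * g * x * ((m : G) * g)⁻¹ ∈ D' := by
    intro x hx
    have h6 : g * x * g⁻¹ ∈ Q' := ⟨x, hx, rfl⟩
    have h7 : (⟨g * x * g⁻¹, hQM h6⟩ : X) ∈ Q'.subgroupOf X := h6
    have h8 : m * ⟨g * x * g⁻¹, hQM h6⟩ * m⁻¹ ∈ (R : Subgroup X) := by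
      have h9 : (R : Subgroup X) = (Q'.subgroupOf X).map (MulAut.conj m).toMonoidHom := by
        rw [← hm]; rfl
      rw [h9]
      exact ⟨_, h7, rfl⟩
    have h10 : ((m * ⟨g * x * g⁻¹, hQM h6⟩ * m⁻¹ : X) : G) ∈ D' := ⟨_, h8, rfl⟩
    convert h10 using 1
    change (m : G) * g * x * ((m : G) * g)⁻¹ = (m : G) * (g * x * g⁻¹) * (m : G)⁻¹
    group
  have h6 : D'.map (MulAut.conj ((m : G) * g)).toMonoidHom = D' := by
    apply Subgroup.eq_of_le_of_card_ge
    · rintro _ ⟨x, hx, rfl⟩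
      exact h5 x hx
    · exact le_of_eq (Subgroup.card_map_of_injective (K := D')
          (f := (MulAut.conj ((m : G) * g)).toMonoidHom) (MulAut.conj _).injective).symm
  refine ⟨(m : G) * g, ?_, ?_, ?_⟩
  · rw [Subgroup.mem_normalizer_iff]
    intro x
    refine ⟨h5 x, fun hx => ?_⟩
    rw [← h6] at hx
    obtain ⟨x', hx', hxx⟩ := hx
    have h7 : x' = x := (MulAut.conj ((m : G) * g)).injective hxx
    rw [← h7]; exact hx'
  · calc (m : G) * g * e1 * ((m : G) * g)⁻¹ = m * (g * e1 * g⁻¹) * (m : G)⁻¹ := by group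
      _ = m * e * (m : G)⁻¹ := by rw [hg1]
      _ = e := by rw [hXe m m.2, mul_inv_cancel_right]
  · calc (m : G) * g * f1 * ((m : G) * g)⁻¹ = m * (g * f1 * g⁻¹) * (m : G)⁻¹ := by group
      _ = m * f * (m : G)⁻¹ := by rw [hg2]
      _ = f := by rw [hXf m m.2, mul_inv_cancel_right]

theorem noTTr (three : ∀ (G : Type u) [Group G] [Finite G] (E : Subgroup G), Big E →
    Nat.card E = 8 → TTr E → False) :
    ∀ (n : ℕ) (G : Type u) [Group G] [Finite G] (E : Subgroup G), Nat.card E = n → Big E → 4 ≤ n →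
      TTr E → False := by
  intro n
  induction n using Nat.strong_induction_on with
  | _ n ih =>
  intro G _ _ E hn hE h4 h2
  classical
  have hf2 : Fact (Nat.Prime 2) := ⟨Nat.prime_two⟩
  have hEp : IsPGroup 2 E := by
    intro x
    refine ⟨1, ?_⟩
    rw [pow_one, pow_two]
    exact Subtype.ext (hE.sq x x.2)
  by_cases hn4 : n = 4
  · exact no4 E hE (by rw [hn, hn4]) h2
  by_cases hn8 : n = 8
  · exact three G E hE (by rw [hn, hn8]) h2
  obtain ⟨k, hk⟩ := IsPGroup.iff_card.mp hEp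
  have hn9 : 8 < Nat.card E := by
    rw [hn] at hk
    rcases Nat.lt_or_ge k 4 with hk4 | hk4
    · interval_cases k <;> omega
    · have : 2 ^ 4 ≤ 2 ^ k := Nat.pow_le_pow_right (by norm_num) hk4
      rw [hn, hk]; omega
  have hEn := hE.nor
  letI : CommGroup E := { (inferInstance : Group E) with
    mul_comm := fun x y => Subtype.ext (hE.comm x.2 y.2) }
  set φ : G →* MulAut E := MulAut.conjNormal with hφ
  have hφv : ∀ (g : G) (x : E), ((φ g x : E) : G) = g * x * g⁻¹ := fun g x => MulAut.conjNormal_apply g x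
  set A : Subgroup (MulAut E) := φ.range with hA
  have hact : ∀ (a : A) (x : E), a • x = (a : MulAut E) x := fun a x => rfl
  apply absurd hn9
  rw [not_lt]
  apply lin (A := A) (E := E)
  · intro x; exact Subtype.ext (hE.sq x x.2)
  · rw [hn]; exact h4
  · intro e f e' f' he hf hef he' hf' hef'
    obtain ⟨g, hg1, hg2⟩ := h2 e e.2 f f.2 e' e'.2 f' f'.2 (fun h => he (Subtype.ext h))
      (fun h => hf (Subtype.ext h)) (fun h => hef (Subtype.ext h)) (fun h => he' (Subtype.ext h))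
      (fun h => hf' (Subtype.ext h)) (fun h => hef' (Subtype.ext h))
    refine ⟨⟨φ g, g, rfl⟩, ?_, ?_⟩
    · rw [hact]; exact Subtype.ext (by rw [hφv]; exact hg1)
    · rw [hact]; exact Subtype.ext (by rw [hφv]; exact hg2)
  · intro a ha
    apply Subtype.ext
    apply MulEquiv.ext
    intro x
    exact ha x
  · intro e f he hf hef a hao hae haf
    by_contra ha1
    have he1 : (e : G) ≠ 1 := fun h => he (Subtype.ext h)
    have hf1 : (f : G) ≠ 1 := fun h => hf (Subtype.ext h)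
    have hef1 : (e : G) ≠ f := fun h => hef (Subtype.ext h)
    obtain ⟨a', g, hga⟩ := a
    have hge : g * e * g⁻¹ = e := by
      rw [← hφv, hga]; exact congrArg Subtype.val hae
    have hgf : g * f * g⁻¹ = f := by
      rw [← hφv, hga]; exact congrArg Subtype.val haf
    set X := Subgroup.centralizer ({(e : G), (f : G)} : Set G) with hX
    have hXm : ∀ x : G, x * e = e * x → x * f = f * x → x ∈ X := by
      intro x h1 h3
      rw [hX, Subgroup.mem_centralizer_iff]
      intro y hy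
      rcases hy with rfl | hy
      · exact h1.symm
      · rw [Set.mem_singleton_iff] at hy
        rw [hy]; exact h3.symm
    have hXe : ∀ x ∈ X, x * e = e * x := by
      intro x hx
      rw [hX, Subgroup.mem_centralizer_iff] at hx
      exact (hx e (Set.mem_insert _ _)).symm
    have hXf : ∀ x ∈ X, x * f = f * x := by
      intro x hx
      rw [hX, Subgroup.mem_centralizer_iff] at hx
      exact (hx f (Set.mem_insert_of_mem _ rfl)).symm
    have hgX : g ∈ X := hXm g (mul_inv_eq_iff_eq_mul.mp hge) (mul_inv_eq_iff_eq_mul.mp hgf)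
    have ha'1 : a' ≠ 1 := fun h => ha1 (Subtype.ext h)
    have hao' : Odd (orderOf a') := by
      have h1 : orderOf (⟨a', g, hga⟩ : A) = orderOf a' := (Subgroup.orderOf_coe _).symm
      rw [← h1]; exact hao
    obtain ⟨r, hr, hra⟩ := Nat.exists_prime_and_dvd (n := orderOf a')
      (by rw [Ne, orderOf_eq_one_iff]; exact ha'1)
    have hrodd : Odd r := Odd.of_dvd_nat hao' hra
    have : Fact r.Prime := ⟨hr⟩
    obtain ⟨R⟩ : Nonempty (Sylow r X) := inferInstance
    set R' : Subgroup G := (R : Subgroup X).map X.subtype with hR'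
    have hR'X : R' ≤ X := by rintro _ ⟨x, _, rfl⟩; exact x.2
    -- R' does not centralise E
    obtain ⟨ρ, hρR, x0, hx0E, hρx⟩ : ∃ ρ ∈ R', ∃ x ∈ E, ρ * x ≠ x * ρ := by
      by_contra hcon
      push Not at hcon
      let ψ : X →* MulAut E := φ.comp X.subtype
      have h5 : (R : Subgroup X) ≤ ψ.ker := by
        intro x hx
        apply MulEquiv.ext
        intro y
        apply Subtype.ext
        change ((φ (x : G) y : E) : G) = y
        rw [hφv, hcon (x : G) ⟨x, hx, rfl⟩ y y.2, mul_inv_cancel_right]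
      have h6 : ψ.ker.index ∣ (R : Subgroup X).index := Subgroup.index_dvd_of_le h5
      have h7 : ¬ r ∣ (R : Subgroup X).index := R.not_dvd_index
      apply h7
      refine dvd_trans (dvd_trans hra ?_) h6
      rw [Subgroup.index_ker]
      exact Subgroup.orderOf_dvd_natCard _ ⟨⟨g, hgX⟩, hga⟩
    -- R' is an odd order group
    have hRp : IsPGroup r R' := R.2.map _
    have hRo : ∀ d ∈ R', d * d = 1 → d = 1 := by
      intro d hd hdd
      obtain ⟨j, hj⟩ := hRp ⟨d, hd⟩
      have h5 : d ^ r ^ j = 1 := congrArg Subtype.val hj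
      obtain ⟨i, hi⟩ := hrodd.pow (n := j)
      rw [hi, pow_succ, pow_mul, pow_two, hdd, one_pow, one_mul] at h5
      exact h5
    set N : Subgroup G := Subgroup.normalizer (R' : Set G) with hN
    set W : Subgroup G := E ⊓ Subgroup.centralizer (R' : Set G) with hW
    have hWm : ∀ x, x ∈ W ↔ x ∈ E ∧ ∀ ρ ∈ R', ρ * x = x * ρ := by
      intro x
      rw [hW, Subgroup.mem_inf, Subgroup.mem_centralizer_iff]
      rfl
    have hWN : W ≤ N := by
      intro x hx
      rw [hN, Subgroup.mem_normalizer_iff]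
      have hx' := ((hWm x).mp hx).2
      intro ρ
      constructor
      · intro hρ
        rw [← hx' ρ hρ, mul_inv_cancel_right]; exact hρ
      · intro hρ
        have h1 := hx' _ hρ
        have h2 : ρ = x * ρ * x⁻¹ := by
          have h3 : x * ρ * x⁻¹ * x = x * (x * ρ * x⁻¹) := h1
          rw [inv_mul_cancel_right] at h3
          exact mul_left_cancel h3
        rw [h2]; exact hρ
    have heW : (e : G) ∈ W := (hWm _).mpr ⟨e.2, fun ρ hρ => hXe ρ (hR'X hρ)⟩
    have hfW : (f : G) ∈ W := (hWm _).mpr ⟨f.2, fun ρ hρ => hXf ρ (hR'X hρ)⟩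
    have hWcard : Nat.card (W.subgroupOf N) = Nat.card W :=
      Nat.card_congr (Subgroup.subgroupOfEquivOfLe hWN).toEquiv
    have hWE : W ≤ E := inf_le_left
    have hWlt : Nat.card W < Nat.card E := by
      apply lt_of_le_of_ne (Subgroup.card_le_of_le hWE)
      intro h
      have h1 : W = E := Subgroup.eq_of_le_of_card_ge hWE h.ge
      rw [← h1] at hx0E
      exact hρx (((hWm _).mp hx0E).2 ρ hρR)
    have hW4 : 4 ≤ Nat.card W := by
      have h1 : 2 < Nat.card W := by
        have := Fintype.ofFinite W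
        rw [Nat.card_eq_fintype_card, Fintype.two_lt_card_iff]
        exact ⟨1, ⟨e, heW⟩, ⟨f, hfW⟩, fun h => he1 (congrArg Subtype.val h).symm,
          fun h => hf1 (congrArg Subtype.val h).symm, fun h => hef1 (congrArg (fun t : W => (t : G)) h)⟩
      have h2 : Nat.card W ∣ Nat.card E := Subgroup.card_dvd_of_le hWE
      rw [hk] at h2
      obtain ⟨j, hj, hj2⟩ := (Nat.dvd_prime_pow Nat.prime_two).mp h2
      rw [hj2] at h1 ⊢
      rcases Nat.lt_or_ge j 2 with hj3 | hj3
      · interval_cases j <;> omega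
      · exact Nat.pow_le_pow_right (by norm_num) hj3 |>.trans' (by norm_num)
    refine ih (Nat.card W) (by rw [← hn]; exact hWlt) N (W.subgroupOf N) hWcard ?_ hW4 ?_
    · refine ⟨⟨?_⟩, ?_, ?_⟩
      · intro w hw v
        change (v : G) * w * (v : G)⁻¹ ∈ W
        have hw' : (w : G) ∈ W := hw
        rw [hWm] at hw' ⊢
        refine ⟨hE.conj_mem hw'.1 v, ?_⟩
        intro ρ hρ
        have h1 : (v : G)⁻¹ * ρ * v ∈ R' := by
          have h2 := (Subgroup.mem_normalizer_iff.mp (N.inv_mem v.2) ρ).mp hρ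
          rwa [inv_inv] at h2
        have h3 := hw'.2 _ h1
        calc ρ * ((v : G) * w * (v : G)⁻¹) = v * (((v : G)⁻¹ * ρ * v) * w) * (v : G)⁻¹ := by group
          _ = v * (w * ((v : G)⁻¹ * ρ * v)) * (v : G)⁻¹ := by rw [h3]
          _ = (v : G) * w * (v : G)⁻¹ * ρ := by group
      · intro w hw
        exact Subtype.ext (hE.sq w (hWE hw))
      · intro x hx
        have hxE : (x : G) ∈ E := hE.inv x (congrArg Subtype.val hx)
        change (x : G) ∈ W
        rw [hWm]
        exact ⟨hxE, fun ρ hρ => (hE.cent hRo hxE x.2 ρ hρ).symm⟩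
    · intro e1 he1W f1 hf1W e2 he2W f2 hf2W he11 hf11 hef11 he21 hf21 hef21
      have hc : ∀ {z : N}, z ∈ W.subgroupOf N → ∀ ρ ∈ R', ρ * (z : G) = z * ρ := by
        intro z hz
        exact ((hWm _).mp hz).2
      have hv : ∀ {z : N}, z ≠ 1 → (z : G) ≠ 1 := fun hz h => hz (Subtype.ext h)
      obtain ⟨w1, hw1, hw11, hw12⟩ := witt h2 e.2 f.2 he1 hf1 hef1 X
        (fun x => ⟨fun h => ⟨hXe x h, hXf x h⟩, fun h => hXm x h.1 h.2⟩) R (hWE he1W) (hWE hf1W)
        (hv he11) (hv hf11) (fun h => hef11 (Subtype.ext h)) (hc he1W) (hc hf1W)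
      obtain ⟨w2, hw2, hw21, hw22⟩ := witt h2 e.2 f.2 he1 hf1 hef1 X
        (fun x => ⟨fun h => ⟨hXe x h, hXf x h⟩, fun h => hXm x h.1 h.2⟩) R (hWE he2W) (hWE hf2W)
        (hv he21) (hv hf21) (fun h => hef21 (Subtype.ext h)) (hc he2W) (hc hf2W)
      replace hw11 : w1 * (e1 : G) * w1⁻¹ = e := hw11
      replace hw12 : w1 * (f1 : G) * w1⁻¹ = f := hw12
      replace hw21 : w2 * (e2 : G) * w2⁻¹ = e := hw21
      replace hw22 : w2 * (f2 : G) * w2⁻¹ = f := hw22
      refine ⟨⟨w2⁻¹ * w1, N.mul_mem (N.inv_mem hw2) hw1⟩, ?_, ?_⟩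
      · apply Subtype.ext
        change w2⁻¹ * w1 * e1 * (w2⁻¹ * w1)⁻¹ = e2
        calc w2⁻¹ * w1 * e1 * (w2⁻¹ * w1)⁻¹ = w2⁻¹ * (w1 * e1 * w1⁻¹) * w2 := by group
          _ = w2⁻¹ * (w2 * e2 * w2⁻¹) * w2 := by rw [hw11, hw21]
          _ = e2 := by group
      · apply Subtype.ext
        change w2⁻¹ * w1 * f1 * (w2⁻¹ * w1)⁻¹ = f2
        calc w2⁻¹ * w1 * f1 * (w2⁻¹ * w1)⁻¹ = w2⁻¹ * (w1 * f1 * w1⁻¹) * w2 := by group
          _ = w2⁻¹ * (w2 * f2 * w2⁻¹) * w2 := by rw [hw12, hw22]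
          _ = f2 := by group

end H73.Pyr
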