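import Mathlib
import Cfsg.Agent.Lib.H73.PyrInd1

/-! S3930: quotients by odd order normal subgroups; reduction of the case |E| = 8. -/

set_option autoImplicit false

namespace H73.Pyr

universe u

section quot
variable {G : Type u} [Group G] [Finite G] {E K : Subgroup G} [K.Normal]

omit [Finite G] [K.Normal] in
theorem odd_sq (hK : Odd (Nat.card K)) {d : G} (hd : d ∈ K) (h : d * d = 1) : d = 1 := by
  have h1 : d ^ Nat.card K = 1 := by
    have := pow_card_eq_one' (x := (⟨d, hd⟩ : K))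
    exact congrArg Subtype.val this
  obtain ⟨j, hj⟩ := hK
  rw [hj, pow_succ, pow_mul, pow_two, h, one_pow, one_mul] at h1
  exact h1

omit [Finite G] in
/-- lift an involution of the quotient -/
theorem lift_inv (hK : Odd (Nat.card K)) (x : G) (hx : x * x ∈ K) :
    ∃ y : G, y * y = 1 ∧ QuotientGroup.mk' K y = QuotientGroup.mk' K x := by
  refine ⟨x ^ Nat.card K, ?_, ?_⟩
  · rw [← pow_add, ← two_mul, pow_mul, pow_two]
    have := pow_card_eq_one' (x := (⟨x * x, hx⟩ : K))
    exact congrArg Subtype.val this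
  · obtain ⟨j, hj⟩ := hK
    have h1 : x ^ Nat.card K = (x * x) ^ j * x := by
      rw [hj, pow_succ, pow_mul, pow_two]
    rw [h1, map_mul]
    have h2 : QuotientGroup.mk' K ((x * x) ^ j) = 1 := by
      have : (x * x) ^ j ∈ K := K.pow_mem hx j
      exact (QuotientGroup.eq_one_iff _).mpr this
    rw [h2, one_mul]

omit [Finite G] in
theorem Big.quot (hE : Big E) (hK : Odd (Nat.card K)) : Big (E.map (QuotientGroup.mk' K)) := by
  refine ⟨hE.nor.map _ (QuotientGroup.mk'_surjective K), ?_, ?_⟩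
  · rintro _ ⟨e, he, rfl⟩
    rw [← map_mul, hE.sq e he, map_one]
  · intro X hX
    obtain ⟨x, rfl⟩ := QuotientGroup.mk'_surjective K X
    have h1 : x * x ∈ K := by
      rw [← map_mul] at hX
      exact (QuotientGroup.eq_one_iff _).mp hX
    obtain ⟨y, hy1, hy2⟩ := lift_inv hK x h1
    exact ⟨y, hE.inv y hy1, hy2⟩

omit [Finite G] in
theorem quot_inj (hE : Big E) (hK : Odd (Nat.card K)) {x y : G} (hx : x ∈ E) (hy : y ∈ E)
    (h : QuotientGroup.mk' K x = QuotientGroup.mk' K y) : x = y := by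
  have h1 : x⁻¹ * y ∈ K := by
    have := QuotientGroup.eq.mp h
    exact this
  have h2 : x⁻¹ * y ∈ E := E.mul_mem (E.inv_mem hx) hy
  have h3 := odd_sq hK h1 (hE.sq _ h2)
  exact (inv_mul_eq_one.mp h3)

omit [Finite G] in
theorem card_quot (hE : Big E) (hK : Odd (Nat.card K)) :
    Nat.card (E.map (QuotientGroup.mk' K)) = Nat.card E := by
  symm
  apply Nat.card_congr
  refine Equiv.ofBijective (fun x => ⟨QuotientGroup.mk' K x, x, x.2, rfl⟩) ⟨?_, ?_⟩
  · intro x y hxy
    exact Subtype.ext (quot_inj hE hK x.2 y.2 (congrArg Subtype.val hxy))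
  · rintro ⟨_, x, hx, rfl⟩
    exact ⟨⟨x, hx⟩, rfl⟩

omit [Finite G] in
theorem Tr.quot (h2 : Tr E) : Tr (E.map (QuotientGroup.mk' K)) := by
  rintro _ ⟨e, he, rfl⟩ _ ⟨f, hf, rfl⟩ he1 hf1
  obtain ⟨g, hg⟩ := h2 e he f hf (fun h => he1 (by rw [h, map_one])) (fun h => hf1 (by rw [h, map_one]))
  exact ⟨QuotientGroup.mk' K g, by rw [← map_mul, ← map_inv, ← map_mul, hg]⟩

omit [Finite G] in
theorem TTr.quot (h2 : TTr E) : TTr (E.map (QuotientGroup.mk' K)) := by
  rintro _ ⟨e, he, rfl⟩ _ ⟨f, hf, rfl⟩ _ ⟨e', he', rfl⟩ _ ⟨f', hf', rfl⟩ he1 hf1 hef he1' hf1' hef'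
  obtain ⟨g, hg1, hg2⟩ := h2 e he f hf e' he' f' hf' (fun h => he1 (by rw [h, map_one]))
    (fun h => hf1 (by rw [h, map_one])) (fun h => hef (by rw [h])) (fun h => he1' (by rw [h, map_one]))
    (fun h => hf1' (by rw [h, map_one])) (fun h => hef' (by rw [h]))
  exact ⟨QuotientGroup.mk' K g, by rw [← map_mul, ← map_inv, ← map_mul, hg1],
    by rw [← map_mul, ← map_inv, ← map_mul, hg2]⟩

end quot

/-- Frattini for a Sylow subgroup of a normal subgroup, as elements -/
theorem frattini {G : Type u} [Group G] [Finite G] (C : Subgroup G) [hC : C.Normal] {r : ℕ}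
    [Fact r.Prime] (R : Sylow r C) (g : G) :
    ∃ c ∈ C, c * g ∈ Subgroup.normalizer (((R : Subgroup C).map C.subtype : Subgroup G) : Set G) := by
  set D' : Subgroup G := (R : Subgroup C).map C.subtype with hD'
  set Q' : Subgroup G := D'.map (MulAut.conj g).toMonoidHom with hQ'
  have hDC : D' ≤ C := by rintro _ ⟨x, _, rfl⟩; exact x.2
  have hQM : Q' ≤ C := by
    rintro _ ⟨x, hx, rfl⟩
    exact hC.conj_mem x (hDC hx) g
  have hDcard : Nat.card D' = Nat.card R :=
    Subgroup.card_map_of_injective C.subtype_injective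
  have hQc : Nat.card (Q'.subgroupOf C) = r ^ (Nat.card C).factorization r := by
    rw [Nat.card_congr (Subgroup.subgroupOfEquivOfLe hQM).toEquiv, hQ',
      Subgroup.card_map_of_injective (MulAut.conj g).injective, hDcard]
    exact R.card_eq_multiplicity
  obtain ⟨m, hm⟩ := MulAction.exists_smul_eq C (Sylow.ofCard (Q'.subgroupOf C) hQc) R
  have h5 : ∀ x : G, x ∈ D' → (m : G) * g * x * ((m : G) * g)⁻¹ ∈ D' := by
    intro x hx
    have h6 : g * x * g⁻¹ ∈ Q' := ⟨x, hx, rfl⟩
    have h7 : (⟨g * x * g⁻¹, hQM h6⟩ : C) ∈ Q'.subgroupOf C := h6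
    have h8 : m * ⟨g * x * g⁻¹, hQM h6⟩ * m⁻¹ ∈ (R : Subgroup C) := by
      have h9 : (R : Subgroup C) = (Q'.subgroupOf C).map (MulAut.conj m).toMonoidHom := by
        rw [← hm]; rfl
      rw [h9]
      exact ⟨_, h7, rfl⟩
    have h10 : ((m * ⟨g * x * g⁻¹, hQM h6⟩ * m⁻¹ : C) : G) ∈ D' := ⟨_, h8, rfl⟩
    convert h10 using 1
    change (m : G) * g * x * ((m : G) * g)⁻¹ = (m : G) * (g * x * g⁻¹) * (m : G)⁻¹
    group
  have h6 : D'.map (MulAut.conj ((m : G) * g)).toMonoidHom = D' := by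
    apply Subgroup.eq_of_le_of_card_ge
    · rintro _ ⟨x, hx, rfl⟩
      exact h5 x hx
    · exact le_of_eq (Subgroup.card_map_of_injective (K := D')
          (f := (MulAut.conj ((m : G) * g)).toMonoidHom) (MulAut.conj _).injective).symm
  refine ⟨m, m.2, ?_⟩
  rw [Subgroup.mem_normalizer_iff]
  intro x
  refine ⟨h5 x, fun hx => ?_⟩
  rw [← h6] at hx
  obtain ⟨x', hx', hxx⟩ := hx
  have h7 : x' = x := (MulAut.conj ((m : G) * g)).injective hxx
  rw [← h7]; exact hx'

theorem three_of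
    (bab : ∀ (G : Type u) [Group G] [Finite G] (E : Subgroup G), Big E → Nat.card E = 8 → TTr E →
      IsPGroup 2 (Subgroup.centralizer (E : Set G)) →
      (∀ x ∈ Subgroup.centralizer (E : Set G), ∀ y ∈ Subgroup.centralizer (E : Set G),
        x * y = y * x) → False)
    (bna : ∀ (G : Type u) [Group G] [Finite G] (E : Subgroup G), Big E → Nat.card E = 8 → TTr E →
      IsPGroup 2 (Subgroup.centralizer (E : Set G)) →
      (∃ x ∈ Subgroup.centralizer (E : Set G), ∃ y ∈ Subgroup.centralizer (E : Set G),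
        x * y ≠ y * x) → False) :
    ∀ (n : ℕ) (G : Type u) [Group G] [Finite G] (E : Subgroup G), Nat.card G = n → Big E →
      Nat.card E = 8 → TTr E → False := by
  intro n
  induction n using Nat.strong_induction_on with
  | _ n ih =>
  intro G _ _ E hn hE h8 h2
  classical
  have hEn := hE.nor
  set C := Subgroup.centralizer (E : Set G) with hC
  by_cases hp : IsPGroup 2 C
  · by_cases hc : ∀ x ∈ C, ∀ y ∈ C, x * y = y * x
    · exact bab G E hE h8 h2 hp hc
    · push Not at hc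
      exact bna G E hE h8 h2 hp hc
  have hCm : ∀ x, x ∈ C → ∀ e ∈ E, e * x = x * e := by
    intro x hx
    rw [hC, Subgroup.mem_centralizer_iff] at hx
    exact hx
  have hCn : C.Normal := by
    constructor
    intro c hc g
    rw [hC, Subgroup.mem_centralizer_iff]
    intro e he
    have h1 : g⁻¹ * e * g ∈ E := by
      have := hE.conj_mem he g⁻¹
      rwa [inv_inv] at this
    have h3 := hCm c hc _ h1
    calc e * (g * c * g⁻¹) = g * ((g⁻¹ * e * g) * c) * g⁻¹ := by group
      _ = g * (c * (g⁻¹ * e * g)) * g⁻¹ := by rw [h3]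
      _ = g * c * g⁻¹ * e := by group
  -- an odd prime
  obtain ⟨r, hr, hrC, hr2⟩ : ∃ r : ℕ, r.Prime ∧ r ∣ Nat.card C ∧ r ≠ 2 := by
    by_contra hcon
    push Not at hcon
    apply hp
    apply IsPGroup.of_card (n := (Nat.card C).primeFactorsList.length)
    exact Nat.eq_prime_pow_of_unique_prime_dvd Nat.card_pos.ne' (fun {d} hd1 hd2 => hcon d hd1 hd2)
  have : Fact r.Prime := ⟨hr⟩
  have hrodd : Odd r := hr.odd_of_ne_two hr2
  obtain ⟨R⟩ : Nonempty (Sylow r C) := inferInstance
  set R' : Subgroup G := (R : Subgroup C).map C.subtype with hR'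
  have hR'C : R' ≤ C := by rintro _ ⟨x, _, rfl⟩; exact x.2
  have hRcard : Nat.card R' = Nat.card R := Subgroup.card_map_of_injective C.subtype_injective
  have hRodd : Odd (Nat.card R') := by
    rw [hRcard]
    obtain ⟨j, hj⟩ := IsPGroup.iff_card.mp R.2
    rw [hj]
    exact hrodd.pow
  have hR1 : 1 < Nat.card R' := by
    rw [hRcard]
    have h3 : r ∣ Nat.card R := R.dvd_card_of_dvd_card hrC
    have := Nat.le_of_dvd Nat.card_pos h3
    exact lt_of_lt_of_le hr.one_lt this
  set N := Subgroup.normalizer (R' : Set G) with hN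
  by_cases hNt : N = ⊤
  · -- quotient
    have hRn : R'.Normal := Subgroup.normalizer_eq_top_iff.mp hNt
    refine ih (Nat.card (G ⧸ R')) ?_ (G ⧸ R') (E.map (QuotientGroup.mk' R')) rfl (hE.quot hRodd)
      (by rw [card_quot hE hRodd, h8]) h2.quot
    rw [← hn, Subgroup.card_eq_card_quotient_mul_card_subgroup R']
    have : 0 < Nat.card (G ⧸ R') := Nat.card_pos
    nlinarith
  · have hEN : E ≤ N := by
      intro x hx
      rw [hN, Subgroup.mem_normalizer_iff]
      intro ρ
      have h3 : ∀ ρ ∈ C, x * ρ * x⁻¹ = ρ := by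
        intro ρ hρ
        rw [hCm ρ hρ x hx, mul_inv_cancel_right]
      constructor
      · intro hρ
        rw [h3 ρ (hR'C hρ)]; exact hρ
      · intro hρ
        have h4 : ρ ∈ C := by
          have h5 := hCn.conj_mem _ (hR'C hρ) x⁻¹
          convert h5 using 1
          group
        rw [h3 ρ h4] at hρ
        exact hρ
    refine ih (Nat.card N) ?_ N (E.subgroupOf N) rfl ?_ ?_ ?_
    · rw [← hn]
      exact lt_of_le_of_ne (Subgroup.card_le_card_group N)
        (fun h => hNt (Subgroup.card_eq_iff_eq_top N |>.mp h))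
    · refine ⟨hEn.subgroupOf N, ?_, ?_⟩
      · intro x hx
        exact Subtype.ext (hE.sq x hx)
      · intro x hx
        exact hE.inv (x : G) (congrArg Subtype.val hx)
    · rw [Nat.card_congr (Subgroup.subgroupOfEquivOfLe hEN).toEquiv, h8]
    · intro e1 he1W f1 hf1W e2 he2W f2 hf2W he11 hf11 hef11 he21 hf21 hef21
      have hv : ∀ {z : N}, z ≠ 1 → (z : G) ≠ 1 := fun hz h => hz (Subtype.ext h)
      obtain ⟨g, hg1, hg2⟩ := h2 e1 he1W f1 hf1W e2 he2W f2 hf2W (hv he11) (hv hf11)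
        (fun h => hef11 (Subtype.ext h)) (hv he21) (hv hf21) (fun h => hef21 (Subtype.ext h))
      obtain ⟨c, hc, hcN⟩ := frattini C R g
      replace hg1 : g * (e1 : G) * g⁻¹ = e2 := hg1
      replace hg2 : g * (f1 : G) * g⁻¹ = f2 := hg2
      refine ⟨⟨c * g, hcN⟩, ?_, ?_⟩
      · apply Subtype.ext
        change c * g * e1 * (c * g)⁻¹ = e2
        calc c * g * e1 * (c * g)⁻¹ = c * (g * e1 * g⁻¹) * c⁻¹ := by group
          _ = c * e2 * c⁻¹ := by rw [hg1]
          _ = e2 := by rw [← hCm c hc e2 he2W, mul_inv_cancel_right]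
      · apply Subtype.ext
        change c * g * f1 * (c * g)⁻¹ = f2
        calc c * g * f1 * (c * g)⁻¹ = c * (g * f1 * g⁻¹) * c⁻¹ := by group
          _ = c * f2 * c⁻¹ := by rw [hg2]
          _ = f2 := by rw [← hCm c hc f2 hf2W, mul_inv_cancel_right]

end H73.Pyr
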