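import Mathlib
import Cfsg.Agent.Lib.H73.PyrQuot

/-! S3930: the case of a quaternion Sylow 2-subgroup modulo a group of odd order; basics. -/

set_option autoImplicit false
namespace H73.Pyr

theorem even_rank_aux {V : Type*} [AddCommGroup V] [Finite V] {r : ℕ} [Fact r.Prime] (hr2 : r ≠ 2)
    [Module (ZMod r) V] (F K : V →ₗ[ZMod r] V) (hF : ∀ x, F (F x) = -x) (hK : ∀ x, K (K x) = -x)
    (hFK : ∀ x, F (K x) = -(K (F x))) : ∃ m, Nat.card V = r ^ (2 * m) := by
  classical
  have hr : r.Prime := Fact.out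
  let I : V →ₗ[ZMod r] V := LinearMap.id
  have hF : F ∘ₗ F = -I := LinearMap.ext hF
  have hK : K ∘ₗ K = -I := LinearMap.ext hK
  have hFK : F ∘ₗ K = -(K ∘ₗ F) := LinearMap.ext hFK
  have : Module.Finite (ZMod r) V := Module.Finite.of_finite
  set m := Module.finrank (ZMod r) V with hm
  have hcard : Nat.card V = r ^ m := by
    have h1 : Nat.card V = Nat.card (ZMod r) ^ m := Module.natCard_eq_pow_finrank
    rw [Nat.card_zmod] at h1
    exact h1
  have hneg : ∀ L : V →ₗ[ZMod r] V, LinearMap.det (-L) = (-1) ^ m * LinearMap.det L := by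
    intro L
    have h0 : -L = (-1 : ZMod r) • L := by rw [neg_one_smul]
    rw [h0, LinearMap.det_smul]
  have hI : LinearMap.det I = 1 := LinearMap.det_id
  have hcomp : ∀ L M : V →ₗ[ZMod r] V, LinearMap.det (L ∘ₗ M) = LinearMap.det L * LinearMap.det M :=
    fun L M => LinearMap.det_comp L M
  have hev : Even m := by
    by_contra hodd
    rw [Nat.not_even_iff_odd] at hodd
    have h1 : LinearMap.det F * LinearMap.det F = -1 := by
      rw [← hcomp, hF, hneg, hodd.neg_one_pow, hI, mul_one]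
    have h2 : LinearMap.det K * LinearMap.det K = -1 := by
      rw [← hcomp, hK, hneg, hodd.neg_one_pow, hI, mul_one]
    have h3 : LinearMap.det F * LinearMap.det K = -(LinearMap.det F * LinearMap.det K) := by
      have h30 := hcomp F K
      rw [hFK, hneg, hodd.neg_one_pow, hcomp, neg_one_mul, mul_comm (LinearMap.det K)] at h30
      exact h30.symm
    have h4 : (2 : ZMod r) * (LinearMap.det F * LinearMap.det K) = 0 := by
      rw [two_mul]; nth_rw 2 [h3]; ring
    have h5 : (2 : ZMod r) ≠ 0 := by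
      intro h
      have h6 : ((2 : ℕ) : ZMod r) = 0 := by exact_mod_cast h
      rw [ZMod.natCast_eq_zero_iff] at h6
      exact hr2 ((Nat.prime_dvd_prime_iff_eq hr Nat.prime_two).mp h6)
    have h6 : LinearMap.det F * LinearMap.det K = 0 := by
      rcases mul_eq_zero.mp h4 with h | h
      · exact absurd h h5
      · exact h
    have h7 : (LinearMap.det F * LinearMap.det K) * (LinearMap.det F * LinearMap.det K) = 1 := by
      calc _ = (LinearMap.det F * LinearMap.det F) * (LinearMap.det K * LinearMap.det K) := by ring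
        _ = 1 := by rw [h1, h2]; ring
    rw [h6, mul_zero] at h7
    exact zero_ne_one h7
  obtain ⟨k, hk⟩ := hev
  exact ⟨k, by rw [hcard, hk, two_mul]⟩

/-- a quaternion group acting on an elementary abelian group of odd exponent with the central involution
inverting everything: even rank -/
theorem even_rank {U : Type*} [CommGroup U] [Finite U] {r : ℕ} (hr : r.Prime) (hr2 : r ≠ 2)
    (hexp : ∀ u : U, u ^ r = 1) (f g : U →* U) (hff : ∀ u, f (f u) = u⁻¹) (hgg : ∀ u, g (g u) = u⁻¹)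
    (hfg : ∀ u, f (g u) = (g (f u))⁻¹) : ∃ m, Nat.card U = r ^ (2 * m) := by
  classical
  have : Fact r.Prime := ⟨hr⟩
  letI : Module (ZMod r) (Additive U) := AddCommGroup.zmodModule (n := r) (fun x => by
    change Additive.ofMul (Additive.toMul x ^ r) = 0
    rw [hexp]; rfl)
  exact even_rank_aux (V := Additive U) hr2 (AddMonoidHom.toZModLinearMap r (MonoidHom.toAdditive f))
    (AddMonoidHom.toZModLinearMap r (MonoidHom.toAdditive g))
    (fun x => by
      change Additive.ofMul (f (f (Additive.toMul x))) = -x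
      rw [hff]; rfl)
    (fun x => by
      change Additive.ofMul (g (g (Additive.toMul x))) = -x
      rw [hgg]; rfl)
    (fun x => by
      change Additive.ofMul (f (g (Additive.toMul x))) = -Additive.ofMul (g (f (Additive.toMul x)))
      rw [hfg]; rfl)

/-- number of involutions -/
noncomputable def ninv (G : Type*) [Group G] : ℕ := Nat.card {x : G // orderOf x = 2}

section
variable {G : Type*} [Group G]

theorem two_iff {x : G} : orderOf x = 2 ↔ x * x = 1 ∧ x ≠ 1 := by
  have : Fact (Nat.Prime 2) := ⟨Nat.prime_two⟩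
  rw [orderOf_eq_prime_iff, pow_two]

/-- all involutions are conjugate -/
def Cj (G : Type*) [Group G] : Prop := ∀ x y : G, orderOf x = 2 → orderOf y = 2 → ∃ g : G, g * x * g⁻¹ = y

/-- commuting involutions are equal -/
def Cm (G : Type*) [Group G] : Prop := ∀ x y : G, orderOf x = 2 → orderOf y = 2 → x * y = y * x → x = y

section quot
variable {K : Subgroup G} [K.Normal]

theorem mk_two (hK : Odd (Nat.card K)) {x : G} (hx : orderOf x = 2) :
    orderOf (QuotientGroup.mk' K x) = 2 := by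
  rw [two_iff] at hx ⊢
  refine ⟨by rw [← map_mul, hx.1, map_one], fun h => hx.2 ?_⟩
  exact odd_sq hK ((QuotientGroup.eq_one_iff x).mp h) hx.1

theorem lift_two (hK : Odd (Nat.card K)) (X : G ⧸ K) (hX : orderOf X = 2) :
    ∃ x : G, orderOf x = 2 ∧ QuotientGroup.mk' K x = X := by
  rw [two_iff] at hX
  obtain ⟨x, rfl⟩ := QuotientGroup.mk'_surjective K X
  have h1 : x * x ∈ K := by
    have := hX.1
    rw [← map_mul] at this
    exact (QuotientGroup.eq_one_iff _).mp this
  obtain ⟨y, hy1, hy2⟩ := lift_inv hK x h1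
  refine ⟨y, two_iff.mpr ⟨hy1, ?_⟩, hy2⟩
  rintro rfl
  apply hX.2
  rw [← hy2, map_one]

theorem Cj.quot (hK : Odd (Nat.card K)) (h : Cj G) : Cj (G ⧸ K) := by
  intro X Y hX hY
  obtain ⟨x, hx, rfl⟩ := lift_two hK X hX
  obtain ⟨y, hy, rfl⟩ := lift_two hK Y hY
  obtain ⟨g, rfl⟩ := h x y hx hy
  exact ⟨QuotientGroup.mk' K g, by rw [← map_mul, ← map_inv, ← map_mul]⟩

theorem Cm.quot (hK : Odd (Nat.card K)) (h : Cm G) : Cm (G ⧸ K) := by
  intro X Y hX hY hXY
  obtain ⟨x, hx, rfl⟩ := lift_two hK X hX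
  obtain ⟨y', rfl⟩ := QuotientGroup.mk'_surjective K Y
  have hx2 := (two_iff.mp hx).1
  have hxi : x⁻¹ = x := inv_eq_of_mul_eq_one_left hx2
  -- v with x y' x = y' v
  set v := y'⁻¹ * x * y' * x⁻¹ with hv
  have hvK : v ∈ K := by
    have h1 : QuotientGroup.mk' K v = 1 := by
      have h3 : QuotientGroup.mk' K x * QuotientGroup.mk' K y' = QuotientGroup.mk' K y' * QuotientGroup.mk' K x := hXY
      rw [hv, map_mul, map_mul, map_mul, map_inv, map_inv, mul_assoc (QuotientGroup.mk' K y')⁻¹, h3]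
      group
    exact (QuotientGroup.eq_one_iff v).mp h1
  have hxv : x * v * x⁻¹ = v⁻¹ := by
    rw [hv]
    simp only [mul_inv_rev, inv_inv]
    rw [hxi]
    have : x * (y'⁻¹ * x * y' * x) * x = x * y'⁻¹ * x * y' * (x * x) := by group
    rw [this, hx2]; group
  obtain ⟨n, hn⟩ := hK
  have hvp : v ^ Nat.card K = 1 := by
    have := pow_card_eq_one' (x := (⟨v, hvK⟩ : K))
    exact congrArg Subtype.val this
  set w := v ^ (n + 1) with hw
  have hwK : w ∈ K := K.pow_mem hvK _
  have hww : w * w = v := by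
    rw [hw, ← pow_add]
    have : n + 1 + (n + 1) = Nat.card K + 1 := by omega
    rw [this, pow_succ, hvp, one_mul]
  have hxw : x * w * x⁻¹ = w⁻¹ := by
    rw [hw, ← conj_pow, hxv, inv_pow]
  set y'' := y' * w with hy''
  have hc : x * y'' * x⁻¹ = y'' := by
    have h1 : x * y' * x⁻¹ = y' * v := by
      rw [hv]; rw [hxi]
      group
    calc x * y'' * x⁻¹ = (x * y' * x⁻¹) * (x * w * x⁻¹) := by rw [hy'']; group
      _ = y' * (w * w) * w⁻¹ := by rw [h1, hxw, hww]
      _ = y'' := by rw [hy'']; group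
  have hmk : QuotientGroup.mk' K y'' = QuotientGroup.mk' K y' := by
    rw [hy'', map_mul]
    have : QuotientGroup.mk' K w = 1 := (QuotientGroup.eq_one_iff w).mpr hwK
    rw [this, mul_one]
  have hy2 : y'' * y'' ∈ K := by
    have h1 := (two_iff.mp hY).1
    rw [← hmk, ← map_mul] at h1
    exact (QuotientGroup.eq_one_iff _).mp h1
  set y := y'' ^ Nat.card K with hy
  have hyc : x * y = y * x := by
    have h1 : x * y * x⁻¹ = y := by rw [hy, ← conj_pow, hc]
    calc x * y = (x * y * x⁻¹) * x := by group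
      _ = y * x := by rw [h1]
  have hymk : QuotientGroup.mk' K y = QuotientGroup.mk' K y' := by
    rw [hy, map_pow, hmk, hn, pow_succ, pow_mul]
    have h1 := (two_iff.mp hY).1
    rw [pow_two, h1, one_pow, one_mul]
  have hy1 : y * y = 1 := by
    rw [hy, ← pow_add, ← two_mul, pow_mul, pow_two]
    have := pow_card_eq_one' (x := (⟨y'' * y'', hy2⟩ : K))
    exact congrArg Subtype.val this
  have hyo : orderOf y = 2 := by
    rw [two_iff]
    refine ⟨hy1, fun h1 => ?_⟩
    apply (two_iff.mp hY).2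
    rw [← hymk, h1, map_one]
  have := h x y hx hyo hyc
  rw [this, hymk]

end quot

/-- the subgroup of `V` inverted by `t` -/
def invSub (V : Subgroup G) (hab : ∀ x ∈ V, ∀ y ∈ V, x * y = y * x) (t : G) : Subgroup G where
  carrier := {v | v ∈ V ∧ t * v * t⁻¹ = v⁻¹}
  mul_mem' := by
    rintro a b ⟨ha, ha'⟩ ⟨hb, hb'⟩
    refine ⟨V.mul_mem ha hb, ?_⟩
    calc t * (a * b) * t⁻¹ = (t * a * t⁻¹) * (t * b * t⁻¹) := by group
      _ = (b * a)⁻¹ := by rw [ha', hb', mul_inv_rev]
      _ = (a * b)⁻¹ := by rw [hab b hb a ha]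
  one_mem' := ⟨V.one_mem, by simp⟩
  inv_mem' := by
    rintro a ⟨ha, ha'⟩
    refine ⟨V.inv_mem ha, ?_⟩
    calc t * a⁻¹ * t⁻¹ = (t * a * t⁻¹)⁻¹ := by group
      _ = _ := by rw [ha']

theorem mem_invSub {V : Subgroup G} {hab : ∀ x ∈ V, ∀ y ∈ V, x * y = y * x} {t v : G} :
    v ∈ invSub V hab t ↔ v ∈ V ∧ t * v * t⁻¹ = v⁻¹ := Iff.rfl

theorem card_mul [Finite G] (V : Subgroup G) [V.Normal] (hV : Odd (Nat.card V))
    (hab : ∀ x ∈ V, ∀ y ∈ V, x * y = y * x) (hc : Cj G) {t : G} (ht : orderOf t = 2) :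
    ninv G = ninv (G ⧸ V) * Nat.card (invSub V hab t) := by
  classical
  have h1 : ∀ X : {X : G ⧸ V // orderOf X = 2}, ∃ g : G, QuotientGroup.mk' V (g * t * g⁻¹) = X.1 := by
    intro X
    obtain ⟨x, hx, hxX⟩ := lift_two hV X.1 X.2
    obtain ⟨g, hg⟩ := hc t x ht hx
    exact ⟨g, by rw [hg, hxX]⟩
  choose g hg using h1
  have ht2 := two_iff.mp ht
  have hti : t⁻¹ = t := inv_eq_of_mul_eq_one_left ht2.1
  have hu : ∀ u ∈ invSub V hab t, orderOf (t * u) = 2 := by
    intro u hu
    rw [mem_invSub] at hu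
    rw [two_iff]
    constructor
    · calc t * u * (t * u) = (t * u * t⁻¹) * u := by rw [hti]; group
        _ = 1 := by rw [hu.2]; group
    · intro h
      have h2 : t = u⁻¹ := by
        rw [eq_inv_iff_mul_eq_one]; exact h
      have h3 : t ∈ V := by rw [h2]; exact V.inv_mem hu.1
      exact ht2.2 (odd_sq hV h3 ht2.1)
  have hor : ∀ a x : G, orderOf x = 2 → orderOf (a * x * a⁻¹) = 2 := by
    intro a x hx
    rw [two_iff] at hx ⊢
    refine ⟨?_, fun h => hx.2 ?_⟩
    · calc a * x * a⁻¹ * (a * x * a⁻¹) = a * (x * x) * a⁻¹ := by group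
        _ = 1 := by rw [hx.1]; group
    · calc x = a⁻¹ * (a * x * a⁻¹) * a := by group
        _ = 1 := by rw [h]; group
  have hmku : ∀ u ∈ invSub V hab t, QuotientGroup.mk' V u = 1 :=
    fun u hu => (QuotientGroup.eq_one_iff u).mpr hu.1
  unfold ninv
  rw [← Nat.card_prod]
  symm
  apply Nat.card_congr
  refine Equiv.ofBijective (fun q => ⟨g q.1 * (t * q.2.1) * (g q.1)⁻¹, hor _ _ (hu _ q.2.2)⟩) ⟨?_, ?_⟩
  · rintro ⟨X, u, hu1⟩ ⟨Y, v, hv1⟩ h
    have h2 : g X * (t * u) * (g X)⁻¹ = g Y * (t * v) * (g Y)⁻¹ := congrArg Subtype.val h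
    have h3 : ∀ (Z : {X : G ⧸ V // orderOf X = 2}) (w : G), w ∈ invSub V hab t →
        QuotientGroup.mk' V (g Z * (t * w) * (g Z)⁻¹) = Z.1 := by
      intro Z w hw
      have h4 := hg Z
      rw [map_mul, map_mul] at h4
      rw [map_mul, map_mul, map_mul, hmku w hw, mul_one, h4]
    have h4 : X = Y := by
      apply Subtype.ext
      rw [← h3 X u hu1, ← h3 Y v hv1, h2]
    subst h4
    have h5 : u = v := by
      have h6 : (g X)⁻¹ * (g X * (t * u) * (g X)⁻¹) * g X = (g X)⁻¹ * (g X * (t * v) * (g X)⁻¹) * g X := by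
        rw [h2]
      have h7 : t * u = t * v := by
        calc t * u = (g X)⁻¹ * (g X * (t * u) * (g X)⁻¹) * g X := by group
          _ = _ := h6
          _ = t * v := by group
      exact mul_left_cancel h7
    subst h5
    rfl
  · rintro ⟨x, hx⟩
    set X : {X : G ⧸ V // orderOf X = 2} := ⟨QuotientGroup.mk' V x, mk_two hV hx⟩ with hX
    set y := (g X)⁻¹ * x * g X with hy
    have hyo : orderOf y = 2 := by
      have := hor (g X)⁻¹ x hx
      rwa [inv_inv] at this
    have h4 : QuotientGroup.mk' V y = QuotientGroup.mk' V t := by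
      have h5 : QuotientGroup.mk' V x = QuotientGroup.mk' V (g X * t * (g X)⁻¹) := (hg X).symm
      rw [hy, map_mul, map_mul, h5, map_mul, map_mul, map_inv]
      group
    have h5 : t⁻¹ * y ∈ V := by
      have := (QuotientGroup.eq (s := V) (a := t) (b := y)).mp h4.symm
      exact this
    have hy2 := (two_iff.mp hyo).1
    have h6 : t⁻¹ * y ∈ invSub V hab t := by
      refine ⟨h5, ?_⟩
      have hyi : y⁻¹ = y := inv_eq_of_mul_eq_one_left hy2
      rw [mul_inv_rev, inv_inv, hyi, hti]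
      calc t * (t * y) * t = (t * t) * y * t := by group
        _ = y * t := by rw [ht2.1, one_mul]
    refine ⟨⟨X, ⟨t⁻¹ * y, h6⟩⟩, ?_⟩
    apply Subtype.ext
    change g X * (t * (t⁻¹ * y)) * (g X)⁻¹ = x
    rw [hy]; group

theorem card_invSub [Finite G] (V : Subgroup G) [hVn : V.Normal] {r : ℕ} (hr : r.Prime) (hr2 : r ≠ 2)
    (hab : ∀ x ∈ V, ∀ y ∈ V, x * y = y * x) (hexp : ∀ x ∈ V, x ^ r = 1) {t i j : G} 
    (hi : i * i = t) (hj : j * j = t) (hij : i * j = t * j * i) :
    ∃ m, Nat.card (invSub V hab t) = r ^ (2 * m) := by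
  classical
  set U := invSub V hab t with hU
  letI : CommGroup U := { (inferInstance : Group U) with
    mul_comm := fun a b => Subtype.ext (hab a a.2.1 b b.2.1) }
  have hmem : ∀ a : G, a * a = t → ∀ u ∈ U, a * u * a⁻¹ ∈ U := by
    intro a ha u hu
    refine ⟨hVn.conj_mem u hu.1 a, ?_⟩
    have h1 : t * a = a * t := by rw [← ha]; group
    have h2 : a⁻¹ * t⁻¹ = t⁻¹ * a⁻¹ := by rw [← mul_inv_rev, ← mul_inv_rev, h1]
    calc t * (a * u * a⁻¹) * t⁻¹ = (t * a) * u * (a⁻¹ * t⁻¹) := by group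
      _ = a * (t * u * t⁻¹) * a⁻¹ := by rw [h1, h2]; group
      _ = (a * u * a⁻¹)⁻¹ := by rw [hu.2]; group
  let F : ∀ a : G, a * a = t → (U →* U) := fun a ha =>
    { toFun := fun u => ⟨a * u * a⁻¹, hmem a ha u u.2⟩
      map_one' := by apply Subtype.ext; change a * 1 * a⁻¹ = 1; group
      map_mul' := by
        intro x y
        apply Subtype.ext
        change a * ((x : G) * y) * a⁻¹ = a * x * a⁻¹ * (a * y * a⁻¹)
        group }
  have hff : ∀ (a : G) (ha : a * a = t) (u : U), F a ha (F a ha u) = u⁻¹ := by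
    intro a ha u
    apply Subtype.ext
    change a * (a * (u : G) * a⁻¹) * a⁻¹ = (u : G)⁻¹
    rw [← u.2.2, ← ha]; group
  apply even_rank hr hr2 (fun u => Subtype.ext (hexp u u.2.1)) (F i hi) (F j hj) (hff i hi) (hff j hj)
  intro u
  apply Subtype.ext
  change i * (j * (u : G) * j⁻¹) * i⁻¹ = (j * (i * (u : G) * i⁻¹) * j⁻¹)⁻¹
  have h1 := (hmem j hj _ (hmem i hi u u.2)).2
  rw [← h1]
  calc i * (j * (u : G) * j⁻¹) * i⁻¹ = (i * j) * u * (i * j)⁻¹ := by group
    _ = _ := by rw [hij]; group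

end
end H73.Pyr
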