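import Mathlib
import Cfsg.Agent.S4037
import Cfsg.Agent.S0205
import Cfsg.Agent.S0144
import Cfsg.Agent.Lib.H30.FrobAct
import Cfsg.Agent.Lib.H73.SolvSmall
import Cfsg.Agent.Lib.H73.PyrQ1

/-! S3930: the case of a quaternion Sylow 2-subgroup modulo a group of odd order; the induction. -/

set_option autoImplicit false
open Cfsg
namespace H73.Pyr

universe u

theorem aut9 {V : Type u} [Group V] [Finite V] (h9 : Nat.card V = 9) :
    Group.IsSolvable (MulAut V) := by
  classical
  have hprime : ∀ l : ℕ, l.Prime → l ∣ Nat.card (MulAut V) → l = 2 ∨ l = 3 := by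
    intro l hl hdvd
    by_contra hcon
    push Not at hcon
    have : Fact l.Prime := ⟨hl⟩
    obtain ⟨X, hX⟩ := exists_prime_orderOf_dvd_card' l hdvd
    have h5 : 5 ≤ l := by
      have h2 := hl.two_le
      have h4 : l ≠ 4 := by rintro rfl; exact absurd hl (by decide)
      omega
    set Z := Subgroup.zpowers X with hZ
    have hZp : IsPGroup l Z := by
      apply IsPGroup.of_card (n := 1)
      rw [Nat.card_zpowers, hX, pow_one]
    have hmod := hZp.card_modEq_card_fixedPoints V
    -- the fixed points form a subgroup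
    let F : Subgroup V :=
      { carrier := {v | X v = v}
        mul_mem' := by
          intro a b ha hb
          change X (a * b) = a * b
          rw [map_mul, show X a = a from ha, show X b = b from hb]
        one_mem' := map_one X
        inv_mem' := by
          intro a ha
          change X a⁻¹ = a⁻¹
          rw [map_inv, show X a = a from ha] }
    have hfix : Nat.card (MulAction.fixedPoints Z V) = Nat.card F := by
      apply Nat.card_congr
      refine Equiv.subtypeEquivRight ?_
      intro v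
      rw [MulAction.mem_fixedPoints]
      constructor
      · intro h
        exact h ⟨X, Subgroup.mem_zpowers X⟩
      · intro h
        rintro ⟨Y, hY⟩
        obtain ⟨s, rfl⟩ := Subgroup.mem_zpowers_iff.mp hY
        change (X ^ s) • v = v
        have h1 : X ∈ MulAction.stabilizer (MulAut V) v := h
        exact Subgroup.zpow_mem _ h1 s
    rw [hfix, h9] at hmod
    have hFd : Nat.card F ∣ 9 := by rw [← h9]; exact Subgroup.card_subgroup_dvd_card F
    have hF9 : Nat.card F = 9 := by
      have h1 : Nat.card F ∈ Nat.divisors 9 := Nat.mem_divisors.mpr ⟨hFd, by norm_num⟩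
      have h2 : Nat.divisors 9 = {1, 3, 9} := by decide
      rw [h2] at h1
      simp only [Finset.mem_insert, Finset.mem_singleton] at h1
      rcases h1 with h | h | h
      · exfalso
        rw [h] at hmod
        have h3 : l ∣ 9 - 1 := (Nat.modEq_iff_dvd' (by norm_num)).mp hmod.symm
        have h4 : l ≤ 8 := Nat.le_of_dvd (by norm_num) h3
        interval_cases l <;> first | (exact absurd hl (by decide)) | (exact absurd h3 (by decide))
      · exfalso
        rw [h] at hmod
        have h3 : l ∣ 9 - 3 := (Nat.modEq_iff_dvd' (by norm_num)).mp hmod.symm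
        have h4 : l ≤ 6 := Nat.le_of_dvd (by norm_num) h3
        interval_cases l <;> first | (exact absurd hl (by decide)) | (exact absurd h3 (by decide))
      · exact h
    have hFtop : F = ⊤ := by
      apply Subgroup.eq_top_of_card_eq
      rw [hF9, h9]
    have hX1 : X = 1 := by
      ext v
      have : v ∈ F := by rw [hFtop]; trivial
      exact this
    rw [hX1, orderOf_one] at hX
    exact hl.one_lt.ne hX
  -- the order is 2^a 3^b
  have hne : Nat.card (MulAut V) ≠ 0 := Nat.card_pos.ne'
  have hcard : Nat.card (MulAut V) = 2 ^ (Nat.card (MulAut V)).factorization 2 *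
      3 ^ (Nat.card (MulAut V)).factorization 3 := by
    conv_lhs => rw [← Nat.prod_factorization_pow_eq_self hne]
    rw [Finsupp.prod_of_support_subset (s := ({2, 3} : Finset ℕ))]
    · rw [Finset.prod_pair (by norm_num)]
    · intro q hq
      rw [Nat.support_factorization, Nat.mem_primeFactors] at hq
      rcases hprime q hq.1 hq.2.1 with h | h
      · simp [h]
      · simp [h]
    · intro i _
      simp
  exact Cfsg.Agent.S0144.result 2 3 _ _ Nat.prime_two Nat.prime_three hcard

theorem nine {G : Type u} [Group G] [Finite G] (V : Subgroup G) [hVn : V.Normal] (hV : Odd (Nat.card V))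
    (hab : ∀ x ∈ V, ∀ y ∈ V, x * y = y * x) (hmin : ∀ M : Subgroup G, M.Normal → M ≤ V → M = ⊥ ∨ M = V)
    (hc : Cj G) {t : G} (ht : orderOf t = 2) (h1 : ninv (G ⧸ V) = 1)
    (hU : Nat.card (invSub V hab t) = 9) : Group.IsSolvable G := by
  classical
  set U := invSub V hab t with hUdef
  have ht2 := two_iff.mp ht
  have hUV : U ≤ V := fun u hu => hu.1
  have hUn : U.Normal := by
    constructor
    intro u hu g
    refine ⟨hVn.conj_mem u hu.1 g, ?_⟩
    have h2 : QuotientGroup.mk' V (g⁻¹ * t * g) = QuotientGroup.mk' V t := by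
      have h3 : orderOf (g⁻¹ * t * g) = 2 := by
        rw [two_iff]
        refine ⟨?_, fun h => ht2.2 ?_⟩
        · calc g⁻¹ * t * g * (g⁻¹ * t * g) = g⁻¹ * (t * t) * g := by group
            _ = 1 := by rw [ht2.1]; group
        · calc t = g * (g⁻¹ * t * g) * g⁻¹ := by group
            _ = 1 := by rw [h]; group
      have h4 := mk_two hV h3
      have h5 := mk_two hV ht
      have h6 : Subsingleton {x : G ⧸ V // orderOf x = 2} := by
        have := (Nat.card_eq_one_iff_unique.mp h1).1
        exact this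
      exact congrArg Subtype.val (h6.elim ⟨_, h4⟩ ⟨_, h5⟩)
    have h3 : t⁻¹ * (g⁻¹ * t * g) ∈ V := (QuotientGroup.eq (s := V)).mp h2.symm
    set v := t⁻¹ * (g⁻¹ * t * g) with hv
    have h4 : g⁻¹ * t * g = t * v := by rw [hv]; group
    have h5 : v * u * v⁻¹ = u := by rw [hab v h3 u hu.1]; group
    calc t * (g * u * g⁻¹) * t⁻¹ = g * ((g⁻¹ * t * g) * u * (g⁻¹ * t * g)⁻¹) * g⁻¹ := by group
      _ = g * (t * (v * u * v⁻¹) * t⁻¹) * g⁻¹ := by rw [h4]; group
      _ = g * u⁻¹ * g⁻¹ := by rw [h5, hu.2]
      _ = (g * u * g⁻¹)⁻¹ := by group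
  have hUeq : U = V := by
    rcases hmin U hUn hUV with h | h
    · rw [h, Subgroup.card_bot] at hU
      norm_num at hU
    · exact h
  have h9 : Nat.card V = 9 := by rw [← hUeq]; exact hU
  set C := Subgroup.centralizer (V : Set G) with hC
  have hCn : C.Normal := by
    rw [hC]; exact Subgroup.normal_centralizer (H := V)
  have hCodd : Odd (Nat.card C) := by
    rw [← Nat.not_even_iff_odd, even_iff_two_dvd]
    intro h2
    have : Fact (Nat.Prime 2) := ⟨Nat.prime_two⟩
    obtain ⟨x, hx⟩ := exists_prime_orderOf_dvd_card' 2 h2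
    have hx' : orderOf (x : G) = 2 := by rw [Subgroup.orderOf_coe]; exact hx
    obtain ⟨g, hg⟩ := hc x t hx' ht
    have htC : t ∈ C := by rw [← hg]; exact hCn.conj_mem x x.2 g
    rw [hC, Subgroup.mem_centralizer_iff] at htC
    have hVb : ∀ v ∈ V, v = 1 := by
      intro v hv
      have h3 : t * v * t⁻¹ = v := by rw [← htC v hv]; group
      have h4 : v ∈ U := by rw [hUeq]; exact hv
      have h5 : v = v⁻¹ := by rw [← h4.2]; exact h3.symm
      apply odd_sq hV hv
      nth_rw 1 [h5]; group
    have : V = ⊥ := by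
      rw [eq_bot_iff]; intro v hv; exact Subgroup.mem_bot.mpr (hVb v hv)
    rw [this, Subgroup.card_bot] at h9
    norm_num at h9
  have hCs : Group.IsSolvable C := Cfsg.Agent.S0205.result hCodd
  have hAs : Group.IsSolvable (MulAut V) := aut9 h9
  refine Group.isSolvable_of_ker_le_range C.subtype (MulAut.conjNormal : G →* MulAut V) ?_
  intro g hg
  rw [Subgroup.range_subtype, hC, Subgroup.mem_centralizer_iff]
  intro v hv
  rw [MonoidHom.mem_ker] at hg
  have h2 : (MulAut.conjNormal g : MulAut V) ⟨v, hv⟩ = ⟨v, hv⟩ := by rw [hg]; rfl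
  have h3 := congrArg Subtype.val h2
  rw [MulAut.conjNormal_apply] at h3
  calc v * g = (g * v * g⁻¹) * g := by rw [h3]
    _ = g * v := by group

theorem quat {p : ℕ} (hp : p.Prime) : ∀ (n : ℕ) (G : Type u) [Group G] [Finite G] (k : ℕ) (t i j : G),
    Nat.card G = n → Cj G → Cm G → ninv G = p ^ k → orderOf t = 2 → i * i = t → j * j = t →
    i * j = t * j * i → Even k ∧ (p ^ k = 9 → Group.IsSolvable G) := by
  intro n
  induction n using Nat.strong_induction_on with
  | _ n ih =>
  intro G _ _ k t i j hn hcj hcm hk ht hi hj hij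
  classical
  rcases Nat.eq_zero_or_pos k with rfl | hkpos
  · exact ⟨⟨0, rfl⟩, fun h => by norm_num at h⟩
  have ht2 := two_iff.mp ht
  set N := Subgroup.normalClosure ({t} : Set G) with hN
  have hNs : Group.IsSolvable N := by
    apply Cfsg.Agent.S4037.result t hp k
    rw [← hk]
    change Nat.card (ConjClasses.mk t).carrier = _
    unfold ninv
    apply Nat.card_congr
    refine Equiv.subtypeEquivRight ?_
    intro x
    rw [ConjClasses.mem_carrier_iff_mk_eq, ConjClasses.mk_eq_mk_iff_isConj]
    constructor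
    · intro h
      obtain ⟨g, hg⟩ := isConj_iff.mp h.symm
      rw [← hg]
      rw [two_iff]
      refine ⟨?_, fun h => ht2.2 ?_⟩
      · calc g * t * g⁻¹ * (g * t * g⁻¹) = g * (t * t) * g⁻¹ := by group
          _ = 1 := by rw [ht2.1]; group
      · calc t = g⁻¹ * (g * t * g⁻¹) * g := by group
          _ = 1 := by rw [h]; group
    · intro h
      obtain ⟨g, hg⟩ := hcj x t h ht
      exact isConj_iff.mpr ⟨g, hg⟩
  have htN : t ∈ N := Subgroup.subset_normalClosure rfl
  have hNb : N ≠ ⊥ := by
    intro h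
    rw [h] at htN
    exact ht2.2 (Subgroup.mem_bot.mp htN)
  obtain ⟨V, hVN, hVn, hVb, hVmin⟩ := H73.SolvSmall.exists_minimal_normal (inferInstance : N.Normal) hNb
  have hVs : Group.IsSolvable V := Group.isSolvable_of_isSolvable_injective (Subgroup.inclusion_injective hVN)
  obtain ⟨r, hr, hVe⟩ := H30.FrobAct.min_elem V hVs hVb hVmin
  have hab : ∀ x ∈ V, ∀ y ∈ V, x * y = y * x := by
    intro x hx y hy
    exact congrArg Subtype.val (hVe.1.is_comm.comm (⟨x, hx⟩ : V) ⟨y, hy⟩)
  have hexp := hVe.2
  have : Fact r.Prime := ⟨hr⟩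
  have hr2 : r ≠ 2 := by
    rintro rfl
    obtain ⟨v, hv, hv1⟩ : ∃ v ∈ V, v ≠ 1 := by
      by_contra hcon
      push Not at hcon
      exact hVb (by rw [eq_bot_iff]; intro v hv; exact Subgroup.mem_bot.mpr (hcon v hv))
    have hvo : orderOf v = 2 := two_iff.mpr ⟨by rw [← pow_two]; exact hexp v hv, hv1⟩
    have h1 : ∀ x : G, orderOf x = 2 → x = v := by
      intro x hx
      obtain ⟨g, hg⟩ := hcj v x hvo hx
      have hxV : x ∈ V := by rw [← hg]; exact hVn.conj_mem v hv g
      exact hcm x v hx hvo (hab x hxV v hv)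
    have h2 : ninv G = 1 := by
      unfold ninv
      rw [Nat.card_eq_one_iff_unique]
      refine ⟨⟨fun a b => Subtype.ext ((h1 a a.2).trans (h1 b b.2).symm)⟩, ⟨⟨v, hvo⟩⟩⟩
    rw [hk] at h2
    have := (Nat.pow_eq_one.mp h2)
    rcases this with h | h
    · exact hp.one_lt.ne' h
    · omega
  have hVodd : Odd (Nat.card V) := by
    have hVp : IsPGroup r V := by
      intro x
      refine ⟨1, Subtype.ext ?_⟩
      rw [pow_one]
      exact hexp x x.2
    obtain ⟨s, hs⟩ := IsPGroup.iff_card.mp hVp
    rw [hs]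
    exact (hr.odd_of_ne_two hr2).pow
  obtain ⟨m, hm⟩ := card_invSub V hr hr2 hab hexp hi hj hij
  have hmul := card_mul V hVodd hab hcj ht
  rw [hk, hm] at hmul
  obtain ⟨k', hk'k, hk'⟩ := (Nat.dvd_prime_pow hp).mp ⟨_, hmul⟩
  rw [hk'] at hmul
  have hlt : Nat.card (G ⧸ V) < n := by
    rw [← hn, Subgroup.card_eq_card_quotient_mul_card_subgroup V]
    have h1 : 1 < Nat.card V := by
      rw [Subgroup.one_lt_card_iff_ne_bot]; exact hVb
    have h2 : 0 < Nat.card (G ⧸ V) := Nat.card_pos
    nlinarith
  have hmk : ∀ {a b c : G}, a * b = c → QuotientGroup.mk' V a * QuotientGroup.mk' V b = QuotientGroup.mk' V c := by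
    intro a b c h; rw [← map_mul, h]
  have hIH := ih _ hlt (G ⧸ V) k' (QuotientGroup.mk' V t) (QuotientGroup.mk' V i) (QuotientGroup.mk' V j)
    rfl (hcj.quot hVodd) (hcm.quot hVodd) hk' (mk_two hVodd ht) (hmk hi) (hmk hj)
    (by rw [hmk hij, map_mul, map_mul])
  -- comparison of the exponents
  have hkk : (m = 0 ∧ k = k') ∨ (1 ≤ m ∧ r = p ∧ k = k' + 2 * m) := by
    rcases Nat.eq_zero_or_pos m with h0 | h0
    · left
      refine ⟨h0, ?_⟩
      rw [h0, mul_zero, pow_zero, mul_one] at hmul
      exact Nat.pow_right_injective hp.two_le hmul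
    · right
      have hrp : r = p := by
        have h1 : r ∣ p ^ k := by
          rw [hmul]
          exact Dvd.dvd.mul_left (dvd_pow_self r (by omega)) _
        exact (Nat.prime_dvd_prime_iff_eq hr hp).mp (hr.dvd_of_dvd_pow h1)
      refine ⟨h0, hrp, ?_⟩
      rw [hrp, ← pow_add] at hmul
      exact Nat.pow_right_injective hp.two_le hmul
  have heven : Even k := by
    rcases hkk with ⟨_, h⟩ | ⟨_, _, h⟩
    · rw [h]; exact hIH.1
    · rw [h]; exact hIH.1.add (even_two_mul m)
  refine ⟨heven, fun h9 => ?_⟩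
  have hVcomm : Group.IsSolvable V := hVs
  by_cases hq : p ^ k' = 9
  · have hGq : Group.IsSolvable (G ⧸ V) := hIH.2 hq
    exact (Group.isSolvable_iff_subgroup_quotient V).mpr ⟨hVs, hGq⟩
  · -- then k' = 0
    have hk'0 : k' = 0 := by
      by_contra hne
      rcases hkk with ⟨_, h⟩ | ⟨h0, _, h⟩
      · rw [h] at h9; exact hq h9
      · have h1 : 2 ≤ k' := by
          obtain ⟨c, hc⟩ := hIH.1
          omega
        have h2 : 4 ≤ k := by omega
        have h3 : 2 ^ 4 ≤ p ^ k := (Nat.pow_le_pow_left hp.two_le 4).trans (Nat.pow_le_pow_right hp.pos h2)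
        omega
    rw [hk'0, pow_zero, one_mul] at hmul
    rw [hk'0, pow_zero] at hk'
    have hU9 : Nat.card (invSub V hab t) = 9 := by rw [hm, ← hmul, h9]
    exact nine V hVodd hab (fun M hM hMV => hVmin M hM hMV) hcj ht hk' hU9

end H73.Pyr
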